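import Cfsg.Agent.Lib.Fus.TwoRadical.Mono
import Cfsg.Agent.Lib.Fus.SUTwoRadical.Module
import Cfsg.Agent.Lib.Spor.FischerThm.Ident

/-!
When the monodromies at a point commute on its fibre group the radical acts trivially there.
-/

set_option autoImplicit false
set_option linter.unusedSectionVars false

namespace Cfsg.Agent.Fus.TwoRadical

open Cfsg Cfsg.Agent.Spor Cfsg.Agent.Fus.SUTwoRadical

variable {G H : Type*} [Group G] [Group H] {π : G →* H} {D : Set G}

/-- Monodromies at `d` commute on the group of its point. -/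
def MonComm (π : G →* H) (D : Set G) (d : G) : Prop :=
  ∀ m ∈ Mon D d, ∀ n ∈ Mon D d, ∀ a ∈ U π D (π d), m * n * a * (m * n)⁻¹ = n * m * a * (n * m)⁻¹

variable (h : Hyp π D) (cu : ∀ x ∈ π '' D, ∀ y ∈ π '' D, CU π D x y)
include h cu

/-- A triangle whose third member commutes with the third point of the first pair does not turn. -/
theorem tri_trivial {d e f : G} (hd : d ∈ D) (he : e ∈ D) (hf : f ∈ D) (a1 : ¬ Commute d e) (a2 : ¬ Commute e f)
    (a3 : ¬ Commute d f) (hc : Commute (π f) (π e * π d * π e)) {a : G} (ha : a ∈ U π D (π d)) :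
    (f * d * e) ^ 2 * a * ((f * d * e) ^ 2)⁻¹ = a := by
  set b := psi e a with hb
  have hbm : b ∈ U π D (π e) := psi_apart h cu hd he a1 ha
  have hz : e * a * e = a * b := conj_eq_psi e (U_sq h ha)
  have hzm : e * a * e ∈ U π D (π e * π d * π e) := U_conj_D h he ha
  have hfix := psi_of_commute h hf (U_fix h hf hc hzm) (U_sq h hzm)
  rw [hz] at hfix
  have hcm : Commute b (f * a * f) := by
    have h1 : f * a * f ∈ U π D (π (f * d * f)) := by simpa only [map_mul] using U_conj_D h hf ha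
    exact CU_mem h cu he (conj_mem' h hd hf) b hbm _ h1
  have hmul : psi f (a * b) = psi f a * psi f b := by
    simp only [psi]
    calc a * b * (f * (a * b) * f) = a * (b * (f * a * f)) * (f * b * f) := by
          simp only [mul_assoc, ThreeTrans.mul_self_mul h.three hf]
      _ = a * (f * a * f) * (b * (f * b * f)) := by rw [hcm.eq]; simp only [mul_assoc]
  rw [hmul] at hfix
  have e1 : psi f b = psi f a :=
    (inv_eq_of_mul_eq_one_right hfix).symm.trans (U_inv h (psi_apart h cu hd hf a3 ha))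
  have hm := mon_conj_U h hd (tri_mem he hf a1 a2 a3) ha
  have e2 := congrArg (psi d) ((tri h cu hd he hf a1 a2 a3 ha).symm.trans e1)
  rwa [psi_back h cu hd hf a3 hm, psi_back h cu hd hf a3 ha] at e2

/-- A turning triangle satisfies `M^2 + M = 1`. -/
theorem tri_quad {d e f : G} (hd : d ∈ D) (he : e ∈ D) (hf : f ∈ D) (a1 : ¬ Commute d e) (a2 : ¬ Commute e f)
    (a3 : ¬ Commute d f) (hc : ¬ Commute (π f) (π e * π d * π e)) {a : G} (ha : a ∈ U π D (π d)) :
    (f * d * e) ^ 2 * ((f * d * e) ^ 2 * a * ((f * d * e) ^ 2)⁻¹) * ((f * d * e) ^ 2)⁻¹ * a =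
      (f * d * e) ^ 2 * a * ((f * d * e) ^ 2)⁻¹ := by
  have hm := tri_mem he hf a1 a2 a3
  have key : ∀ {b : G}, b ∈ U π D (π d) → psi d (psi f (psi e b)) = (f * d * e) ^ 2 * b * ((f * d * e) ^ 2)⁻¹ :=
    fun {b} hb => by rw [tri h cu hd he hf a1 a2 a3 hb, psi_back h cu hd hf a3 (mon_conj_U h hd hm hb)]
  have hz : ¬ Commute (π (e * d * e)) (π f) := fun k => hc (by rw [← map_mul, ← map_mul]; exact k.symm)
  have := monodromy h hd he hf (apart_image h hd he a1) (apart_image h he hf a2) (apart_image h hd hf a3)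
    (CU_mem h cu hd he) (CU_mem h cu he hf) (CU_mem h cu hd hf) hz (CU_mem h cu (conj_mem' h hd he) hf) ha
  rwa [key ha, key (mon_conj_U h hd hm ha)] at this

/-- A triangle turns with order dividing three. -/
theorem tri_cube {d e f : G} (hd : d ∈ D) (he : e ∈ D) (hf : f ∈ D) (a1 : ¬ Commute d e) (a2 : ¬ Commute e f)
    (a3 : ¬ Commute d f) {a : G} (ha : a ∈ U π D (π d)) :
    ((f * d * e) ^ 2) ^ 3 * a * (((f * d * e) ^ 2) ^ 3)⁻¹ = a := by
  set m := (f * d * e) ^ 2 with hmdef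
  set b := m * a * m⁻¹ with hb
  have hbm : b ∈ U π D (π d) := mon_conj_U h hd (tri_mem he hf a1 a2 a3) ha
  have e3 : m ^ 3 * a * (m ^ 3)⁻¹ = m * (m * b * m⁻¹) * m⁻¹ := by rw [hb, pow_three]; group
  rw [e3]
  by_cases hc : Commute (π f) (π e * π d * π e)
  · have t := tri_trivial h cu hd he hf a1 a2 a3 hc ha
    rw [← hmdef, ← hb] at t
    rw [t, ← hb, t, ← hb, t]
  · have q := tri_quad h cu hd he hf a1 a2 a3 hc ha
    rw [← hmdef, ← hb] at q
    have q' : m * b * m⁻¹ = b * a := by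
      conv_rhs => rw [← q, mul_assoc, U_sq h ha, mul_one]
    rw [q', show m * (b * a) * m⁻¹ = (m * b * m⁻¹) * (m * a * m⁻¹) by group, q', ← hb, mul_assoc,
      (U_comm h ha hbm).eq, ← mul_assoc, U_sq h hbm, one_mul]

/-- Commuting monodromies leave the radical nothing to do. -/
theorem elementary_of_monComm [Finite G] (hD : IsThreeTranspositionClass D) (hZ : Subgroup.center G = ⊥)
    (hk : ∀ c, π c = 1 ↔ c ∈ pCore 2 G) {d : G} (hd : d ∈ D) (hmc : MonComm π D d) :
    IsElementaryAbelian 2 (pCore 2 G) := by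
  refine elementary_of_fix h hD hZ hk hd fun c hc a ha => ?_
  obtain ⟨m, hm, hk'⟩ := exists_mon h cu hD.2.2 hd (g := c) (by rw [hc, one_mul, inv_one, mul_one])
  have hcube : ∀ n ∈ Mon D d, ∀ b ∈ U π D (π d), n ^ 3 * b * (n ^ 3)⁻¹ = b := by
    intro n hn
    induction hn using Subgroup.closure_induction with
    | mem n hn =>
      obtain ⟨e, he, f, hf, a1, a2, a3, rfl⟩ := hn
      exact fun b hb => tri_cube h cu hd he hf a1 a2 a3 hb
    | one => intro b _; simp
    | mul p q hp hq ihp ihq =>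
      intro b hb
      have u1 := fun {x : G} (hx : x ∈ U π D (π d)) => mon_conj_U h hd hq hx
      have w := fun {x : G} (hx : x ∈ U π D (π d)) => hmc q hq p hp x hx
      have r1 : (p * q) ^ 3 * b * ((p * q) ^ 3)⁻¹ =
          p * (q * p * (q * (p * q * b * (p * q)⁻¹) * q⁻¹) * (q * p)⁻¹) * p⁻¹ := by rw [pow_three]; group
      have m1 : p * q * b * (p * q)⁻¹ ∈ U π D (π d) := mon_conj_U h hd (mul_mem hp hq) hb
      rw [r1, w (u1 m1)]
      have r2 : p * (p * q * (q * (p * q * b * (p * q)⁻¹) * q⁻¹) * (p * q)⁻¹) * p⁻¹ =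
          p * p * (q * q * (p * (q * b * q⁻¹) * p⁻¹) * (q * q)⁻¹) * (p * p)⁻¹ := by group
      rw [r2]
      have r3 : q * q * (p * (q * b * q⁻¹) * p⁻¹) * (q * q)⁻¹ = q * (q * p * (q * b * q⁻¹) * (q * p)⁻¹) * q⁻¹ := by
        group
      rw [r3, w (u1 hb), show q * (p * q * (q * b * q⁻¹) * (p * q)⁻¹) * q⁻¹ =
        q * p * (q * (q * b * q⁻¹) * q⁻¹) * (q * p)⁻¹ by group, w (u1 (u1 hb)),
        show p * p * (p * q * (q * (q * b * q⁻¹) * q⁻¹) * (p * q)⁻¹) * (p * p)⁻¹ =
          p ^ 3 * (q ^ 3 * b * (q ^ 3)⁻¹) * (p ^ 3)⁻¹ by rw [pow_three, pow_three]; group,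
        ihq b hb, ihp b hb]
    | inv p hp ih =>
      intro b hb
      have hb' := mon_conj_U h hd (pow_mem (inv_mem hp) 3) hb
      have := ih _ hb'
      rw [show p ^ 3 * (p⁻¹ ^ 3 * b * (p⁻¹ ^ 3)⁻¹) * (p ^ 3)⁻¹ = b by group] at this
      exact this.symm
  -- the action of `c` has order a power of two
  obtain ⟨k, hk2⟩ := h.two c hc
  have hpow : ∀ i : ℕ, ∀ b ∈ U π D (π d), c ^ i * b * (c ^ i)⁻¹ = m ^ i * b * (m ^ i)⁻¹ := by
    intro i
    induction i with
    | zero => simp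
    | succ i ih =>
      intro b hb
      rw [pow_succ, pow_succ, show c ^ i * c * b * (c ^ i * c)⁻¹ = c ^ i * (c * b * c⁻¹) * (c ^ i)⁻¹ by group,
        hk' b hb, ih _ (mon_conj_U h hd hm hb)]
      group
  have e2 := hpow (2 ^ k) a ha
  rw [hk2, one_mul, inv_one, mul_one] at e2
  have hper : ∀ i : ℕ, m ^ (3 * i) * a * (m ^ (3 * i))⁻¹ = a := by
    intro i
    induction i with
    | zero => simp
    | succ i ih =>
      rw [Nat.mul_succ, pow_add, show m ^ (3 * i) * m ^ 3 * a * (m ^ (3 * i) * m ^ 3)⁻¹ =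
        m ^ (3 * i) * (m ^ 3 * a * (m ^ 3)⁻¹) * (m ^ (3 * i))⁻¹ by group, hcube m hm a ha, ih]
  have hfin : m * a * m⁻¹ = a := by
    obtain ⟨i, hi⟩ | ⟨i, hi⟩ : (∃ i, 2 ^ k = 3 * i + 1) ∨ ∃ i, 2 ^ k = 3 * i + 2 := by
      have : (2 ^ k) % 3 ≠ 0 := fun e =>
        absurd (Nat.prime_three.dvd_of_dvd_pow (Nat.dvd_of_mod_eq_zero e)) (by decide)
      rcases (by omega : (2 ^ k) % 3 = 1 ∨ (2 ^ k) % 3 = 2) with e | e
      · exact Or.inl ⟨2 ^ k / 3, by omega⟩
      · exact Or.inr ⟨2 ^ k / 3, by omega⟩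
    · rw [hi, pow_add, pow_one] at e2
      have := e2.symm
      rw [show m ^ (3 * i) * m * a * (m ^ (3 * i) * m)⁻¹ = m * (m ^ (3 * i) * a * (m ^ (3 * i))⁻¹) * m⁻¹ by group,
        hper] at this
      exact this
    · have h1 := hper (i + 1)
      rw [Nat.mul_succ, show 3 * i + 3 = 1 + (3 * i + 2) by omega, pow_add, pow_one, ← hi,
        show m * m ^ (2 ^ k) * a * (m * m ^ (2 ^ k))⁻¹ = m * (m ^ (2 ^ k) * a * (m ^ (2 ^ k))⁻¹) * m⁻¹ by group,
        ← e2] at h1
      exact h1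
  exact mul_inv_eq_iff_eq_mul.1 ((hk' a ha).trans hfin)

/-- The class of points of a symplectic type gives an elementary abelian radical. -/
theorem elementary_of_rowAdd [Finite G] (hD : IsThreeTranspositionClass D) (hZ : Subgroup.center G = ⊥)
    (hk : ∀ c, π c = 1 ↔ c ∈ pCore 2 G) (hR : Spor.FischerThm.RowAdd (π '' D)) :
    IsElementaryAbelian 2 (pCore 2 G) := by
  obtain ⟨d, hd, -⟩ := hD.2.1
  have hfix : ∀ m ∈ Mon D d, ∀ a ∈ U π D (π d), m * a * m⁻¹ = a := by
    intro m hm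
    induction hm using Subgroup.closure_induction with
    | mem m hm =>
      obtain ⟨e, he, f, hf, a1, a2, a3, rfl⟩ := hm
      exact fun a ha => tri_trivial h cu hd he hf a1 a2 a3 (hR _ ⟨e, he, rfl⟩ _ ⟨d, hd, rfl⟩
        (apart_image h he hd fun k => a1 k.symm) _ ⟨f, hf, rfl⟩ (apart_image h hf he fun k => a2 k.symm)
        (apart_image h hf hd fun k => a3 k.symm)) ha
    | one => simp
    | mul p q hp hq ihp ihq =>
      intro a ha
      rw [show p * q * a * (p * q)⁻¹ = p * (q * a * q⁻¹) * p⁻¹ by group, ihq a ha, ihp a ha]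
    | inv p hp ih =>
      intro a ha
      conv_lhs => rw [← ih a ha]
      group
  exact elementary_of_monComm h cu hD hZ hk hd fun m hm n hn a ha => by
    rw [hfix _ (mul_mem hm hn) a ha, hfix _ (mul_mem hn hm) a ha]

end Cfsg.Agent.Fus.TwoRadical
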