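import Cfsg.Agent.Lib.Fus.TwoRadical.Closed
import Cfsg.Agent.Lib.Fus.TwoRadical.Flat

/-!
The radical acts centrally on the fibre groups; hence monodromies whose images commute, up to
elements acting trivially, commute on them and the radical is elementary abelian.
-/

set_option autoImplicit false
set_option linter.style.haveILetI false
set_option linter.unusedSectionVars false

namespace Cfsg.Agent.Fus.TwoRadical

open Cfsg Cfsg.Agent.Spor Cfsg.Agent.Fus.SUTwoRadical

universe u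

variable {G : Type u} [Group G] [Finite G] {H : Type*} [Group H] [Finite H] {π : G →* H} {D : Set G}
  (C : Ctx π D) (cu : ∀ x ∈ π '' D, ∀ y ∈ π '' D, CU π D x y)

/-- The group spanned by all fibre groups. -/
def Span (π : G →* H) (D : Set G) : Subgroup G :=
  Subgroup.closure (⋃ x ∈ π '' D, (U π D x : Set G))

include C

theorem point_conj (g : G) {x : H} (hx : x ∈ π '' D) : π g * x * (π g)⁻¹ ∈ π '' D := by
  obtain ⟨d, hd, rfl⟩ := hx
  exact ⟨g * d * g⁻¹, C.conj g hd, by simp⟩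

theorem span_conj (g : G) {a : G} (ha : a ∈ Span π D) : g * a * g⁻¹ ∈ Span π D := by
  have hle : Span π D ≤ (Span π D).comap (MulAut.conj g).toMonoidHom := by
    refine (Subgroup.closure_le _).2 fun b hb => ?_
    obtain ⟨x, hx, hb⟩ := Set.mem_iUnion₂.1 hb
    exact Subgroup.subset_closure (Set.mem_iUnion₂.2 ⟨_, point_conj C g hx, U_conj C.hyp g hb⟩)
  exact hle ha

theorem comm_radical {q : G} (hq : π q = 1) (g : G) : g * q * g⁻¹ * q⁻¹ ∈ Span π D := by
  have hgen : ∀ d ∈ D, d * q * d⁻¹ * q⁻¹ ∈ Span π D := fun d hd => by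
    have hd' := C.conj q hd
    have he : π (q * d * q⁻¹) = π d := by simp [hq]
    have := pair_mem (π := π) hd hd' he.symm
    refine Subgroup.subset_closure (Set.mem_iUnion₂.2 ⟨π d, ⟨d, hd, rfl⟩, ?_⟩)
    rw [ThreeTrans.inv_eq C.cls.1 hd, SetLike.mem_coe]
    simpa only [mul_assoc] using this
  induction C.cls.2.2 ▸ Subgroup.mem_top g using Subgroup.closure_induction_left with
  | one => simp
  | mul_left d hd t _ ih =>
    rw [show d * t * q * (d * t)⁻¹ * q⁻¹ = d * (t * q * t⁻¹ * q⁻¹) * d⁻¹ * (d * q * d⁻¹ * q⁻¹) by group]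
    exact mul_mem (span_conj C d ih) (hgen d hd)
  | inv_mul_cancel d hd t _ ih =>
    rw [ThreeTrans.inv_eq C.cls.1 hd,
      show d * t * q * (d * t)⁻¹ * q⁻¹ = d * (t * q * t⁻¹ * q⁻¹) * d⁻¹ * (d * q * d⁻¹ * q⁻¹) by group]
    exact mul_mem (span_conj C d ih) (hgen d hd)

include cu

theorem span_commute {x : H} (hx : x ∈ π '' D) {a b : G} (ha : a ∈ Span π D) (hb : b ∈ U π D x) :
    Commute a b := by
  have hle : Span π D ≤ Subgroup.centralizer {b} := by
    refine (Subgroup.closure_le _).2 fun c hc => ?_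
    obtain ⟨y, hy, hc⟩ := Set.mem_iUnion₂.1 hc
    exact Subgroup.mem_centralizer_singleton_iff.2 (cu y hy x hx c hc b hb).eq
  exact Subgroup.mem_centralizer_singleton_iff.1 (hle ha)

/-- The radical acts centrally. -/
theorem radical_central {q : G} (hq : π q = 1) (g : G) {x : H} (hx : x ∈ π '' D) {a : G}
    (ha : a ∈ U π D x) : g * q * a * (g * q)⁻¹ = q * g * a * (q * g)⁻¹ := by
  have h1 := U_conj C.hyp (q * g) ha
  have hp := point_conj C (q * g) hx
  have hc := span_commute C cu hp (comm_radical C hq g) h1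
  calc g * q * a * (g * q)⁻¹
      = g * q * g⁻¹ * q⁻¹ * (q * g * a * (q * g)⁻¹) * (g * q * g⁻¹ * q⁻¹)⁻¹ := by group
    _ = q * g * a * (q * g)⁻¹ := by rw [hc.eq, mul_inv_cancel_right]

omit C cu in
theorem mon_le_normalizer (h : Hyp π D) {d : G} (hd : d ∈ D) :
    Mon D d ≤ Subgroup.normalizer (U π D (π d) : Set G) := fun m hm =>
  Subgroup.mem_normalizer_iff.2 fun a => ⟨fun ha => mon_conj_U h hd hm ha, fun ha => by
    have := mon_conj_U h hd (inv_mem hm) ha
    simpa [mul_assoc] using this⟩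

/-- Monodromies with commuting images, up to elements acting trivially, commute. -/
theorem monComm_of_image {d : G} (hd : d ∈ D)
    (hcomm : ∀ e ∈ D, ∀ f ∈ D, ∀ e' ∈ D, ∀ f' ∈ D, ¬ Commute d e → ¬ Commute e f → ¬ Commute d f →
      ¬ Commute d e' → ¬ Commute e' f' → ¬ Commute d f' →
      ¬ Commute (π f) (π e * π d * π e) → ¬ Commute (π f') (π e' * π d * π e') →
      ∃ t : G, (∀ a ∈ U π D (π d), t * a * t⁻¹ = a) ∧ π t = π ((f * d * e) ^ 2) * π ((f' * d * e') ^ 2) *
        (π ((f * d * e) ^ 2))⁻¹ * (π ((f' * d * e') ^ 2))⁻¹) : MonComm π D d := by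
  set V := U π D (π d) with hV
  set N : Subgroup G := Subgroup.normalizer (V : Set G) with hN
  let ρ : N →* MulAut V := V.normalizerMonoidHom
  have hρ : ∀ (g : N) (a : V), ((ρ g a : V) : G) = g * a * (g : G)⁻¹ := fun g a => rfl
  have h := C.hyp
  have hle := mon_le_normalizer h hd
  have hqN : ∀ {q : G}, π q = 1 → q ∈ N := fun {q} hq => Subgroup.mem_normalizer_iff.2 fun a =>
    ⟨fun ha => by simpa [hq, hV] using U_conj h q ha, fun ha => by
      have := U_conj h q⁻¹ ha
      simpa [hq, hV, mul_assoc] using this⟩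
  let gens : Set G := {g | ∃ e ∈ D, ∃ f ∈ D, ¬ Commute d e ∧ ¬ Commute e f ∧ ¬ Commute d f ∧ g = (f * d * e) ^ 2}
  have hpair : ∀ m, (hm : m ∈ gens) → ∀ n, (hn : n ∈ gens) →
      Commute (ρ ⟨m, hle (Subgroup.subset_closure hm)⟩) (ρ ⟨n, hle (Subgroup.subset_closure hn)⟩) := by
    intro m hm n hn
    have hmN := hle (Subgroup.subset_closure hm)
    have hnN := hle (Subgroup.subset_closure hn)
    obtain ⟨e, he, f, hf, a1, a2, a3, em⟩ := id hm
    obtain ⟨e', he', f', hf', b1, b2, b3, en⟩ := id hn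
    have cube : ∀ {e f : G}, e ∈ D → f ∈ D → ¬ Commute d e → ¬ Commute e f → ¬ Commute d f →
        ∀ hk : (f * d * e) ^ 2 ∈ N, ρ ⟨_, hk⟩ ^ 3 = 1 := fun {e f} he hf c1 c2 c3 hk => by
      rw [← map_pow]
      exact MulEquiv.ext fun a => Subtype.ext ((hρ _ _).trans (by
        simpa using tri_cube h cu hd he hf c1 c2 c3 a.2))
    subst em en
    set M := ρ ⟨_, hmN⟩
    set M' := ρ ⟨_, hnN⟩
    by_cases hc : Commute (π f) (π e * π d * π e)
    · have : M = 1 := MulEquiv.ext fun a => Subtype.ext ((hρ _ _).trans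
        (tri_trivial h cu hd he hf a1 a2 a3 hc a.2))
      rw [this]; exact Commute.one_left _
    by_cases hc' : Commute (π f') (π e' * π d * π e')
    · have : M' = 1 := MulEquiv.ext fun a => Subtype.ext ((hρ _ _).trans
        (tri_trivial h cu hd he' hf' b1 b2 b3 hc' a.2))
      rw [this]; exact Commute.one_right _
    obtain ⟨t, ht, et⟩ := hcomm e he f hf e' he' f' hf' a1 a2 a3 b1 b2 b3 hc hc'
    have htN : t ∈ N := Subgroup.mem_normalizer_iff.2 fun a => ⟨fun ha => by rw [ht a ha]; exact ha, fun ha => by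
      have e1 := ht _ ha
      have : t * a * t⁻¹ = a := by
        have e2 := congrArg (fun z => t⁻¹ * z * t) e1
        simpa [mul_assoc] using e2
      rwa [← this]⟩
    set w : N := ⟨_, hmN⟩ * ⟨_, hnN⟩ * (⟨_, hmN⟩ : N)⁻¹ * (⟨_, hnN⟩ : N)⁻¹
    set q : N := (⟨t, htN⟩ : N)⁻¹ * w
    have hq : π (q : G) = 1 := by
      simp only [q, w, Subgroup.coe_mul, Subgroup.coe_inv, map_mul, map_inv, et]
      group
    have ht1 : ρ ⟨t, htN⟩ = 1 := MulEquiv.ext fun a => Subtype.ext ((hρ _ _).trans (ht a a.2))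
    have hcent : ∀ g : N, Commute (ρ g) (ρ q) := fun g => by
      show ρ g * ρ q = ρ q * ρ g
      rw [← map_mul, ← map_mul]
      exact MulEquiv.ext fun a => Subtype.ext (by
        rw [hρ, hρ]; exact radical_central C cu hq g ⟨d, hd, rfl⟩ a.2)
    have hw : ρ q = M * M' * M⁻¹ * M'⁻¹ := by
      simp only [q, w, map_mul, map_inv, ht1, inv_one, one_mul]
      rfl
    have e3 : ρ q ^ 3 = 1 := by
      have h1 : (M * M' * M⁻¹) ^ 3 = 1 := by
        rw [conj_pow, cube he' hf' b1 b2 b3 hnN, mul_one, mul_inv_cancel]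
      rw [show M * M' * M⁻¹ = ρ q * M' by rw [hw, inv_mul_cancel_right], ((hcent _).symm).mul_pow,
        cube he' hf' b1 b2 b3 hnN, mul_one] at h1
      exact h1
    have e2 : ∃ k : ℕ, ρ q ^ (2 ^ k) = 1 := by
      obtain ⟨k, hk⟩ := h.two _ hq
      exact ⟨k, by rw [← map_pow, show q ^ (2 ^ k) = 1 from Subtype.ext (by simpa using hk), map_one]⟩
    obtain ⟨k, e2⟩ := e2
    have e1 : ρ q = 1 := by
      have := pow_gcd_eq_one.2 ⟨e3, e2⟩
      rwa [(Nat.Coprime.pow_right k (by decide : Nat.Coprime 3 2)).gcd_eq_one, pow_one] at this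
    rw [hw, mul_inv_eq_one, mul_inv_eq_iff_eq_mul] at e1
    exact e1
  intro m hm n hn a ha
  have hkey : Commute (ρ ⟨m, hle hm⟩) (ρ ⟨n, hle hn⟩) := by
    have step : ∀ k, (hk : k ∈ gens) → ∀ n, (hn : n ∈ Mon D d) →
        Commute (ρ ⟨k, hle (Subgroup.subset_closure hk)⟩) (ρ ⟨n, hle hn⟩) := by
      intro k hk n hn
      induction hn using Subgroup.closure_induction with
      | mem x hx => exact hpair k hk x hx
      | one => exact (map_one ρ).symm ▸ Commute.one_right _
      | mul x y hx hy ihx ihy =>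
        rw [show (⟨x * y, hle (mul_mem hx hy)⟩ : N) = ⟨x, hle hx⟩ * ⟨y, hle hy⟩ from rfl, map_mul]
        exact ihx.mul_right ihy
      | inv x hx ihx =>
        rw [show (⟨x⁻¹, hle (inv_mem hx)⟩ : N) = (⟨x, hle hx⟩ : N)⁻¹ from rfl, map_inv]
        exact ihx.inv_right
    induction hm using Subgroup.closure_induction with
    | mem x hx => exact step x hx n hn
    | one => exact (map_one ρ).symm ▸ Commute.one_left _
    | mul x y hx hy ihx ihy =>
      rw [show (⟨x * y, hle (mul_mem hx hy)⟩ : N) = ⟨x, hle hx⟩ * ⟨y, hle hy⟩ from rfl, map_mul]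
      exact ihx.mul_left ihy
    | inv x hx ihx =>
      rw [show (⟨x⁻¹, hle (inv_mem hx)⟩ : N) = (⟨x, hle hx⟩ : N)⁻¹ from rfl, map_inv]
      exact ihx.inv_left
  have := congrArg (fun φ : MulAut V => ((φ ⟨a, ha⟩ : V) : G)) hkey.eq
  simp only [← map_mul, hρ] at this
  exact this

/-- The radical is elementary abelian when monodromy images commute up to trivially acting elements. -/
theorem elementary_of_image {d : G} (hd : d ∈ D)
    (hcomm : ∀ e ∈ D, ∀ f ∈ D, ∀ e' ∈ D, ∀ f' ∈ D, ¬ Commute d e → ¬ Commute e f → ¬ Commute d f →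
      ¬ Commute d e' → ¬ Commute e' f' → ¬ Commute d f' →
      ¬ Commute (π f) (π e * π d * π e) → ¬ Commute (π f') (π e' * π d * π e') →
      ∃ t : G, (∀ a ∈ U π D (π d), t * a * t⁻¹ = a) ∧ π t = π ((f * d * e) ^ 2) * π ((f' * d * e') ^ 2) *
        (π ((f * d * e) ^ 2))⁻¹ * (π ((f' * d * e') ^ 2))⁻¹) : IsElementaryAbelian 2 (pCore 2 G) :=
  elementary_of_monComm C.hyp cu C.cls C.cen C.ker hd (monComm_of_image C cu hd hcomm)

end Cfsg.Agent.Fus.TwoRadical
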