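import Cfsg.Agent.Lib.Fus.TwoRadical.Reduce

/-!
Lifts of a set of anchors acting without fixed points on fibres pick one member in every fibre; when any
two points share an anchor the members picked generate a complement.
-/

set_option autoImplicit false
set_option linter.style.haveILetI false
set_option linter.unusedSectionVars false

namespace Cfsg.Agent.Fus.TwoRadical

open Cfsg Cfsg.Agent.Spor Cfsg.Agent.Fus.SUTwoRadical

universe u v

variable {G : Type u} [Group G] [Finite G] {H : Type v} [Group H] [Finite H] {π : G →* H} {D : Set G}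
  (C : Ctx π D) (cu : ∀ x ∈ π '' D, ∀ y ∈ π '' D, CU π D x y)

/-- An anchor of a point fixes it and nothing in its group. -/
def Anch {G H : Type*} [Group G] [Group H] (π : G →* H) (D : Set G) (σ : H → G) (g x : H) : Prop :=
  g * x * g⁻¹ = x ∧ ∀ a ∈ U π D x, σ g * a * (σ g)⁻¹ = a → a = 1

include C

theorem exists_apart {d : G} (hd : d ∈ D) : ∃ e ∈ D, ¬ Commute d e := by
  by_contra hno
  push Not at hno
  refine ThreeTrans.ne_one C.cls.1 hd ?_
  have hz : d ∈ Subgroup.center G := Subgroup.mem_center_iff.2 fun g =>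
    Subgroup.mem_centralizer_singleton_iff.1 (((Subgroup.closure_le _).2 fun e he =>
      Subgroup.mem_centralizer_singleton_iff.2 (hno e he).eq.symm : Subgroup.closure D ≤ Subgroup.centralizer {d})
      (C.cls.2.2 ▸ Subgroup.mem_top g))
  rwa [C.cen, Subgroup.mem_bot] at hz

include cu

/-- A fibre is a coset of its group. -/
theorem shift_mem {d : G} (hd : d ∈ D) {a : G} (ha : a ∈ U π D (π d)) : d * a ∈ D := by
  have h := C.hyp
  obtain ⟨e, he, hn⟩ := exists_apart C hd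
  have hb := psi_apart h cu hd he hn ha
  set b := psi e a
  have hab : psi d b = a := psi_back h cu hd he hn ha
  have hc : Commute b (d * b * d) :=
    CU_mem h cu he (conj_mem' h he hd) b hb _ (by simpa only [map_mul] using U_conj_D h hd hb)
  have e1 : d * a = b * d * b⁻¹ := by
    rw [← hab, psi, hc.eq, U_inv h hb]
    simp only [← mul_assoc, ThreeTrans.mul_self C.cls.1 hd, one_mul]
  rw [e1]
  exact C.conj b hd

/-- A fixed-point-free anchor fixes exactly one member of a fibre. -/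
theorem fixed_member {σ : H → G} {g : H} (hσ : π (σ g) = g) {x : H} (hx : x ∈ π '' D) (hA : Anch π D σ g x) :
    ∃! s, (s ∈ D ∧ π s = x) ∧ σ g * s * (σ g)⁻¹ = s := by
  classical
  have h := C.hyp
  obtain ⟨d, hd, rfl⟩ := hx
  set t := σ g
  have hUU : ∀ {a : G}, a ∈ U π D (π d) → t * a * t⁻¹ ∈ U π D (π d) := fun ha => by
    have := U_conj h t ha
    rwa [hσ, hA.1] at this
  let φ : U π D (π d) → U π D (π d) := fun a => ⟨(a : G) * (t * a * t⁻¹)⁻¹, mul_mem a.2 (inv_mem (hUU a.2))⟩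
  have hφ : Function.Bijective φ := by
    refine Finite.injective_iff_bijective.1 fun a b e => ?_
    have e' : (a : G) * (t * a * t⁻¹)⁻¹ = b * (t * b * t⁻¹)⁻¹ := congrArg Subtype.val e
    refine Subtype.ext (inv_mul_eq_one.1 (hA.2 _ (mul_mem (inv_mem b.2) a.2) ?_)).symm
    calc t * ((b : G)⁻¹ * a) * t⁻¹ = (b : G)⁻¹ * ((b : G) * (t * b * t⁻¹)⁻¹) * (t * a * t⁻¹) := by group
      _ = (b : G)⁻¹ * ((a : G) * (t * a * t⁻¹)⁻¹) * (t * a * t⁻¹) := by rw [e']
      _ = _ := by group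
  have hc : d⁻¹ * (t * d * t⁻¹) ∈ U π D (π d) := by
    have hd' := C.conj t hd
    have := pair_mem (π := π) hd hd' (by rw [map_mul, map_mul, map_inv, hσ, hA.1])
    rwa [ThreeTrans.inv_eq C.cls.1 hd]
  obtain ⟨a, ha⟩ := hφ.2 ⟨_, hc⟩
  have ha' : (a : G) * (t * a * t⁻¹)⁻¹ = d⁻¹ * (t * d * t⁻¹) := congrArg Subtype.val ha
  refine ⟨d * a, ⟨⟨shift_mem C cu hd a.2, by rw [map_mul, U_ker h a.2, mul_one]⟩, ?_⟩, ?_⟩
  · rw [show t * (d * a) * t⁻¹ = d * (d⁻¹ * (t * d * t⁻¹)) * (t * a * t⁻¹) by group, ← ha',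
      mul_assoc d, inv_mul_cancel_right]
  · rintro s ⟨⟨hs, hsd⟩, hfix⟩
    have hb : d⁻¹ * s ∈ U π D (π d) := by
      have := pair_mem (π := π) hd hs hsd.symm
      rwa [ThreeTrans.inv_eq C.cls.1 hd]
    have e1 : φ ⟨_, hb⟩ = φ a := by
      rw [ha]
      refine Subtype.ext ?_
      show d⁻¹ * s * (t * (d⁻¹ * s) * t⁻¹)⁻¹ = d⁻¹ * (t * d * t⁻¹)
      rw [show t * (d⁻¹ * s) * t⁻¹ = (t * d * t⁻¹)⁻¹ * (t * s * t⁻¹) by group, hfix]
      group
    rw [← congrArg Subtype.val (hφ.1 e1)]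
    simp

omit cu in
/-- A choice of one member in every fibre compatible with conjugation gives a complement. -/
theorem complement_of_section (hel : IsElementaryAbelian 2 (pCore 2 G)) (hne : ∀ d ∈ D, π d ≠ 1) (s : H → G)
    (hs : ∀ x ∈ π '' D, s x ∈ D ∧ π (s x) = x)
    (hgenL : ∀ a ∈ π '' D, ∀ u ∈ π '' D, s a * s u * s a = s (a * u * a)) :
    ∃ K : Subgroup G, (pCore 2 G).IsComplement' K := by
  classical
  haveI : (pCore 2 G).Normal := Grp.pCore_isNormal
  have h := C.hyp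
  have hE := C.cls' hne
  set K := Subgroup.closure (s '' (π '' D))
  have hfix : ∀ k ∈ K, ∀ u ∈ π '' D, k * s u * k⁻¹ = s (π k * u * (π k)⁻¹) := by
    intro k hk
    induction hk using Subgroup.closure_induction_left with
    | one => intro u _; simp
    | mul_left e he t _ ih =>
      intro u hu
      obtain ⟨a, ha, rfl⟩ := he
      rw [show s a * t * s u * (s a * t)⁻¹ = s a * (t * s u * t⁻¹) * (s a)⁻¹ by group, ih u hu,
        ThreeTrans.inv_eq C.cls.1 (hs a ha).1, hgenL a ha _ (point_conj C t hu), map_mul, (hs a ha).2, mul_inv_rev,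
        ThreeTrans.inv_eq hE.1 ha]
      simp only [mul_assoc]
    | inv_mul_cancel e he t _ ih =>
      intro u hu
      obtain ⟨a, ha, rfl⟩ := he
      rw [ThreeTrans.inv_eq C.cls.1 (hs a ha).1,
        show s a * t * s u * (s a * t)⁻¹ = s a * (t * s u * t⁻¹) * (s a)⁻¹ by group, ih u hu,
        ThreeTrans.inv_eq C.cls.1 (hs a ha).1, hgenL a ha _ (point_conj C t hu), map_mul, (hs a ha).2, mul_inv_rev,
        ThreeTrans.inv_eq hE.1 ha]
      simp only [mul_assoc]
  refine ⟨K, Subgroup.isComplement'_of_disjoint_and_mul_eq_univ ?_ ?_⟩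
  · rw [disjoint_iff, eq_bot_iff]
    rintro q ⟨hq, hqK⟩
    have hq1 := (C.ker q).2 hq
    rw [← C.cen]
    refine Subgroup.mem_center_iff.2 fun g => ?_
    have hle : Subgroup.closure D ≤ Subgroup.centralizer {q} := (Subgroup.closure_le _).2 fun d hd => by
      rw [SetLike.mem_coe, Subgroup.mem_centralizer_singleton_iff]
      have hu : π d ∈ π '' D := ⟨d, hd, rfl⟩
      have h1 := hfix q hqK _ hu
      rw [hq1, one_mul, inv_one, mul_one] at h1
      have hc : Commute q (s (π d)) := mul_inv_eq_iff_eq_mul.1 h1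
      have hm := pair_mem (π := π) (hs _ hu).1 hd (hs _ hu).2
      have hc' : Commute q (s (π d) * d) := congrArg Subtype.val
        (hel.1.is_comm.comm (⟨q, hq⟩ : pCore 2 G) ⟨_, (C.ker _).1 (U_ker h hm)⟩)
      have := hc.mul_right hc'
      rw [ThreeTrans.mul_self_mul C.cls.1 (hs _ hu).1] at this
      exact this.eq.symm
    exact Subgroup.mem_centralizer_singleton_iff.1 (hle (C.cls.2.2 ▸ Subgroup.mem_top g))
  · rw [← Subgroup.normal_mul, Subgroup.coe_eq_univ, eq_top_iff]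
    intro g _
    have himg : (⊤ : Subgroup H) ≤ K.map π := by
      rw [← hE.2.2, Subgroup.closure_le]
      exact fun u hu => ⟨s u, Subgroup.subset_closure ⟨u, hu, rfl⟩, (hs u hu).2⟩
    obtain ⟨k, hk, e⟩ := himg (Subgroup.mem_top (π g))
    rw [show g = g * k⁻¹ * k by group]
    exact mul_mem (Subgroup.mem_sup_left ((C.ker _).1 (by rw [map_mul, map_inv, e, mul_inv_cancel])))
      (Subgroup.mem_sup_right hk)

/-- Anchors for all pairs of points give a complement. -/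
theorem complement_of_anchors (hel : IsElementaryAbelian 2 (pCore 2 G)) (hne : ∀ d ∈ D, π d ≠ 1)
    (A : Set H) (σ : H → G) (hσ : ∀ g ∈ A, π (σ g) = g)
    (hcomm : ∀ g ∈ A, ∀ g' ∈ A, Commute g g' → Commute (σ g) (σ g'))
    (hlink : ∀ x ∈ π '' D, ∀ g ∈ A, ∀ g' ∈ A, Anch π D σ g x → Anch π D σ g' x →
      ∃ w ∈ A, Anch π D σ w x ∧ Commute g w ∧ Commute w g')
    (hpair : ∀ a ∈ π '' D, ∀ b ∈ π '' D, ∃ g ∈ A, Anch π D σ g a ∧ Anch π D σ g b ∧ Anch π D σ g (a * b * a)) :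
    ∃ K : Subgroup G, (pCore 2 G).IsComplement' K := by
  classical
  haveI : (pCore 2 G).Normal := Grp.pCore_isNormal
  have h := C.hyp
  have hE := C.cls' hne
  have hex : ∀ x ∈ π '' D, ∃ g, g ∈ A ∧ Anch π D σ g x := fun x hx => by
    obtain ⟨g, hg, h1, -⟩ := hpair x hx x hx
    exact ⟨g, hg, h1⟩
  have hS : ∀ x ∈ π '' D, ∃ s, (s ∈ D ∧ π s = x) ∧
      ∀ g ∈ A, Anch π D σ g x → σ g * s * (σ g)⁻¹ = s := by
    intro x hx
    obtain ⟨g0, hg0, hA0⟩ := hex x hx
    obtain ⟨s, hs, -⟩ := fixed_member C cu (hσ g0 hg0) hx hA0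
    refine ⟨s, hs.1, fun g hg hA => ?_⟩
    have step : ∀ {g g' : H}, g ∈ A → g' ∈ A → Anch π D σ g x → Anch π D σ g' x → Commute g g' →
        σ g * s * (σ g)⁻¹ = s → σ g' * s * (σ g')⁻¹ = s := by
      intro g g' hg hg' hA hA' hc hfix
      obtain ⟨s0, -, huniq⟩ := fixed_member C cu (hσ g hg) hx hA
      rw [huniq s ⟨hs.1, hfix⟩]
      refine huniq _ ⟨⟨C.conj _ (huniq s ⟨hs.1, hfix⟩ ▸ hs.1.1), ?_⟩, ?_⟩
      · rw [← huniq s ⟨hs.1, hfix⟩, map_mul, map_mul, map_inv, hs.1.2, hσ g' hg', hA'.1]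
      · rw [← huniq s ⟨hs.1, hfix⟩]
        calc σ g * (σ g' * s * (σ g')⁻¹) * (σ g)⁻¹
            = (σ g * σ g') * s * (σ g * σ g')⁻¹ := by group
          _ = σ g' * (σ g * s * (σ g)⁻¹) * (σ g')⁻¹ := by rw [(hcomm g hg g' hg' hc).eq]; group
          _ = _ := by rw [hfix]
    obtain ⟨w, hw, hAw, c1, c2⟩ := hlink x hx g0 hg0 g hg hA0 hA
    exact step hw hg hAw hA c2 (step hg0 hw hA0 hAw c1 hs.2)
  choose! s hs hfixs using hS
  have hgenL : ∀ a ∈ π '' D, ∀ u ∈ π '' D, s a * s u * s a = s (a * u * a) := by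
    intro a ha u hu
    obtain ⟨g, hg, A1, A2, A3⟩ := hpair a ha u hu
    have hau : a * u * a ∈ π '' D := by simpa [ThreeTrans.inv_eq hE.1 ha] using ThreeTrans.conj_mem hE a hu
    refine ExistsUnique.unique (fixed_member C cu (hσ g hg) hau A3) ⟨⟨?_, ?_⟩, ?_⟩
      ⟨hs _ hau, hfixs _ hau g hg A3⟩
    · exact conj_mem' h (hs u hu).1 (hs a ha).1
    · rw [map_mul, map_mul, (hs a ha).2, (hs u hu).2]
    · have e1 := hfixs a ha g hg A1
      have e2 := hfixs u hu g hg A2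
      calc σ g * (s a * s u * s a) * (σ g)⁻¹ = (σ g * s a * (σ g)⁻¹) * (σ g * s u * (σ g)⁻¹) *
            (σ g * s a * (σ g)⁻¹) := by group
        _ = _ := by rw [e1, e2]
  exact complement_of_section C hel hne s (fun x hx => hs x hx) hgenL

omit cu in
/-- An element without fixed points on the radical has commuting lifts for its centraliser. -/
theorem exists_lifts (hel : IsElementaryAbelian 2 (pCore 2 G)) {t : G}
    (hA : ∀ q ∈ pCore 2 G, t * q * t⁻¹ = q → q = 1) :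
    ∃ σ : H → G, (∀ g, Commute g (π t) → π (σ g) = g) ∧
      ∀ g g', Commute g (π t) → Commute g' (π t) → Commute g g' → Commute (σ g) (σ g') := by
  classical
  haveI : (pCore 2 G).Normal := Grp.pCore_isNormal
  have cm : ∀ {a b : G}, a ∈ pCore 2 G → b ∈ pCore 2 G → Commute a b := fun {a b} ha hb =>
    congrArg Subtype.val (hel.1.is_comm.comm (⟨a, ha⟩ : pCore 2 G) ⟨b, hb⟩)
  have cj : ∀ {a : G}, a ∈ pCore 2 G → t * a * t⁻¹ ∈ pCore 2 G := fun ha => Grp.pCore_isNormal.conj_mem _ ha t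
  let φ : pCore 2 G → pCore 2 G := fun q => ⟨(q : G) * (t * q * t⁻¹)⁻¹, mul_mem q.2 (inv_mem (cj q.2))⟩
  have hφ : Function.Bijective φ := by
    refine Finite.injective_iff_bijective.1 fun a b e => Subtype.ext ?_
    have e' : (a : G) * (t * a * t⁻¹)⁻¹ = b * (t * b * t⁻¹)⁻¹ := congrArg Subtype.val e
    refine inv_mul_eq_one.1 ((hA _ (mul_mem (inv_mem b.2) a.2) ?_)) |>.symm
    calc t * ((b : G)⁻¹ * a) * t⁻¹ = (t * b * t⁻¹)⁻¹ * (t * a * t⁻¹) := by group
      _ = (b : G)⁻¹ * ((b : G) * (t * b * t⁻¹)⁻¹) * (t * a * t⁻¹) := by group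
      _ = (b : G)⁻¹ * ((a : G) * (t * a * t⁻¹)⁻¹) * (t * a * t⁻¹) := by rw [e']
      _ = _ := by group
  have key : ∀ g, Commute g (π t) → ∃! l, π l = g ∧ Commute l t := by
    intro g hg
    obtain ⟨l0, hl0⟩ := C.surj g
    have hc : l0⁻¹ * (t * l0 * t⁻¹) ∈ pCore 2 G := (C.ker _).1 (by
      rw [map_mul, map_mul, map_mul, map_inv, map_inv, hl0, ← hg.eq]; group)
    obtain ⟨q, hq⟩ := hφ.2 ⟨_, hc⟩
    have hq' : (q : G) * (t * q * t⁻¹)⁻¹ = l0⁻¹ * (t * l0 * t⁻¹) := congrArg Subtype.val hq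
    refine ⟨l0 * q, ⟨by rw [map_mul, (C.ker _).2 q.2, hl0, mul_one], (mul_inv_eq_iff_eq_mul.1 ?_).symm⟩, ?_⟩
    · rw [show t * (l0 * q) * t⁻¹ = l0 * (l0⁻¹ * (t * l0 * t⁻¹)) * (t * q * t⁻¹) by group, ← hq',
        mul_assoc l0, inv_mul_cancel_right]
    · rintro l ⟨hl, hlc⟩
      have hb : l0⁻¹ * l ∈ pCore 2 G := (C.ker _).1 (by rw [map_mul, map_inv, hl0, hl, inv_mul_cancel])
      have e1 : φ ⟨_, hb⟩ = φ q := by
        rw [hq]
        refine Subtype.ext ?_
        show l0⁻¹ * l * (t * (l0⁻¹ * l) * t⁻¹)⁻¹ = l0⁻¹ * (t * l0 * t⁻¹)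
        rw [show t * (l0⁻¹ * l) * t⁻¹ = (t * l0 * t⁻¹)⁻¹ * (t * l * t⁻¹) by group, ← hlc.eq,
          mul_inv_cancel_right]
        group
      rw [← congrArg Subtype.val (hφ.1 e1)]
      simp
  refine ⟨fun g => if hg : Commute g (π t) then (key g hg).exists.choose else 1, fun g hg => ?_,
    fun g g' hg hg' hc => ?_⟩
  · simp only [dif_pos hg]; exact (key g hg).exists.choose_spec.1
  · simp only [dif_pos hg, dif_pos hg']
    set l := (key g hg).exists.choose
    set l' := (key g' hg').exists.choose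
    obtain ⟨el, cl⟩ := (key g hg).exists.choose_spec
    obtain ⟨el', cl'⟩ := (key g' hg').exists.choose_spec
    have := (key g' hg').unique (y₁ := l * l' * l⁻¹) (y₂ := l')
      ⟨by rw [map_mul, map_mul, map_inv, el, el', hc.eq, mul_inv_cancel_right], (cl.mul_left cl').mul_left cl.inv_left⟩
      ⟨el', cl'⟩
    exact mul_inv_eq_iff_eq_mul.1 this

end Cfsg.Agent.Fus.TwoRadical
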