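import Cfsg.Agent.Lib.Fus.SUTwoRadical.Module

/-!
Transport of one fibre group to another is conjugation by a product of two members.
-/

set_option autoImplicit false
set_option linter.unusedSectionVars false

namespace Cfsg.Agent.Fus.TwoRadical

open Cfsg Cfsg.Agent.Spor Cfsg.Agent.Fus.SUTwoRadical

variable {G H : Type*} [Group G] [Group H] {π : G →* H} {D : Set G}

/-- Conjugation by a product of a braided pair moves the first to the second. -/
theorem swap_conj (h : Hyp π D) {d e : G} (hd : d ∈ D) (he : e ∈ D) (hn : ¬ Commute d e) :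
    d * e * d * (d * e)⁻¹ = e := by
  rw [mul_inv_rev, ThreeTrans.inv_eq h.three hd, ThreeTrans.inv_eq h.three he,
    ThreeTrans.braid h.three hd he hn]
  simp only [mul_assoc, ThreeTrans.mul_self_mul h.three he, ThreeTrans.mul_self h.three hd, mul_one]

theorem apart_image (h : Hyp π D) {d e : G} (hd : d ∈ D) (he : e ∈ D) (hn : ¬ Commute d e) :
    ¬ Commute (π d) (π e) := fun k => hn (commute_image h hd he k)

theorem apart_conj (h : Hyp π D) {d v : G} (hd : d ∈ D) (hv : v ∈ D) (hn : ¬ Commute d v) :
    ¬ Commute d (v * d * v) ∧ ¬ Commute v (v * d * v) := by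
  have hb := ThreeTrans.braid h.three hd hv hn
  have key : ∀ {a b : G}, a ∈ D → Commute a (a * b * a) → Commute a b := fun {a b} ha k => by
    have := k.map (MulAut.conj a).toMonoidHom
    simpa [ThreeTrans.inv_eq h.three ha, mul_assoc, ThreeTrans.mul_self_mul h.three ha,
      ThreeTrans.mul_self h.three ha] using this
  exact ⟨fun k => hn (key hd (hb ▸ k)), fun k => hn (key hv k).symm⟩

theorem conj_mem' (h : Hyp π D) {v d : G} (hd : d ∈ D) (hv : v ∈ D) : v * d * v ∈ D := by
  simpa [ThreeTrans.inv_eq h.three hv] using h.conj v d hd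

variable (h : Hyp π D) (cu : ∀ x ∈ π '' D, ∀ y ∈ π '' D, CU π D x y)
include h cu

theorem CU_mem {d e : G} (hd : d ∈ D) (he : e ∈ D) : CU π D (π d) (π e) :=
  cu _ ⟨d, hd, rfl⟩ _ ⟨e, he, rfl⟩

theorem psi_congr {d e e' : G} (hd : d ∈ D) (he : e ∈ D) (he' : e' ∈ D) (hee : π e' = π e) {a : G}
    (ha : a ∈ U π D (π d)) : psi e' a = psi e a := by
  have hu := pair_mem (π := π) he he' hee.symm
  have hc : Commute a (e * e') := CU_mem h cu hd he a ha _ hu
  have e1 : e' = e * (e * e') := (ThreeTrans.mul_self_mul h.three he _).symm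
  have e2 : e' * a * e' = e * a * e := by
    have hcomm := commute_image h he he' (by rw [hee])
    calc e' * a * e' = e * ((e * e') * a) * e' := by
          simp only [mul_assoc, ThreeTrans.mul_self_mul h.three he]
      _ = e * (a * (e * e')) * e' := by rw [hc.eq]
      _ = e * a * e := by simp only [mul_assoc, ThreeTrans.mul_self h.three he', mul_one]
  show a * (e' * a * e') = a * (e * a * e)
  rw [e2]

/-- Transport to the third point of a line is conjugation. -/
theorem psi_line {y e : G} (hy : y ∈ D) (he : e ∈ D) (hn : ¬ Commute y e) {b : G}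
    (hb : b ∈ U π D (π y)) : psi (e * y * e) b = e * b * e := by
  have hz := conj_mem' h hy he
  obtain ⟨-, k⟩ := psi_spec h hy he rfl (apart_image h hy he hn) (CU_mem h cu hy he) hb
  have hyby : y * b * y = b := by
    rw [(U_fix h hy (Commute.refl _) hb).eq, mul_assoc, ThreeTrans.mul_self h.three hy, mul_one]
  have h1 : y * (e * b * e) * y = b * (e * b * e) := by
    rw [conj_eq_psi e (U_sq h hb)]
    calc y * (b * psi e b) * y = (y * b * y) * (y * psi e b * y) := by
          simp only [mul_assoc, ThreeTrans.mul_self_mul h.three hy]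
      _ = b * (b * psi e b) := by rw [hyby, k y hy rfl, conj_eq_psi e (U_sq h hb)]
  have hc : Commute b (e * b * e) := by
    refine CU_mem h cu hy hz b hb _ ?_
    simpa only [map_mul] using U_conj_D h he hb
  calc psi (e * y * e) b = b * (e * (y * (e * b * e) * y) * e) := by
        simp only [psi, mul_assoc]
    _ = b * (e * b * e) * b := by
        rw [h1]; simp only [mul_assoc, ThreeTrans.mul_self h.three he, mul_one]
    _ = e * b * e := by rw [hc.eq, mul_assoc, U_sq h hb, mul_one]

theorem psi_apart {d e : G} (hd : d ∈ D) (he : e ∈ D) (hn : ¬ Commute d e) {a : G}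
    (ha : a ∈ U π D (π d)) : psi e a ∈ U π D (π e) :=
  psi_mem h hd he (apart_image h hd he hn) (CU_mem h cu hd he) ha

theorem psi_back {d e : G} (hd : d ∈ D) (he : e ∈ D) (hn : ¬ Commute d e) {a : G}
    (ha : a ∈ U π D (π d)) : psi d (psi e a) = a :=
  psi_psi h hd he (apart_image h hd he hn) (CU_mem h cu hd he) ha

/-- Transport as a conjugation. -/
theorem psi_eq_conj {d e : G} (hd : d ∈ D) (he : e ∈ D) (hn : ¬ Commute d e) {a : G}
    (ha : a ∈ U π D (π d)) : psi e a = d * e * a * (d * e)⁻¹ := by
  obtain ⟨-, k⟩ := psi_spec h hd he rfl (apart_image h hd he hn) (CU_mem h cu hd he) ha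
  rw [mul_inv_rev, ThreeTrans.inv_eq h.three hd, ThreeTrans.inv_eq h.three he]
  calc psi e a = d * (d * psi e a * d) * d := by
        simp only [mul_assoc, ThreeTrans.mul_self_mul h.three hd, ThreeTrans.mul_self h.three hd, mul_one]
    _ = d * e * a * (e * d) := by rw [k d hd rfl]; simp only [mul_assoc]

end Cfsg.Agent.Fus.TwoRadical
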