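import Cfsg.Agent.Lib.Fus.TwoRadical.Reduce

/-!
When the turning triangles act through central elements the radical is elementary abelian and the
normaliser of the central Sylow 3-subgroup is a complement, unless no triangle turns.
-/

set_option autoImplicit false
set_option linter.style.haveILetI false
set_option linter.unusedSectionVars false

namespace Cfsg.Agent.Fus.TwoRadical

open Cfsg Cfsg.Agent.Spor Cfsg.Agent.Fus.SUTwoRadical

universe u v

variable {G : Type u} [Group G] [Finite G] {H : Type v} [Group H] [Finite H] {π : G →* H} {D : Set G}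
  (C : Ctx π D) (cu : ∀ x ∈ π '' D, ∀ y ∈ π '' D, CU π D x y)

/-- The turning triangles act through central elements. -/
def ImgCentral (π : G →* H) (D : Set G) : Prop :=
  ∀ d ∈ D, ∀ e ∈ D, ∀ f ∈ D, ¬ Commute d e → ¬ Commute e f → ¬ Commute d f →
    ¬ Commute (π f) (π e * π d * π e) →
    ∃ t : G, (∀ a ∈ U π D (π d), t * a * t⁻¹ = a) ∧ (π t)⁻¹ * π ((f * d * e) ^ 2) ∈ Subgroup.center H

omit [Finite G] [Finite H] in
theorem fix_inv {V : Subgroup G} {t : G} (ht : ∀ a ∈ V, t * a * t⁻¹ = a) : ∀ a ∈ V, t⁻¹ * a * t⁻¹⁻¹ = a :=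
  fun a ha => by
    conv_lhs => rw [← ht a ha]
    group

include C cu

/-- Central images make the radical elementary abelian. -/
theorem elementary_of_central (hI : ImgCentral π D) : IsElementaryAbelian 2 (pCore 2 G) := by
  obtain ⟨d, hd, -⟩ := C.cls.2.1
  refine elementary_of_image C cu hd fun e he f hf e' he' f' hf' a1 a2 a3 b1 b2 b3 hc hc' => ?_
  obtain ⟨t, ht, hz⟩ := hI d hd e he f hf a1 a2 a3 hc
  obtain ⟨t', ht', hz'⟩ := hI d hd e' he' f' hf' b1 b2 b3 hc'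
  refine ⟨t * t' * t⁻¹ * t'⁻¹, fun a ha => ?_, ?_⟩
  · have i1 := fix_inv ht
    have i2 := fix_inv ht'
    calc t * t' * t⁻¹ * t'⁻¹ * a * (t * t' * t⁻¹ * t'⁻¹)⁻¹
        = t * (t' * (t⁻¹ * (t'⁻¹ * a * t'⁻¹⁻¹) * t⁻¹⁻¹) * t'⁻¹) * t⁻¹ := by group
      _ = a := by rw [i2 a ha, i1 a ha, ht' a ha, ht a ha]
  · set z := (π t)⁻¹ * π ((f * d * e) ^ 2) with hzdef
    set z' := (π t')⁻¹ * π ((f' * d * e') ^ 2) with hzdef'
    rw [show π ((f * d * e) ^ 2) = π t * z by rw [hzdef, mul_inv_cancel_left],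
      show π ((f' * d * e') ^ 2) = π t' * z' by rw [hzdef', mul_inv_cancel_left]]
    have cz := fun g => (Subgroup.mem_center_iff.1 hz g : g * z = z * g)
    have cz' := fun g => (Subgroup.mem_center_iff.1 hz' g : g * z' = z' * g)
    simp only [map_mul, map_inv]
    calc π t * π t' * (π t)⁻¹ * (π t')⁻¹ = π t * π t' * (z * z⁻¹) * (π t)⁻¹ * (z' * z'⁻¹) * (π t')⁻¹ := by group
      _ = π t * (π t' * z) * z⁻¹ * ((π t)⁻¹ * z') * z'⁻¹ * (π t')⁻¹ := by group
      _ = π t * (z * π t') * z⁻¹ * (z' * (π t)⁻¹) * z'⁻¹ * (π t')⁻¹ := by rw [cz (π t'), cz' ((π t)⁻¹)]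
      _ = π t * z * π t' * (z⁻¹ * z') * (π t)⁻¹ * z'⁻¹ * (π t')⁻¹ := by group
      _ = π t * z * π t' * (z' * z⁻¹) * (π t)⁻¹ * z'⁻¹ * (π t')⁻¹ := by rw [cz' z⁻¹]
      _ = _ := by group

/-- Central images give a complement unless the rows add. -/
theorem complement_of_central (hI : ImgCentral π D)
    (hR : ¬ Spor.FischerThm.RowAdd (π '' D)) :
    IsElementaryAbelian 2 (pCore 2 G) ∧ ∃ K : Subgroup G, (pCore 2 G).IsComplement' K := by
  classical
  haveI : (pCore 2 G).Normal := Grp.pCore_isNormal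
  haveI : Fact (Nat.Prime 3) := ⟨Nat.prime_three⟩
  have h := C.hyp
  have hel := elementary_of_central C cu hI
  refine ⟨hel, ?_⟩
  haveI hTn : (pCore 3 H ⊓ Subgroup.center H).Normal := by
    haveI : (pCore 3 H).Normal := Grp.pCore_isNormal
    infer_instance
  refine complement_of_fixed C hel (pCore 3 H ⊓ Subgroup.center H)
    ((Transfer.pCore_isPGroup 3 H).to_le inf_le_left) fun x hx a ha hfix => ?_
  -- a turning triangle at the point
  simp only [Spor.FischerThm.RowAdd, not_forall] at hR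
  obtain ⟨_, ⟨e0, he0, rfl⟩, _, ⟨d0, hd0, rfl⟩, hab, _, ⟨f0, hf0, rfl⟩, hfa, hfb, hfc⟩ := hR
  obtain ⟨d', hd', rfl⟩ := hx
  obtain ⟨g, rfl⟩ := ThreeTrans.transitive C.cls hd0 hd'
  set d := g * d0 * g⁻¹
  set e := g * e0 * g⁻¹
  set f := g * f0 * g⁻¹
  have k : ∀ {a b : G}, ¬ Commute (π a) (π b) → ¬ Commute (g * a * g⁻¹) (g * b * g⁻¹) := fun {a b} hn k' =>
    hn (((ThreeTrans.commute_conj_iff g a b).1 k').map π)
  have hd : d ∈ D := C.conj g hd0
  have he : e ∈ D := C.conj g he0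
  have hf : f ∈ D := C.conj g hf0
  have a1 : ¬ Commute d e := fun k' => k (fun c => hab c.symm) k'
  have a2 : ¬ Commute e f := fun k' => k (fun c => hfa c.symm) k'
  have a3 : ¬ Commute d f := fun k' => k (fun c => hfb c.symm) k'
  have hc : ¬ Commute (π f) (π e * π d * π e) := fun k' => hfc ((ThreeTrans.commute_conj_iff (π g) _ _).1 (by
    simpa [d, e, f, mul_assoc] using k'))
  obtain ⟨t, ht, hz⟩ := hI d hd e he f hf a1 a2 a3 hc
  set m := (f * d * e) ^ 2
  set z := (π t)⁻¹ * π m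
  obtain ⟨i, r, hr, hzr⟩ := Nat.exists_eq_pow_mul_and_not_dvd (orderOf_pos z).ne' 3 (by norm_num)
  have hzT : z ^ r ∈ pCore 3 H ⊓ Subgroup.center H := by
    refine ⟨?_, pow_mem hz r⟩
    have hn : (Subgroup.zpowers (z ^ r)).Normal := ⟨fun w hw g' => by
      have := Subgroup.mem_center_iff.1 (Subgroup.zpowers_le.2 (pow_mem hz r) hw) g'
      rw [this, mul_inv_cancel_right]; exact hw⟩
    refine Grp.le_pCore hn (fun w => ⟨i, Subtype.ext ?_⟩) (Subgroup.mem_zpowers _)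
    obtain ⟨j, hj⟩ := Subgroup.mem_zpowers_iff.1 w.2
    rw [Subgroup.coe_pow, ← hj, Subgroup.coe_one, ← zpow_natCast, ← _root_.zpow_mul, mul_comm, _root_.zpow_mul,
      zpow_natCast, ← pow_mul, mul_comm, ← hzr, pow_orderOf_eq_one, one_zpow]
  have hmem : ∀ {b : G}, b ∈ U π D (π d) → m * b * m⁻¹ ∈ U π D (π d) := fun hb =>
    mon_conj_U h hd (tri_mem he hf a1 a2 a3) hb
  -- the triangle acts as a lift of the central element
  set c := t⁻¹ * m
  have hcm : ∀ j : ℕ, ∀ b ∈ U π D (π d), c ^ j * b * (c ^ j)⁻¹ = m ^ j * b * (m ^ j)⁻¹ := by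
    intro j
    induction j with
    | zero => simp
    | succ j ih =>
      intro b hb
      rw [pow_succ, show c ^ j * c * b * (c ^ j * c)⁻¹ = c ^ j * (t⁻¹ * (m * b * m⁻¹) * t⁻¹⁻¹) * (c ^ j)⁻¹ by
        simp only [c]; group, fix_inv ht _ (hmem hb), ih _ (hmem hb), pow_succ]
      group
  have hr' : m ^ r * a * (m ^ r)⁻¹ = a := by
    rw [← hcm r a ha]
    refine hfix _ ?_
    rw [map_pow, map_mul, map_inv]
    exact hzT
  have h3 := tri_cube h cu hd he hf a1 a2 a3 ha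
  have hpow : ∀ n : ℕ, m ^ n * a * (m ^ n)⁻¹ = a → ∀ j : ℕ, m ^ (n * j) * a * (m ^ (n * j))⁻¹ = a := by
    intro n hn j
    induction j with
    | zero => simp
    | succ j ih =>
      rw [Nat.mul_succ, pow_add, show m ^ (n * j) * m ^ n * a * (m ^ (n * j) * m ^ n)⁻¹ =
        m ^ (n * j) * (m ^ n * a * (m ^ n)⁻¹) * (m ^ (n * j))⁻¹ by group, hn, ih]
  have hm : m * a * m⁻¹ = a := by
    rcases (by omega : r % 3 = 1 ∨ r % 3 = 2) with e' | e'
    · have := hr'
      rw [show r = 3 * (r / 3) + 1 by omega, pow_succ,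
        show m ^ (3 * (r / 3)) * m * a * (m ^ (3 * (r / 3)) * m)⁻¹ =
          m * (m ^ (3 * (r / 3)) * a * (m ^ (3 * (r / 3)))⁻¹) * m⁻¹ by group, hpow 3 h3] at this
      exact this
    · have h2' : m ^ 2 * a * (m ^ 2)⁻¹ = a := by
        have := hr'
        rw [show r = 3 * (r / 3) + 2 by omega, pow_add,
          show m ^ (3 * (r / 3)) * m ^ 2 * a * (m ^ (3 * (r / 3)) * m ^ 2)⁻¹ =
            m ^ 2 * (m ^ (3 * (r / 3)) * a * (m ^ (3 * (r / 3)))⁻¹) * (m ^ 2)⁻¹ by group, hpow 3 h3] at this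
        exact this
      have := h3
      rw [show (3 : ℕ) = 1 + 2 from rfl, pow_add, pow_one,
        show m * m ^ 2 * a * (m * m ^ 2)⁻¹ = m * (m ^ 2 * a * (m ^ 2)⁻¹) * m⁻¹ by group, h2'] at this
      exact this
  have hq := tri_quad h cu hd he hf a1 a2 a3 hc ha
  rw [hm, hm, U_sq h ha] at hq
  exact hq.symm

end Cfsg.Agent.Fus.TwoRadical
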