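import Cfsg.Agent.Lib.Fus.SUTwoRadical.Fibre
import Cfsg.Agent.Lib.Spor.HallWidthOneQuot
import Cfsg.Agent.Lib.Spor.ThreeTransSys
import Cfsg.Agent.Lib.Spor.FourGen
import Cfsg.Agent.Lib.Grp.TransvectionCentralizer
import Cfsg.Agent.Lib.Grp.Components

/-!
A set of pairwise apart points closed under conjugation generates a group of order 6 or 54 in the
quotient by the radical, so it has at most nine members.
-/

set_option autoImplicit false
set_option linter.style.haveILetI false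
set_option linter.unusedSectionVars false

namespace Cfsg.Agent.Fus.TwoRadical

open Cfsg Cfsg.Agent.Spor Cfsg.Agent.Fus.SUTwoRadical

/-- A group with a class of 3-transpositions, self-centralising 2-radical and the quotient by it. -/
structure Ctx {G H : Type*} [Group G] [Group H] (π : G →* H) (D : Set G) : Prop where
  cls : IsThreeTranspositionClass D
  cen : Subgroup.center G = ⊥
  ker : ∀ c, π c = 1 ↔ c ∈ pCore 2 G
  surj : Function.Surjective π
  self : Subgroup.centralizer (pCore 2 G : Set G) ≤ pCore 2 G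

universe u

variable {G : Type u} [Group G] [Finite G] {H : Type*} [Group H] [Finite H] {π : G →* H} {D : Set G}

theorem Ctx.conj (C : Ctx π D) (g : G) {d : G} (hd : d ∈ D) : g * d * g⁻¹ ∈ D := ThreeTrans.conj_mem C.cls g hd

theorem Ctx.hyp (C : Ctx π D) : Hyp π D :=
  ⟨C.cls.1, fun g _ hd => C.conj g hd, fun c hc => by
    obtain ⟨k, hk⟩ := Transfer.pCore_isPGroup 2 G ⟨c, (C.ker c).1 hc⟩
    exact ⟨k, congrArg Subtype.val hk⟩⟩

/-- An element of odd order centralising a subgroup which holds all its commutators with the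
radical centralises the radical. -/
theorem commute_of_series {c q : G} {k : ℕ} (hk : Odd k) (hc : c ^ k = 1) {j : ℕ}
    (hj : (c * q * c⁻¹ * q⁻¹) ^ (2 ^ j) = 1) (h : Commute c (c * q * c⁻¹ * q⁻¹)) : Commute c q := by
  set w := c * q * c⁻¹ * q⁻¹ with hw
  have hpow : ∀ i : ℕ, c ^ i * q * (c ^ i)⁻¹ = w ^ i * q := by
    intro i
    induction i with
    | zero => simp
    | succ i ih =>
      rw [pow_succ' c, pow_succ w, show c * c ^ i * q * (c * c ^ i)⁻¹ = c * (c ^ i * q * (c ^ i)⁻¹) * c⁻¹ by group,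
        ih, show c * (w ^ i * q) * c⁻¹ = (c * w ^ i * c⁻¹) * (c * q * c⁻¹ * q⁻¹) * q by group, ← hw,
        (h.pow_right i).eq, mul_inv_cancel_right]
  have h1 := hpow k
  rw [hc, one_mul, inv_one, mul_one] at h1
  have hg := pow_gcd_eq_one.2 ⟨(mul_eq_right.1 h1.symm : w ^ k = 1), hj⟩
  rw [(Nat.Coprime.pow_right j hk.coprime_two_right).gcd_eq_one, pow_one, hw, mul_inv_eq_one,
    mul_inv_eq_iff_eq_mul] at hg
  exact hg

/-- Closed sets of pairwise apart points are small. -/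
theorem closed_small (C : Ctx π D) {S : Set H} (hS : S ⊆ π '' D)
    (hap : ∀ x ∈ S, ∀ y ∈ S, x ≠ y → ¬ Commute x y) (hcl : ∀ x ∈ S, ∀ y ∈ S, x * y * x ∈ S)
    (h2 : ∃ x ∈ S, ∃ y ∈ S, x ≠ y) :
    (Nat.card ↥(Subgroup.closure S) = 6 ∨ Nat.card ↥(Subgroup.closure S) = 54) ∧ S.ncard ≤ 9 := by
  classical
  haveI : Fact (Nat.Prime 2) := ⟨Nat.prime_two⟩
  haveI : Fact (Nat.Prime 3) := ⟨Nat.prime_three⟩
  haveI : (pCore 2 G).Normal := Grp.pCore_isNormal
  have h := C.hyp
  -- the lifts of the set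
  let L : Set G := {d | d ∈ D ∧ π d ∈ S}
  obtain ⟨K, hK⟩ : ∃ K : Subgroup G, K = Subgroup.closure L := ⟨_, rfl⟩
  have hLK : ∀ {d : G}, d ∈ L → d ∈ K := fun hd => hK ▸ Subgroup.subset_closure hd
  have hmapK : K.map π = Subgroup.closure S := by
    rw [hK, MonoidHom.map_closure]
    congr 1
    ext s
    exact ⟨fun ⟨d, hd, e⟩ => e ▸ hd.2, fun hs => by
      obtain ⟨d, hd, rfl⟩ := hS hs
      exact ⟨d, ⟨hd, hs⟩, rfl⟩⟩
  have hKL : ∀ k ∈ K, ∀ d ∈ L, k * d * k⁻¹ ∈ L := by
    intro k hk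
    rw [hK] at hk
    induction hk using Subgroup.closure_induction_left with
    | one => intro d hd; simpa using hd
    | mul_left e he t _ ih =>
      intro d hd
      have h1 := ih d hd
      refine ⟨C.conj _ hd.1, ?_⟩
      have := hcl _ he.2 _ h1.2
      rw [show π (e * t * d * (e * t)⁻¹) = π e * π (t * d * t⁻¹) * π e from by
        rw [show e * t * d * (e * t)⁻¹ = e * (t * d * t⁻¹) * e⁻¹ by group, map_mul, map_mul _ e,
          ThreeTrans.inv_eq C.cls.1 he.1]]
      exact this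
    | inv_mul_cancel e he t _ ih =>
      intro d hd
      have h1 := ih d hd
      refine ⟨C.conj _ hd.1, ?_⟩
      have := hcl _ he.2 _ h1.2
      rw [show π (e⁻¹ * t * d * (e⁻¹ * t)⁻¹) = π e * π (t * d * t⁻¹) * π e from by
        rw [show e⁻¹ * t * d * (e⁻¹ * t)⁻¹ = e⁻¹ * (t * d * t⁻¹) * e by group, map_mul, map_mul _ e⁻¹,
          ThreeTrans.inv_eq C.cls.1 he.1]]
      exact this
  -- apart lifts are conjugate inside
  have hconjap : ∀ d ∈ L, ∀ e ∈ L, π d ≠ π e → ∃ k ∈ K, k * d * k⁻¹ = e := fun d hd e he hne => by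
    have hn : ¬ Commute d e := fun k => hap _ hd.2 _ he.2 hne (k.map π)
    refine ⟨d * e, mul_mem (hLK hd) (hLK he), ?_⟩
    rw [mul_inv_rev, ThreeTrans.inv_eq C.cls.1 hd.1, ThreeTrans.inv_eq C.cls.1 he.1,
      ThreeTrans.braid C.cls.1 hd.1 he.1 hn]
    simp only [mul_assoc, ThreeTrans.mul_self_mul C.cls.1 he.1, ThreeTrans.mul_self C.cls.1 hd.1, mul_one]
  have hconj : ∀ d ∈ L, ∀ e ∈ L, ∃ k ∈ K, k * d * k⁻¹ = e := fun d hd e he => by
    by_cases hne : π d = π e
    · obtain ⟨x, hx, y, hy, hxy⟩ := h2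
      obtain ⟨z, hz, hzd⟩ : ∃ z ∈ S, z ≠ π d := by
        by_cases e' : x = π d
        · exact ⟨y, hy, fun k => hxy (e'.trans k.symm)⟩
        · exact ⟨x, hx, e'⟩
      obtain ⟨f, hf, rfl⟩ := hS hz
      obtain ⟨k, hk, ek⟩ := hconjap d hd f ⟨hf, hz⟩ (Ne.symm hzd)
      obtain ⟨k', hk', ek'⟩ := hconjap f ⟨hf, hz⟩ e he (hne ▸ hzd)
      exact ⟨k' * k, mul_mem hk' hk, by rw [← ek', ← ek]; group⟩
    · exact hconjap d hd e he hne
  obtain ⟨d, hd⟩ : ∃ d, d ∈ L := by
    obtain ⟨x, hx, -⟩ := h2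
    obtain ⟨d, hd, rfl⟩ := hS hx
    exact ⟨d, hd, hx⟩
  -- the class of the subgroup
  let E : Set K := {k | (k : G) ∈ L}
  have hEcls : IsThreeTranspositionClass E := by
    refine ⟨⟨fun k hk => ?_, fun k hk k' hk' => ?_⟩, ⟨⟨d, hLK hd⟩, hd, Set.ext fun k => ⟨fun hk => ?_, ?_⟩⟩, ?_⟩
    · rw [← Subgroup.orderOf_coe]; exact C.cls.1.1 _ hk.1
    · rcases C.cls.1.2 _ hk.1 _ hk'.1 with e | e
      · left; exact Subtype.ext (by simpa using e)
      · right; exact Subtype.ext (by simpa using e)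
    · obtain ⟨t, ht, et⟩ := hconj d hd _ hk
      exact isConj_iff.2 ⟨⟨t, ht⟩, Subtype.ext (by simpa using et)⟩
    · intro hk
      obtain ⟨t, et⟩ := isConj_iff.1 (show IsConj (⟨d, hLK hd⟩ : K) k from hk)
      rw [← et]
      exact hKL _ t.2 d hd
    · refine eq_top_iff.2 fun k _ => ?_
      have himg : (Subgroup.closure E).map K.subtype = K := by
        conv_rhs => rw [hK]
        rw [MonoidHom.map_closure]
        congr 1
        ext g
        exact ⟨fun ⟨k, hk, e⟩ => e ▸ hk, fun hg => ⟨⟨g, hLK hg⟩, hg, rfl⟩⟩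
      obtain ⟨k', hk', e⟩ := himg.ge k.2
      exact Subtype.ext e ▸ hk'
  have hE2 : ∃ a ∈ E, ∃ b ∈ E, a ≠ b := by
    obtain ⟨x, hx, y, hy, hxy⟩ := h2
    obtain ⟨a, ha, rfl⟩ := hS hx
    obtain ⟨b, hb, rfl⟩ := hS hy
    exact ⟨⟨a, hLK ⟨ha, hx⟩⟩, ⟨ha, hx⟩, ⟨b, hLK ⟨hb, hy⟩⟩, ⟨hb, hy⟩, fun e => hxy (by
      rw [show a = b from congrArg Subtype.val e])⟩
  -- the image
  set W := Subgroup.closure S with hW
  have hSW : ∀ {x : H}, x ∈ S → x ∈ W := fun hx => Subgroup.subset_closure hx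
  let S' : Set W := {w | (w : H) ∈ S}
  have hinv : ∀ {x : H}, x ∈ S → x * x = 1 := fun hx => by
    obtain ⟨a, ha, rfl⟩ := hS hx
    rw [← map_mul, ThreeTrans.mul_self C.cls.1 ha, map_one]
  have hK3 : ∀ x ∈ S', ∀ y ∈ S', x * y ∈ pCore 3 W := fun x hx y hy => by
    refine Spor.FourGen.mul_mem_pCore S' (fun z hz => Subtype.ext (hinv hz)) (fun w z hz => ?_)
      (fun a ha b hb => Subtype.ext ?_) hx hy
    · obtain ⟨k, hk, e⟩ := hmapK.ge w.2
      obtain ⟨f, hf, ef⟩ := hS hz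
      have := (hKL k hk f ⟨hf, ef ▸ hz⟩).2
      show (w : H) * z * (w : H)⁻¹ ∈ S
      rw [← e, ← ef]
      simpa using this
    · obtain ⟨a', ha', ea⟩ := hS ha
      obtain ⟨b', hb', eb⟩ := hS hb
      rw [Subgroup.coe_pow, Subgroup.coe_mul, Subgroup.coe_one]
      by_cases e : (a : H) = b
      · rw [e, hinv hb, one_pow]
      · rcases C.cls.1.2 a' ha' b' hb' with k | k
        · refine absurd ?_ (hap _ ha _ hb e)
          have e' : a' * b' = (a' * b')⁻¹ := eq_inv_of_mul_eq_one_left (by rwa [← pow_two])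
          rw [mul_inv_rev, ThreeTrans.inv_eq C.cls.1 ha', ThreeTrans.inv_eq C.cls.1 hb'] at e'
          rw [← ea, ← eb]
          exact (show Commute a' b' from e').map π
        · rw [← ea, ← eb, ← map_mul, ← map_pow, k, map_one]
  haveI hP3n : (pCore 3 W).Normal := Grp.pCore_isNormal
  have hgenW : ∀ w : W, ∀ x₀ ∈ S', w ∈ pCore 3 W ∨ w * x₀ ∈ pCore 3 W := by
    intro w x₀ hx₀
    have hx2 : x₀ * x₀ = 1 := Subtype.ext (hinv hx₀)
    obtain ⟨M, hM⟩ : ∃ M : Subgroup W, M = pCore 3 W ⊔ Subgroup.zpowers x₀ := ⟨_, rfl⟩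
    have hMtop : (w : H) ∈ M.map W.subtype := by
      have hle : Subgroup.closure S ≤ M.map W.subtype := by
        refine (Subgroup.closure_le _).2 fun y hy => ?_
        refine ⟨⟨y, hSW hy⟩, ?_, rfl⟩
        rw [show (⟨y, hSW hy⟩ : W) = ⟨y, hSW hy⟩ * x₀ * x₀ by rw [mul_assoc, hx2, mul_one], hM]
        exact mul_mem (Subgroup.mem_sup_left (hK3 _ hy _ hx₀)) (Subgroup.mem_sup_right (Subgroup.mem_zpowers _))
      exact hle w.2
    obtain ⟨w', hw', e⟩ := hMtop
    rw [show w' = w from Subtype.ext e, hM] at hw'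
    obtain ⟨p, hp, z, hz, ez⟩ : ∃ p ∈ pCore 3 W, ∃ z ∈ Subgroup.zpowers x₀, p * z = w := by
      have hmem : w ∈ ((pCore 3 W ⊔ Subgroup.zpowers x₀ : Subgroup W) : Set W) := hw'
      rw [Subgroup.normal_mul] at hmem
      exact hmem
    obtain ⟨i, rfl⟩ := Subgroup.mem_zpowers_iff.1 hz
    rcases Int.even_or_odd i with ⟨k, rfl⟩ | ⟨k, rfl⟩
    · left
      have ez' : w = p := by
        rw [← ez]
        show p * x₀ ^ (k + k) = p
        rw [_root_.zpow_add, ← (Commute.refl x₀).mul_zpow, hx2, _root_.one_zpow, mul_one]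
      exact ez' ▸ hp
    · right
      have ez' : w * x₀ = p := by
        rw [← ez]
        show p * x₀ ^ (2 * k + 1) * x₀ = p
        rw [_root_.zpow_add, _root_.zpow_mul, zpow_two, hx2, _root_.one_zpow, one_mul, _root_.zpow_one,
          mul_assoc, hx2, mul_one]
      exact ez' ▸ hp
  have hcore : pCore 2 W = ⊥ := by
    rw [eq_bot_iff]
    intro v hv
    obtain ⟨x, hx, y, hy, hxy⟩ := h2
    have h23 : ∀ {z : W}, z ∈ pCore 2 W → z ∈ pCore 3 W → z = 1 := fun {z} hz hz' => by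
      obtain ⟨i, hi⟩ := Transfer.pCore_isPGroup 2 W ⟨z, hz⟩
      obtain ⟨j, hj⟩ := Transfer.pCore_isPGroup 3 W ⟨z, hz'⟩
      exact Spor.FischerStr.eq_one_of_coprime (Nat.Coprime.pow i j (by norm_num : Nat.Coprime 2 3))
        (congrArg Subtype.val hi) (congrArg Subtype.val hj)
    rw [Subgroup.mem_bot]
    rcases hgenW v ⟨x, hSW hx⟩ hx with k | k
    · exact h23 hv k
    exfalso
    set xW : W := ⟨x, hSW hx⟩
    have hx2 : xW * xW = 1 := Subtype.ext (hinv hx)
    have hvx : Commute v xW := by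
      have := Transfer.commute_pCore (p := 2) (q := 3) (by decide) hv k
      have h' : v * (v * xW) = v * xW * v := this.eq
      rw [mul_assoc v xW v] at h'
      exact mul_left_cancel h'
    have hp : v * xW = 1 := by
      have e2 : (v * xW) ^ 2 = v ^ 2 := by rw [hvx.mul_pow, pow_two xW, hx2, mul_one]
      have hv2 : v ^ 2 = 1 := h23 (pow_mem hv 2) (e2 ▸ pow_mem k 2)
      obtain ⟨j, hj⟩ := Transfer.pCore_isPGroup 3 W ⟨_, k⟩
      exact Spor.FischerStr.eq_one_of_coprime (Nat.Coprime.pow_right j (by norm_num : Nat.Coprime 2 3))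
        (e2.trans hv2) (congrArg Subtype.val hj)
    have hxv : v = xW := by rw [eq_inv_of_mul_eq_one_left hp, inv_eq_of_mul_eq_one_right hx2]
    have hc := Transfer.commute_pCore (p := 2) (q := 3) (by decide) (hxv ▸ hv)
      (hK3 xW hx ⟨y, hSW hy⟩ hy)
    have hc' : Commute x (x * y) := congrArg Subtype.val hc.eq
    refine hap _ hx _ hy hxy ?_
    have := (Commute.refl x).mul_right hc'
    rwa [← mul_assoc, hinv hx, one_mul] at this
  -- the radical of the subgroup
  let ρ : K →* W := (π.comp K.subtype).codRestrict W fun k => hmapK ▸ ⟨k, k.2, rfl⟩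
  have hρ : Function.Surjective ρ := fun w => by
    obtain ⟨k, hk, e⟩ := hmapK.ge w.2
    exact ⟨⟨k, hk⟩, Subtype.ext e⟩
  have hρ1 : ∀ k : K, ρ k = 1 ↔ (k : G) ∈ pCore 2 G := fun k => by
    rw [← C.ker, Subtype.ext_iff]
    rfl
  have hker2 : IsPGroup 2 ρ.ker := by
    intro k
    obtain ⟨i, hi⟩ := Transfer.pCore_isPGroup 2 G ⟨((k : K) : G), (hρ1 _).1 k.2⟩
    exact ⟨i, Subtype.ext (Subtype.ext (by simpa using congrArg Subtype.val hi))⟩
  have hO2 : pCore 2 K = ρ.ker := by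
    refine le_antisymm (fun k hk => ?_) (Grp.le_pCore (MonoidHom.normal_ker ρ) hker2)
    haveI := Grp.pCore_isNormal (p := 2) (G := K)
    have : (pCore 2 K).map ρ ≤ pCore 2 W :=
      Grp.le_pCore (Subgroup.Normal.map inferInstance ρ hρ) ((Transfer.pCore_isPGroup 2 K).map ρ)
    rw [hcore] at this
    exact this ⟨k, hk, rfl⟩
  haveI : (pCore 2 K).Normal := Grp.pCore_isNormal
  -- commutators of the radical of the whole group fall inside
  have hQK : ∀ q ∈ pCore 2 G, ∀ k ∈ K, k * q * k⁻¹ * q⁻¹ ∈ K := by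
    intro q hq k hk
    have hnq : ∀ {a : G}, a ∈ K → q * a * q⁻¹ ∈ K := by
      intro a ha
      rw [hK] at ha ⊢
      induction ha using Subgroup.closure_induction with
      | mem x hx =>
        refine Subgroup.subset_closure ⟨C.conj q hx.1, ?_⟩
        rw [map_mul, map_mul, (C.ker q).2 hq, one_mul, map_inv, (C.ker q).2 hq, inv_one, mul_one]
        exact hx.2
      | one => simp
      | mul x y _ _ h1 h2 => rw [show q * (x * y) * q⁻¹ = q * x * q⁻¹ * (q * y * q⁻¹) by group]; exact mul_mem h1 h2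
      | inv x _ h1 => rw [show q * x⁻¹ * q⁻¹ = (q * x * q⁻¹)⁻¹ by group]; exact inv_mem h1
    rw [show k * q * k⁻¹ * q⁻¹ = k * (q * k⁻¹ * q⁻¹) by group]
    exact mul_mem hk (hnq (inv_mem hk))
  have hQC : ∀ c : K, c ∈ Subgroup.centralizer (pCore 2 K : Set K) → ∀ n : ℕ, Odd n → c ^ n = 1 → c = 1 := by
    intro c hc n hn hcn
    have hcG : (c : G) ∈ Subgroup.centralizer (pCore 2 G : Set G) := by
      refine Subgroup.mem_centralizer_iff.2 fun q hq => ?_
      have hw := hQK q hq c c.2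
      have hw2 : π ((c : G) * q * (c : G)⁻¹ * q⁻¹) = 1 := by simp [(C.ker q).2 hq]
      obtain ⟨j, hj⟩ := Transfer.pCore_isPGroup 2 G ⟨_, (C.ker _).1 hw2⟩
      refine (commute_of_series hn (congrArg Subtype.val hcn) (congrArg Subtype.val hj) ?_).eq.symm
      have hwm : (⟨_, hw⟩ : K) ∈ pCore 2 K := by rw [hO2]; exact (hρ1 _).2 ((C.ker _).1 hw2)
      exact (congrArg Subtype.val (Subgroup.mem_centralizer_iff.1 hc _ hwm)).symm
    obtain ⟨j, hj⟩ := Transfer.pCore_isPGroup 2 G ⟨(c : G), C.self hcG⟩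
    refine Subtype.ext ?_
    have hg := pow_gcd_eq_one.2 ⟨(congrArg Subtype.val hcn : (c : G) ^ n = 1), congrArg Subtype.val hj⟩
    rwa [(Nat.Coprime.pow_right j hn.coprime_two_right).gcd_eq_one, pow_one] at hg
  have hself : Subgroup.centralizer (pCore 2 K : Set K) ≤ pCore 2 K := by
    refine Grp.le_pCore inferInstance fun c => ?_
    obtain ⟨a, b, hb, he⟩ := Nat.exists_eq_two_pow_mul_odd (orderOf_pos (c : K)).ne'
    refine ⟨a, Subtype.ext ?_⟩
    simpa using hQC _ (pow_mem c.2 (2 ^ a)) b hb (by rw [← pow_mul, ← he]; exact pow_orderOf_eq_one _)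
  have hFK : generalizedFittingSubgroup K = pCore 2 K :=
    Grp.gfitting_eq_pCore_of_selfCentralizing inferInstance (Transfer.pCore_isPGroup 2 K) hself
  let e : K ⧸ pCore 2 K ≃* W :=
    (QuotientGroup.quotientMulEquivOfEq hO2).trans (QuotientGroup.quotientKerEquivOfSurjective ρ hρ)
  have h232 : ∃ P : Sylow 3 (K ⧸ pCore 2 K), (P : Subgroup (K ⧸ pCore 2 K)).Normal ∧
      ∃ k : ℕ, (P : Subgroup (K ⧸ pCore 2 K)).index = 2 ^ k := by
    let P₀ : Subgroup (K ⧸ pCore 2 K) := (pCore 3 W).map e.symm.toMonoidHom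
    haveI hP₀n : P₀.Normal := Subgroup.Normal.map inferInstance _ e.symm.surjective
    have hP₀ : IsPGroup 3 P₀ := (Transfer.pCore_isPGroup 3 W).map _
    obtain ⟨x, hx, y, hy, hxy⟩ := h2
    have hidx : P₀.index = 2 := by
      rw [show P₀.index = (pCore 3 W).index from Subgroup.index_map_equiv _ e.symm, Subgroup.index_eq_two_iff]
      refine ⟨⟨x, hSW hx⟩, fun w => ?_⟩
      rcases hgenW w ⟨x, hSW hx⟩ hx with k | k
      · refine Or.inr ⟨k, fun k' => ?_⟩
        have hx3 : (⟨x, hSW hx⟩ : W) ∈ pCore 3 W := by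
          have := mul_mem (inv_mem k) k'; rwa [inv_mul_cancel_left] at this
        obtain ⟨j, hj⟩ := Transfer.pCore_isPGroup 3 W ⟨_, hx3⟩
        have h1 : x = 1 := Spor.FischerStr.eq_one_of_coprime (Nat.Coprime.pow_right j (by norm_num : Nat.Coprime 2 3))
          (by rw [pow_two]; exact hinv hx) (congrArg Subtype.val (congrArg Subtype.val hj))
        exact hap _ hx _ hy hxy (h1 ▸ Commute.one_left y)
      · refine Or.inl ⟨k, fun k' => ?_⟩
        have hx3 : (⟨x, hSW hx⟩ : W) ∈ pCore 3 W := by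
          have := mul_mem (inv_mem k') k; rwa [inv_mul_cancel_left] at this
        obtain ⟨j, hj⟩ := Transfer.pCore_isPGroup 3 W ⟨_, hx3⟩
        have h1 : x = 1 := Spor.FischerStr.eq_one_of_coprime (Nat.Coprime.pow_right j (by norm_num : Nat.Coprime 2 3))
          (by rw [pow_two]; exact hinv hx) (congrArg Subtype.val (congrArg Subtype.val hj))
        exact hap _ hx _ hy hxy (h1 ▸ Commute.one_left y)
    exact ⟨hP₀.toSylow (by rw [hidx]; norm_num), hP₀n, 1, hidx⟩
  obtain ⟨x0, hx0, -⟩ := id h2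
  have hcardS : ∀ z : W, (∀ w : W, Commute z w) → z ≠ 1 → Nat.card W = 54 → z ^ 3 = 1 → S.ncard ≤ 9 := by
    intro z hz hz1 h54 hz3
    set x : W := ⟨x0, hSW hx0⟩
    have hSo : S ⊆ Subtype.val '' conjugatesOf x := by
      intro y hy
      obtain ⟨a, ha, rfl⟩ := hS hx0
      obtain ⟨b, hb, rfl⟩ := hS hy
      obtain ⟨k, hk, ek⟩ := hconj a ⟨ha, hx0⟩ b ⟨hb, hy⟩
      refine ⟨⟨π b, hSW hy⟩, isConj_iff.2 ⟨⟨π k, hmapK ▸ ⟨k, hk, rfl⟩⟩, Subtype.ext ?_⟩, rfl⟩
      simp [x, ← ek]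
    refine (Set.ncard_le_ncard hSo (Set.toFinite _)).trans ((Set.ncard_image_le (Set.toFinite _)).trans ?_)
    have hmem : ∀ g ∈ ({z, x} : Set W), g ∈ Subgroup.centralizer ({x} : Set W) := by
      rintro g (rfl | rfl) <;> rw [Subgroup.mem_centralizer_singleton_iff]
      exact (hz x).eq
    have hcz : orderOf z = 3 := orderOf_eq_prime hz3 hz1
    have hcx : orderOf x = 2 := by
      refine orderOf_eq_prime (Subtype.ext (by rw [Subgroup.coe_pow, pow_two]; exact hinv hx0)) fun e => ?_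
      obtain ⟨a, ha, y, hy, hay⟩ := h2
      obtain ⟨b, hb, hbx⟩ : ∃ b ∈ S, b ≠ x0 := by
        by_cases k : a = x0
        · exact ⟨y, hy, fun k' => hay (k.trans k'.symm)⟩
        · exact ⟨a, ha, k⟩
      have e0 : x0 = 1 := congrArg Subtype.val e
      exact hap _ hb _ hx0 hbx (by rw [e0]; exact Commute.one_right b)
    have h6 : 6 ∣ Nat.card (Subgroup.centralizer ({x} : Set W)) := by
      refine Nat.Coprime.mul_dvd_of_dvd_of_dvd (by norm_num : Nat.Coprime 2 3) ?_ ?_
      · exact hcx ▸ Subgroup.orderOf_dvd_natCard _ (hmem x (by simp))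
      · exact hcz ▸ Subgroup.orderOf_dvd_natCard _ (hmem z (by simp))
    have hm := Subgroup.card_mul_index (MulAction.stabilizer (ConjAct W) x)
    rw [MulAction.index_stabilizer, ← Subgroup.nat_card_centralizer_nat_card_stabilizer,
      show Nat.card (ConjAct W) = Nat.card W from Nat.card_congr ConjAct.ofConjAct.toEquiv, h54] at hm
    have ho : conjugatesOf x = MulAction.orbit (ConjAct W) x := Set.ext fun g => by
      rw [ConjAct.mem_orbit_conjAct, isConj_comm]; rfl
    rw [ho]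
    obtain ⟨r, hr⟩ := h6
    rw [hr] at hm
    have hr0 : r ≠ 0 := by rintro rfl; simp at hm
    nlinarith [Nat.one_le_iff_ne_zero.2 hr0]
  rcases Spor.HallOne.quotient_cases hEcls hE2 hFK h232 with hq | hA
  · obtain ⟨q⟩ := hq
    have h6 : Nat.card W = 6 := by
      rw [Nat.card_congr (e.symm.trans q).toEquiv, Nat.card_perm, Nat.card_fin]; rfl
    refine ⟨Or.inl h6, ?_⟩
    calc S.ncard ≤ ((W : Subgroup H) : Set H).ncard := Set.ncard_le_ncard (fun y hy => hSW hy) (Set.toFinite _)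
      _ = 6 := by rw [← Nat.card_coe_set_eq]; exact h6
      _ ≤ 9 := by norm_num
  · obtain ⟨A⟩ := hA
    have h54 : Nat.card W = 54 := by rw [Nat.card_congr e.symm.toEquiv]; exact A.card
    refine ⟨Or.inr h54, hcardS (e A.z) (fun w => ?_) (fun k => ?_) h54 ?_⟩
    · have hz : Commute A.z (e.symm w) := by
        generalize e.symm w = g0
        have hg : g0 ∈ Subgroup.closure ({A.m, A.b, A.z, A.d} : Set (K ⧸ pCore 2 K)) := A.gen ▸ Subgroup.mem_top _
        induction hg using Subgroup.closure_induction with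
        | mem g hg =>
          rcases hg with rfl | rfl | rfl | rfl
          exacts [A.zm, A.zb, Commute.refl _, A.zd]
        | one => exact Commute.one_right _
        | mul a b _ _ ha hb => exact ha.mul_right hb
        | inv a _ ha => exact ha.inv_right
      simpa using hz.map e.toMonoidHom
    · have hz1 : A.z = 1 := e.injective (k.trans (map_one e).symm)
      have : A.toRel.nf (0, 0, 1, 0) = A.toRel.nf 0 := by
        simp [Spor.Heis54.Rel.nf, hz1]
      exact absurd (congrArg (fun p : Spor.Heis54.Par => p.2.2.1) (A.bij.1 this)) one_ne_zero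
    · rw [← map_pow, A.z3, map_one]

end Cfsg.Agent.Fus.TwoRadical
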