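import Mathlib

/-!
A function on the totally singular lines of a symplectic configuration over the field of two elements
which is invariant under the transvections and satisfies the identity of a plane is a coboundary.
-/

set_option autoImplicit false
set_option linter.unusedSectionVars false

namespace Cfsg.Agent.Fus.TwoRadical

/-- Points with vectors, their sums and a function on orthogonal pairs. -/
structure LineData (α V M : Type*) [AddCommGroup V] [AddCommGroup M] where
  v : α → V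
  ev : α → V →+ ZMod 2
  o : α
  n : α → α → α
  F : α → α → M
  inj : Function.Injective v
  v_o : v o = 0
  dbl : ∀ x : V, x + x = 0
  two : ∀ x : M, x + x = 0
  symm : ∀ p q, ev q (v p) = ev p (v q)
  self : ∀ p, ev p (v p) = 0
  v_n : ∀ p q, ev q (v p) = 0 → v (n p q) = v p + v q
  sw : ∀ p q, ev q (v p) = 1 → ∃ σ : α → α,
    (∀ u, v (σ u) = v u + if ev u (v p + v q) = 1 then v p + v q else 0) ∧
      ∀ a b, ev b (v a) = 0 → F (σ a) (σ b) = F a b
  F_symm : ∀ p q, ev q (v p) = 0 → F p q = F q p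
  F_move : ∀ p q, ev q (v p) = 0 → F p q = F (n p q) q
  F_plane : ∀ e p q, ev p (v e) = 0 → ev q (v e) = 0 → ev q (v p) = 0 →
    F e q + F p (n e q) = F p q + F e (n p q)

namespace LineData

variable {α V M : Type*} [AddCommGroup V] [AddCommGroup M] (L : LineData α V M)

/-- The form. -/
def B (p q : α) : ZMod 2 := L.ev q (L.v p)

/-- A point outside the radical. -/
def Mv (p : α) : Prop := ∃ u, L.B u p = 1

theorem B_symm (p q : α) : L.B p q = L.B q p := L.symm p q

theorem B_self (p : α) : L.B p p = 0 := L.self p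

theorem B_o (q : α) : L.B L.o q = 0 := by simp [B, L.v_o]

theorem B_n {p q : α} (h : L.B p q = 0) (u : α) : L.B (L.n p q) u = L.B p u + L.B q u := by
  simp [B, L.v_n p q h]

theorem B_n' {p q : α} (h : L.B p q = 0) (u : α) : L.B u (L.n p q) = L.B u p + L.B u q := by
  rw [L.B_symm, L.B_n h, L.B_symm p, L.B_symm q]

theorem zero_or_one (a : ZMod 2) : a = 0 ∨ a = 1 := by revert a; decide

theorem n_comm {p q : α} (h : L.B p q = 0) : L.n p q = L.n q p := L.inj (by
  rw [L.v_n p q h, L.v_n q p ((L.B_symm q p).trans h), add_comm])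

theorem B_n_right {p q : α} (h : L.B p q = 0) : L.B (L.n p q) q = 0 := by
  rw [L.B_n h, h, L.B_self, add_zero]

theorem n_n {p q : α} (h : L.B p q = 0) : L.n (L.n p q) q = p := L.inj (by
  rw [L.v_n _ _ (L.B_n_right h), L.v_n p q h, add_assoc, L.dbl, add_zero])

theorem n_n_left {p q : α} (h : L.B p q = 0) : L.n p (L.n p q) = q := by
  have h1 : L.B p (L.n p q) = 0 := by rw [L.B_n' h, L.B_self, h, add_zero]
  apply L.inj
  rw [L.v_n _ _ h1, L.v_n p q h, ← add_assoc, L.dbl, zero_add]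

theorem n_o (p : α) : L.n L.o p = p := L.inj (by rw [L.v_n _ _ (L.B_o p), L.v_o, zero_add])

theorem mv_n_iff {p q : α} (h : L.B p q = 0) (hp : ¬ L.Mv p) : L.Mv (L.n p q) ↔ L.Mv q := by
  have h0 : ∀ u, L.B u p = 0 := fun u => (zero_or_one _).resolve_right fun k => hp ⟨u, k⟩
  simp only [Mv, L.B_n' h, h0, zero_add]

/-- Two partners which are not orthogonal give equal values. -/
theorem F_apart {p q q' : α} (h : L.B q q' = 1) (h1 : L.B p q = 0) (h2 : L.B p q' = 0) :
    L.F p q = L.F p q' := by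
  obtain ⟨σ, hσ, hF⟩ := L.sw q q' h
  have e1 : σ p = p := L.inj (by
    rw [hσ, if_neg, add_zero]
    rw [map_add, show L.ev p (L.v q) = 0 from (L.B_symm q p).trans h1,
      show L.ev p (L.v q') = 0 from (L.B_symm q' p).trans h2]
    decide)
  have e2 : σ q = q' := L.inj (by
    rw [hσ, if_pos, ← add_assoc, L.dbl, zero_add]
    rw [map_add, L.self, show L.ev q (L.v q') = 1 from (L.B_symm q' q).trans h, zero_add])
  have := hF p q h1
  rw [e1, e2] at this
  exact this.symm

/-- The values of the form at orthogonal points make a subgroup. -/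
theorem sum_point (u u' : α) {a b c : α} (hab : L.B a b = 0) (hac : L.B a c = 0) (hbc : L.B b c = 0) :
    ∃ w, L.B w a = L.B u a + L.B u' a ∧ L.B w b = L.B u b + L.B u' b ∧ L.B w c = L.B u c + L.B u' c := by
  rcases zero_or_one (L.B u u') with h | h
  · exact ⟨L.n u u', L.B_n h a, L.B_n h b, L.B_n h c⟩
  obtain ⟨σ, hσ, -⟩ := L.sw u u' h
  have key : ∀ w, L.B u w + L.B u' w = 1 → ∀ t, L.B (σ w) t = L.B w t + (L.B u t + L.B u' t) := fun w hw t => by
    have : L.ev w (L.v u + L.v u') = 1 := by rw [map_add]; exact hw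
    simp only [B, hσ]
    rw [if_pos this]
    simp only [map_add]
  by_cases ha : L.B u a + L.B u' a = 1
  · exact ⟨σ a, by rw [key a ha a, L.B_self, zero_add], by rw [key a ha b, hab, zero_add],
      by rw [key a ha c, hac, zero_add]⟩
  by_cases hb : L.B u b + L.B u' b = 1
  · exact ⟨σ b, by rw [key b hb a, L.B_symm b a, hab, zero_add], by rw [key b hb b, L.B_self, zero_add],
      by rw [key b hb c, hbc, zero_add]⟩
  by_cases hc : L.B u c + L.B u' c = 1
  · exact ⟨σ c, by rw [key c hc a, L.B_symm c a, hac, zero_add], by rw [key c hc b, L.B_symm c b, hbc, zero_add],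
      by rw [key c hc c, L.B_self, zero_add]⟩
  refine ⟨L.o, ?_, ?_, ?_⟩ <;> rw [L.B_o]
  exacts [((zero_or_one _).resolve_right ha).symm, ((zero_or_one _).resolve_right hb).symm,
    ((zero_or_one _).resolve_right hc).symm]

set_option synthInstance.maxSize 2000 in
set_option synthInstance.maxHeartbeats 200000 in
theorem eight : ∀ s : Finset (ZMod 2 × ZMod 2 × ZMod 2),
    (∀ x ∈ s, ∀ y ∈ s, x + y ∈ s) → (∃ x ∈ s, x.1 = 1) → (∃ x ∈ s, x.2.1 = 1) → (∃ x ∈ s, x.2.2 = 1) →
    (∃ x ∈ s, x.1 + x.2.1 = 1) → (∃ x ∈ s, x.1 + x.2.2 = 1) → (0, 1, 1) ∈ s := by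
  decide +kernel

/-- A common partner apart from two points. -/
theorem partner {p q q' : α} (hpq : L.B p q = 0) (hpq' : L.B p q' = 0) (hqq : L.B q q' = 0)
    (hp : L.Mv p) (hq : L.Mv q) (hq' : L.Mv q') (hn : L.Mv (L.n p q)) (hn' : L.Mv (L.n p q')) :
    ∃ u, L.B u p = 0 ∧ L.B u q = 1 ∧ L.B u q' = 1 := by
  classical
  let f : Finset (ZMod 2 × ZMod 2 × ZMod 2) :=
    Finset.univ.filter fun x => ∃ u, (L.B u p, L.B u q, L.B u q') = x
  have hmem : ∀ u, (L.B u p, L.B u q, L.B u q') ∈ f := fun u => Finset.mem_filter.2 ⟨Finset.mem_univ _, u, rfl⟩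
  obtain ⟨u1, h1⟩ := hp
  obtain ⟨u2, h2⟩ := hq
  obtain ⟨u3, h3⟩ := hq'
  obtain ⟨u4, h4⟩ := hn
  obtain ⟨u5, h5⟩ := hn'
  have h := eight f (fun x hx y hy => by
      obtain ⟨-, u, rfl⟩ := Finset.mem_filter.1 hx
      obtain ⟨-, u', rfl⟩ := Finset.mem_filter.1 hy
      obtain ⟨w, e1, e2, e3⟩ := L.sum_point u u' hpq hpq' hqq
      exact Finset.mem_filter.2 ⟨Finset.mem_univ _, w, by simp [e1, e2, e3]⟩)
    ⟨_, hmem u1, h1⟩ ⟨_, hmem u2, h2⟩ ⟨_, hmem u3, h3⟩ ⟨_, hmem u4, by rw [← h4, L.B_n' hpq]⟩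
    ⟨_, hmem u5, by rw [← h5, L.B_n' hpq']⟩
  obtain ⟨-, u, hu⟩ := Finset.mem_filter.1 h
  exact ⟨u, congrArg (fun x => x.1) hu, congrArg (fun x => x.2.1) hu, congrArg (fun x => x.2.2) hu⟩

/-- An orthogonal pair of points outside the radical whose sum is outside, too. -/
def Gen (p q : α) : Prop := L.B p q = 0 ∧ L.Mv p ∧ L.Mv q ∧ L.Mv (L.n p q)

theorem gen_same {p q q' : α} (h : L.Gen p q) (h' : L.Gen p q') : L.F p q = L.F p q' := by
  rcases zero_or_one (L.B q q') with k | k
  · obtain ⟨u, a1, a2, a3⟩ := L.partner h.1 h'.1 k h.2.1 h.2.2.1 h'.2.2.1 h.2.2.2 h'.2.2.2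
    rw [L.B_symm] at a2 a3
    rw [L.B_symm] at a1
    exact (L.F_apart a2 h.1 a1).trans (L.F_apart a3 h'.1 a1).symm
  · exact L.F_apart k h.1 h'.1

theorem Gen.swap {L : LineData α V M} {p q : α} (h : L.Gen p q) : L.Gen q p :=
  ⟨(L.B_symm q p).trans h.1, h.2.2.1, h.2.1, L.n_comm h.1 ▸ h.2.2.2⟩

theorem gen_link {p q p' q' : α} (h : L.Gen p q) (h' : L.Gen p' q') (hl : L.Gen p p' ∨ L.B p p' = 1) :
    L.F p q = L.F p' q' := by
  rcases hl with hl | hl
  · rw [L.gen_same h hl, L.F_symm _ _ hl.1]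
    exact L.gen_same hl.swap h'
  obtain ⟨σ, hσ, hF⟩ := L.sw p p' hl
  have e : σ p = p' := L.inj (by
    rw [hσ, if_pos, ← add_assoc, L.dbl, zero_add]
    rw [map_add, L.self, show L.ev p (L.v p') = 1 from (L.B_symm p' p).trans hl, zero_add])
  have key : ∀ a b, L.B (σ a) (σ b) = L.B a b := fun a b => by
    have hβ : ∀ t, L.ev t (L.v p + L.v p') = L.B p t + L.B p' t := fun t => map_add _ _ _
    have hsym : ∀ t u, L.B (σ t) u = L.B t u + if L.ev t (L.v p + L.v p') = 1 then L.B p u + L.B p' u else 0 := by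
      intro t u
      split_ifs with k
      · simp only [B, hσ]
        rw [if_pos k]
        simp only [map_add]
      · simp only [B, hσ]
        rw [if_neg k]
        simp only [map_zero, add_zero]
    rw [hsym, hβ, L.B_symm a (σ b), L.B_symm p (σ b), L.B_symm p' (σ b), hsym, hsym, hsym, hβ,
      L.B_self, L.B_self, L.B_symm b a, L.B_symm b p, L.B_symm b p', L.B_symm p' p, hl]
    generalize L.B a b = x
    generalize L.B p a = y
    generalize L.B p' a = z
    generalize L.B p b = y'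
    generalize L.B p' b = z'
    revert x y z y' z'
    decide
  have mvσ : ∀ {a}, L.Mv a → L.Mv (σ a) := fun ⟨u, hu⟩ => ⟨σ u, (key u _).trans hu⟩
  have hB : L.B p' (σ q) = 0 := e ▸ (key p q).trans h.1
  have hn : σ (L.n p q) = L.n p' (σ q) := L.inj (by
    have hev : L.ev (L.n p q) (L.v p + L.v p') = L.ev p (L.v p + L.v p') + L.ev q (L.v p + L.v p') := by
      simp only [map_add]
      show L.B p (L.n p q) + L.B p' (L.n p q) = L.B p p + L.B p' p + (L.B p q + L.B p' q)
      rw [L.B_n' h.1, L.B_n' h.1]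
      abel
    rw [L.v_n p' (σ q) hB, ← e, hσ, hσ, hσ, L.v_n p q h.1, hev]
    by_cases a : L.ev p (L.v p + L.v p') = 1 <;> by_cases b : L.ev q (L.v p + L.v p') = 1
    · rw [if_pos a, if_pos b, if_neg (by rw [a, b]; decide)]
      have := L.dbl (L.v p + L.v p')
      rw [add_zero, add_add_add_comm, this, add_zero]
    · rw [if_pos a, if_neg b, if_pos (by rw [a, (zero_or_one _).resolve_right b]; decide)]
      abel
    · rw [if_neg a, if_pos b, if_pos (by rw [b, (zero_or_one _).resolve_right a]; decide)]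
      abel
    · rw [if_neg a, if_neg b, if_neg (by rw [(zero_or_one _).resolve_right a, (zero_or_one _).resolve_right b]; decide)]
      abel)
  have hgen : L.Gen p' (σ q) := ⟨hB, e ▸ mvσ h.2.1, mvσ h.2.2.1, hn ▸ mvσ h.2.2.2⟩
  rw [← hF p q h.1, e]
  exact L.gen_same hgen h'

theorem gen_const {p q p' q' : α} (h : L.Gen p q) (h' : L.Gen p' q') : L.F p q = L.F p' q' := by
  rcases zero_or_one (L.B p p') with k | k
  swap
  · exact L.gen_link h h' (Or.inr k)
  by_cases kn : L.Mv (L.n p p')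
  · exact L.gen_link h h' (Or.inl ⟨k, h.2.1, h'.2.1, kn⟩)
  rw [L.F_symm p q h.1]
  refine L.gen_link h.swap h' ?_
  rcases zero_or_one (L.B q p') with k' | k'
  swap
  · exact Or.inr k'
  refine Or.inl ⟨k', h.2.2.1, h'.2.1, ?_⟩
  by_contra kn'
  obtain ⟨u, hu⟩ := h.2.2.2
  refine absurd hu ?_
  have a := (zero_or_one (L.B u (L.n p p'))).resolve_right fun c => kn ⟨u, c⟩
  have b := (zero_or_one (L.B u (L.n q p'))).resolve_right fun c => kn' ⟨u, c⟩
  rw [L.B_n' k] at a
  rw [L.B_n' k'] at b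
  rw [L.B_n' h.1]
  revert a b
  generalize L.B u p = x
  generalize L.B u q = y
  generalize L.B u p' = z
  revert x y z
  decide

/-- A radical point has one value with all others. -/
theorem rad_same {p q q' : α} (hp : ¬ L.Mv p) (hq : L.Mv q) (hq' : L.Mv q') : L.F p q = L.F p q' := by
  have h0 : ∀ u, L.B p u = 0 := fun u =>
    (zero_or_one _).resolve_right fun k => hp ⟨u, (L.B_symm u p).trans k⟩
  rcases zero_or_one (L.B q q') with k | k
  swap
  · exact L.F_apart k (h0 q) (h0 q')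
  obtain ⟨u2, h2⟩ := hq
  obtain ⟨u3, h3⟩ := hq'
  by_cases e2 : L.B u2 q' = 1
  · rw [L.B_symm] at h2 e2
    exact (L.F_apart h2 (h0 q) (h0 u2)).trans (L.F_apart e2 (h0 q') (h0 u2)).symm
  by_cases e3 : L.B u3 q = 1
  · rw [L.B_symm] at h3 e3
    exact (L.F_apart e3 (h0 q) (h0 u3)).trans (L.F_apart h3 (h0 q') (h0 u3)).symm
  obtain ⟨w, -, b, c⟩ := L.sum_point u2 u3 (h0 q) (h0 q') k
  rw [h2, (zero_or_one _).resolve_right e3, add_zero, L.B_symm] at b
  rw [h3, (zero_or_one _).resolve_right e2, zero_add, L.B_symm] at c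
  exact (L.F_apart b (h0 q) (h0 w)).trans (L.F_apart c (h0 q') (h0 w)).symm

/-- Without a form the function is a coboundary. -/
theorem split_flat [Finite α] (h0 : ∀ p q, L.B p q = 0) :
    ∃ g : α → M, ∀ p q, L.F p q = g p + g q + g (L.n p q) := by
  classical
  let P : Set α → Prop := fun T => L.o ∈ T ∧ (∀ a ∈ T, ∀ b ∈ T, L.n a b ∈ T) ∧
    ∃ g : α → M, ∀ a ∈ T, ∀ b ∈ T, L.F a b = g a + g b + g (L.n a b)
  have hbase : P {L.o} := ⟨rfl, fun a ha b hb => by
      rw [Set.mem_singleton_iff] at ha hb ⊢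
      subst ha hb; exact L.n_o _,
    fun _ => L.F L.o L.o, fun a ha b hb => by
      rw [Set.mem_singleton_iff] at ha hb
      subst ha hb
      rw [L.two, zero_add]⟩
  obtain ⟨T, hT, hmax⟩ := (Set.toFinite {T | P T}).exists_maximal ⟨_, hbase⟩
  suffices hall : ∀ p, p ∈ T by
    obtain ⟨-, -, g, hg⟩ := hT
    exact ⟨g, fun p q => hg p (hall p) q (hall q)⟩
  by_contra hne
  push Not at hne
  obtain ⟨p, hp⟩ := hne
  obtain ⟨ho, hcl, g, hg⟩ := hT
  have hv : ∀ a b, L.v (L.n a b) = L.v a + L.v b := fun a b => L.v_n a b (h0 a b)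
  have hnew : ∀ t ∈ T, L.n p t ∉ T := fun t ht k => hp (by
    have := hcl _ k t ht
    rwa [L.n_n (h0 p t)] at this)
  let g' : α → M := fun a => if a ∈ T then g a else g (L.n p a) + L.F p (L.n p a)
  have g_old : ∀ t ∈ T, g' t = g t := fun t ht => if_pos ht
  have g_new : ∀ t ∈ T, g' (L.n p t) = g t + L.F p t := fun t ht => by
    simp only [g', if_neg (hnew t ht), L.n_n_left (h0 p t)]
  have assoc : ∀ a b, L.n a (L.n p b) = L.n p (L.n a b) := fun a b => L.inj (by simp only [hv]; abel)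
  have mixed : ∀ a ∈ T, ∀ b ∈ T, L.F a (L.n p b) = L.F a b + L.F p b + L.F p (L.n a b) := fun a ha b hb => by
    have := L.F_plane a p b (h0 _ _) (h0 _ _) (h0 _ _)
    calc L.F a (L.n p b) = L.F p b + L.F a (L.n p b) + L.F p b := by
          rw [add_comm (L.F p b) (L.F a (L.n p b)), add_assoc, L.two, add_zero]
      _ = L.F a b + L.F p (L.n a b) + L.F p b := by rw [← this]
      _ = _ := by abel
  let T' : Set α := T ∪ L.n p '' T
  have hP : P T' := by
    refine ⟨Or.inl ho, ?_, g', ?_⟩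
    · rintro a (ha | ⟨t, ht, rfl⟩) b (hb | ⟨u, hu, rfl⟩)
      · exact Or.inl (hcl a ha b hb)
      · exact Or.inr ⟨_, hcl a ha u hu, (assoc a u).symm⟩
      · refine Or.inr ⟨_, hcl t ht b hb, L.inj ?_⟩
        simp only [hv]; abel
      · refine Or.inl ?_
        have e : L.n (L.n p t) (L.n p u) = L.n t u := L.inj (by
          simp only [hv]
          rw [add_add_add_comm, L.dbl, zero_add])
        rw [e]; exact hcl t ht u hu
    · have one : ∀ a ∈ T, ∀ b ∈ T, L.F a (L.n p b) = g' a + g' (L.n p b) + g' (L.n a (L.n p b)) := by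
        intro a ha b hb
        rw [mixed a ha b hb, assoc, g_old a ha, g_new b hb, g_new _ (hcl a ha b hb), hg a ha b hb]
        abel
      rintro a (ha | ⟨t, ht, rfl⟩) b (hb | ⟨u, hu, rfl⟩)
      · rw [g_old a ha, g_old b hb, g_old _ (hcl a ha b hb), hg a ha b hb]
      · exact one a ha u hu
      · rw [L.F_symm _ _ (h0 _ _), L.n_comm (h0 (L.n p t) b), one b hb t ht]
        abel
      · have e : L.n (L.n p t) (L.n p u) = L.n t u := L.inj (by
          simp only [hv]
          rw [add_add_add_comm, L.dbl, zero_add])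
        rw [e, g_new t ht, g_new u hu, g_old _ (hcl t ht u hu)]
        -- the plane through the new point
        have hpl := L.F_plane p (L.n p t) u (h0 _ _) (h0 _ _) (h0 _ _)
        have e2 : L.n (L.n p t) u = L.n p (L.n t u) := L.inj (by simp only [hv]; abel)
        have hsym : L.F (L.n p t) u = L.F u (L.n p t) := L.F_symm _ _ (h0 _ _)
        have hback : L.F p (L.n p (L.n t u)) = L.F p (L.n t u) := by
          rw [L.F_symm _ _ (h0 _ _), L.n_comm (h0 p (L.n t u)),
            ← L.F_move _ _ (h0 (L.n t u) p), L.F_symm _ _ (h0 _ _)]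
        rw [e2, hback, hsym, mixed u hu t ht, L.n_comm (h0 u t), L.F_symm u t (h0 _ _), hg t ht u hu] at hpl
        calc L.F (L.n p t) (L.n p u) = L.F p u + L.F (L.n p t) (L.n p u) + L.F p u := by
              rw [add_comm (L.F p u) (L.F _ _), add_assoc, L.two, add_zero]
          _ = g t + g u + g (L.n t u) + L.F p t + L.F p (L.n t u) + L.F p (L.n t u) + L.F p u := by rw [hpl]
          _ = g t + g u + g (L.n t u) + L.F p t + (L.F p (L.n t u) + L.F p (L.n t u)) + L.F p u := by abel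
          _ = _ := by rw [L.two, add_zero]; abel
  have hle : T ⊆ T' := Set.subset_union_left
  have := hmax hP hle
  exact hp (this (Or.inr ⟨L.o, ho, L.inj (by simp only [hv, L.v_o, add_zero])⟩))

/-- The function is a coboundary of one constant on orbits of the transvections. -/
theorem split [Finite α] :
    ∃ g : α → M, (∀ p q, L.B p q = 1 → g p = g q) ∧ ∀ p q, L.B p q = 0 → L.F p q = g p + g q + g (L.n p q) := by
  classical
  by_cases hflat : ∀ p q, L.B p q = 0
  · obtain ⟨g, hg⟩ := L.split_flat hflat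
    exact ⟨g, fun p q h => absurd ((hflat p q).symm.trans h) zero_ne_one, fun p q _ => hg p q⟩
  push Not at hflat
  obtain ⟨u, q0, hu⟩ := hflat
  have hq0 : L.Mv q0 := ⟨u, (zero_or_one _).resolve_left hu⟩
  obtain ⟨κ, hκ⟩ : ∃ κ, ∀ p q, L.Gen p q → L.F p q = κ := by
    by_cases h : ∃ p q, L.Gen p q
    · obtain ⟨p, q, h⟩ := h
      exact ⟨L.F p q, fun p' q' h' => L.gen_const h' h⟩
    · exact ⟨0, fun p q h' => absurd ⟨p, q, h'⟩ h⟩
  let g : α → M := fun p => if L.Mv p then κ else L.F p q0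
  have gm : ∀ {p}, L.Mv p → g p = κ := fun h => if_pos h
  have gr : ∀ {p}, ¬ L.Mv p → g p = L.F p q0 := fun h => if_neg h
  refine ⟨g, fun p q h => ?_, fun p q h => ?_⟩
  · rw [gm ⟨q, (L.B_symm q p).trans h⟩, gm ⟨p, h⟩]
  have one : ∀ {p q}, L.B p q = 0 → ¬ L.Mv p → L.Mv q → L.F p q = g p + g q + g (L.n p q) := fun {p q} h hp hq => by
    rw [gr hp, gm hq, gm ((L.mv_n_iff h hp).2 hq), add_assoc, L.two, add_zero]
    exact L.rad_same hp hq hq0
  by_cases hp : L.Mv p <;> by_cases hq : L.Mv q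
  · by_cases hn : L.Mv (L.n p q)
    · rw [hκ p q ⟨h, hp, hq, hn⟩, gm hp, gm hq, gm hn, L.two, zero_add]
    · rw [gm hp, gm hq, L.two, zero_add, gr hn, L.F_move p q h]
      exact L.rad_same hn hq hq0
  · have h' := (L.B_symm q p).trans h
    rw [L.F_symm p q h, L.n_comm h, one h' hq hp]
    abel
  · exact one h hp hq
  · have h0 : ∀ {a}, ¬ L.Mv a → ∀ w, L.B a w = 0 := fun ha w =>
      (zero_or_one _).resolve_right fun k => ha ⟨w, (L.B_symm w _).trans k⟩
    have hn : ¬ L.Mv (L.n p q) := fun k => hq ((L.mv_n_iff h hp).1 k)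
    have hpl := L.F_plane q0 p q ((L.B_symm q0 p).trans (h0 hp q0)) ((L.B_symm q0 q).trans (h0 hq q0)) h
    have hs : ∀ {a}, ¬ L.Mv a → L.F q0 a = g a := fun {a} ha => by
      rw [gr ha, L.F_symm q0 a ((L.B_symm q0 a).trans (h0 ha q0))]
    have hmn : L.Mv (L.n q0 q) := by
      have hqq := (L.B_symm q0 q).trans (h0 hq q0)
      rw [L.n_comm hqq]
      exact (L.mv_n_iff (h0 hq q0) hq).2 hq0
    rw [hs hq, hs hn, L.rad_same hp hmn hq0, ← gr hp] at hpl
    calc L.F p q = L.F p q + g (L.n p q) + g (L.n p q) := by rw [add_assoc, L.two, add_zero]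
      _ = g q + g p + g (L.n p q) := by rw [hpl]
      _ = _ := by abel

end LineData

end Cfsg.Agent.Fus.TwoRadical
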