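import Cfsg.Agent.Lib.Fus.TwoRadical.PerpCentral
import Cfsg.Agent.Lib.Spor.Triality.Switch

/-!
The central quotient with a disconnected commuting graph: fibres of two cosets generate, and every
turning triangle is central up to elements fixing the fibre when it is so inside one coset.
-/

set_option autoImplicit false
set_option linter.style.haveILetI false
set_option linter.unusedSectionVars false

namespace Cfsg.Agent.Fus.TwoRadical

open Cfsg Cfsg.Agent.Spor Cfsg.Agent.Fus.SUTwoRadical Cfsg.Agent.Spor.Triality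

theorem cubeless : ∀ a : Equiv.Perm (Fin 3), a * a = 1 ∧ a ≠ 1 → ∀ b : Equiv.Perm (Fin 3), b * b = 1 ∧ b ≠ 1 →
    ∀ c : Equiv.Perm (Fin 3), c * c = 1 ∧ c ≠ 1 → (a * b * c) ^ 2 = 1 := by decide +kernel

theorem third : ∀ a b : Equiv.Perm (Fin 3), a * a = 1 → a ≠ 1 → b * b = 1 → b ≠ 1 → a ≠ b →
    a ≠ b * a * b ∧ ∀ g, g = 1 ∨ g = a ∨ g = b ∨ g = a * b ∨ g = b * a ∨ g = a * b * a := by decide

universe u

variable {W : Type u} [Group W] [Finite W] {E : Set W} {L : Subgroup W}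

/-- The image of the three cosets. -/
theorem exists_sign (C : Cfg E L) (hS : ∀ [L.Normal], Nonempty (W ⧸ L ≃* Equiv.Perm (Fin 3))) :
    ∃ ρ : W →* Equiv.Perm (Fin 3), (∀ g, ρ g = 1 ↔ g ∈ L) ∧
      (∀ x ∈ E, ρ x * ρ x = 1 ∧ ρ x ≠ 1) ∧ ∀ x ∈ E, ∀ y ∈ E, (ρ x = ρ y ↔ x * y ∈ L) := by
  haveI := C.nrm
  obtain ⟨i⟩ := hS
  refine ⟨i.toMonoidHom.comp (QuotientGroup.mk' L), fun g => ?_, fun x hx => ⟨?_, fun k => C.out x hx ?_⟩,
    fun x hx y hy => ?_⟩
  · simp
  · rw [← map_mul, C.sq hx, map_one]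
  · simpa using k
  · rw [← mul_inv_eq_one, ← map_inv, C.inv hy, ← map_mul]
    show i (QuotientGroup.mk' L (x * y)) = 1 ↔ x * y ∈ L
    rw [map_eq_one_iff i i.injective]
    exact QuotientGroup.eq_one_iff _

/-- The members commuting with one of two members of different cosets generate. -/
theorem pair_gen (C : Cfg E L) (hS : ∀ [L.Normal], Nonempty (W ⧸ L ≃* Equiv.Perm (Fin 3))) {x y : W}
    (hx : x ∈ E) (hy : y ∈ E) (hout : x * y ∉ L) :
    Subgroup.closure {z | z ∈ E ∧ (Commute z x ∨ Commute z y)} = ⊤ := by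
  haveI := C.nrm
  obtain ⟨ρ, hρ, hinv, heq⟩ := exists_sign C hS
  obtain ⟨M, hM⟩ : ∃ M, M = Subgroup.closure {z | z ∈ E ∧ (Commute z x ∨ Commute z y)} := ⟨_, rfl⟩
  rw [← hM]
  have inM : ∀ {z}, z ∈ E → (Commute z x ∨ Commute z y) → z ∈ M := fun hz h =>
    hM ▸ Subgroup.subset_closure ⟨hz, h⟩
  obtain ⟨u, hu, huy, hcy⟩ : ∃ u ∈ E, u ≠ y ∧ Commute u y := by
    obtain ⟨a, ha, b, hb, hab, hc⟩ := C.pair
    obtain ⟨g, rfl⟩ := FischerStr.exists_conj C.cls ha hy
    exact ⟨g * b * g⁻¹, FischerStr.conj_mem C.cls g hb, fun e => hab (mul_left_cancel (mul_right_cancel e)).symm,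
      (ThreeTrans.commute_conj_iff g b a).2 hc.symm⟩
  obtain ⟨h1, h2⟩ := C.pair_sw hx hy hu huy.symm hcy.symm hout
  set z := y * u with hz
  have hz2 : z * z = 1 := C.prod_sq hy hu hcy.symm
  have hzM : z ∈ M := mul_mem (inM hy (Or.inr (Commute.refl y))) (inM hu (Or.inr hcy))
  have hzL : z ∈ L := C.width y hy u hu hcy.symm
  have hzi : z⁻¹ = z := inv_eq_of_mul_eq_one_right hz2
  have cj : ∀ {a b : W}, Commute a b → Commute (z * a * z) (z * b * z) := fun {a b} k => by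
    have := (ThreeTrans.commute_conj_iff z a b).2 k
    rwa [hzi] at this
  have back : ∀ a : W, z * (z * a * z) * z = a := fun a => by
    rw [show z * (z * a * z) * z = (z * z) * a * (z * z) by group, hz2, one_mul, mul_one]
  have memE : ∀ {a : W}, a ∈ E → z * a * z ∈ E := fun {a} ha => by
    have := FischerStr.conj_mem C.cls z ha
    rwa [hzi] at this
  set x1 := z * x * z with hx1
  have hx1E : x1 ∈ E := memE hx
  have hne : x1 ≠ x := fun e => h1 (show x * z = z * x by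
    conv_lhs => rw [← e, hx1]
    rw [mul_assoc, hz2, mul_one])
  have g := C.good hx
  let X : ↥(grp E L x) := ⟨x, Subgroup.subset_closure (C.self_cl hx)⟩
  have hX : X ∈ clG E L x := C.self_cl hx
  have hx1c : x1 ∈ cl E L x := ⟨hx1E, C.width x hx x1 hx1E h2⟩
  let X1 : ↥(grp E L x) := ⟨x1, Subgroup.subset_closure hx1c⟩
  have hX1 : X1 ∈ clG E L x := hx1c
  obtain ⟨-, hmax⟩ := FischerStr.perp_maximal g.cls g.primitive g.pair hX
  let S : Set ↥(grp E L x) := {w | w ∈ clG E L x ∧ (Commute w X ∨ Commute w X1)}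
  have hd : IsDSubgroup (clG E L x) (Subgroup.closure S) := by
    refine le_antisymm ((Subgroup.closure_le _).2 fun w hw => hw.2) (Subgroup.closure_mono fun w hw => ?_)
    exact ⟨hw.1, Subgroup.subset_closure hw⟩
  have htop : Subgroup.closure S = ⊤ := by
    refine (hmax _ hd (Subgroup.closure_mono fun w hw => ⟨hw.1, Or.inl hw.2.symm⟩)).resolve_left fun e => ?_
    have key : ∀ w ∈ clG E L x, Commute X1 w → Commute X w := fun w hw hc => by
      have hw' : w ∈ Subgroup.closure {w | w ∈ clG E L x ∧ Commute X w} :=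
        e ▸ Subgroup.subset_closure ⟨hw, Or.inr hc.symm⟩
      have hle : Subgroup.closure {w | w ∈ clG E L x ∧ Commute X w} ≤ Subgroup.centralizer {X} :=
        (Subgroup.closure_le _).2 fun v hv => Subgroup.mem_centralizer_singleton_iff.2 hv.2.eq.symm
      exact (Subgroup.mem_centralizer_singleton_iff.1 (hle hw')).symm
    refine hne (congrArg Subtype.val (g.tf X X1 ⟨hX, hX1, fun w hw => ⟨fun hc => ?_, key w hw⟩⟩)).symm
    have hc' : Commute x (w : W) := congrArg Subtype.val hc.eq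
    have hwE : z * (w : W) * z ∈ E := memE hw.1
    have hc1 : Commute x1 (z * (w : W) * z) := cj hc'
    have hwc : z * (w : W) * z ∈ cl E L x := ⟨hwE, C.trans hx1E hx1c.2 (C.width x1 hx1E _ hwE hc1)⟩
    have hk : Commute x (z * (w : W) * z) :=
      congrArg Subtype.val (key ⟨_, Subgroup.subset_closure hwc⟩ hwc (Subtype.ext hc1.eq)).eq
    have := cj hk
    rw [back] at this
    exact Subtype.ext this.eq
  have hgrp : grp E L x ≤ M := fun w hw => by
    have hw' : (⟨w, hw⟩ : ↥(grp E L x)) ∈ Subgroup.closure S := htop ▸ Subgroup.mem_top _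
    have hle : Subgroup.closure S ≤ M.comap (grp E L x).subtype := (Subgroup.closure_le _).2 fun v hv => by
      show (v : W) ∈ M
      rcases hv.2 with k | k
      · exact inM hv.1.1 (Or.inl (congrArg Subtype.val k.eq))
      · have hk : Commute (z * (v : W) * z) x := by
          have := cj (show Commute (v : W) x1 from congrArg Subtype.val k.eq)
          rwa [hx1, back] at this
        rw [← back (v : W)]
        exact mul_mem (mul_mem hzM (inM (memE hv.1.1) (Or.inl hk))) hzM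
    exact hle hw'
  have hLM : L ≤ M := (C.L_le_grp hx).trans hgrp
  refine eq_top_iff.2 fun g _ => ?_
  have hab : ρ x ≠ ρ y := fun k => hout ((heq x hx y hy).1 k)
  obtain ⟨-, hall⟩ := third (ρ x) (ρ y) (hinv x hx).1 (hinv x hx).2 (hinv y hy).1 (hinv y hy).2 hab
  have hm : ∃ m ∈ M, ρ m = ρ g := by
    have mx := inM hx (Or.inl (Commute.refl x))
    have my := inM hy (Or.inr (Commute.refl y))
    rcases hall (ρ g) with k | k | k | k | k | k <;> rw [k]
    · exact ⟨1, one_mem _, map_one ρ⟩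
    · exact ⟨x, mx, rfl⟩
    · exact ⟨y, my, rfl⟩
    · exact ⟨x * y, mul_mem mx my, map_mul ρ x y⟩
    · exact ⟨y * x, mul_mem my mx, map_mul ρ y x⟩
    · exact ⟨x * y * x, mul_mem (mul_mem mx my) mx, by simp⟩
  obtain ⟨m, hm, e⟩ := hm
  rw [show g = m * (m⁻¹ * g) by group]
  exact mul_mem hm (hLM ((hρ _).1 (by rw [map_mul, map_inv, e, inv_mul_cancel])))

variable {G : Type*} [Group G] [Finite G] {H : Type*} [Group H] [Finite H] {π : G →* H} {D : Set G}
  (C : Ctx π D) (f : H →* W) (hf : Function.Surjective f) (hker : ∀ z, f z = 1 → z ∈ Subgroup.center H)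
  (hinj : Set.InjOn f (π '' D)) (hcom : ∀ a ∈ π '' D, ∀ b ∈ π '' D, Commute (f a) (f b) → Commute a b)
  (hE : f '' (π '' D) = E) (K : Cfg E L) (hS : ∀ [L.Normal], Nonempty (W ⧸ L ≃* Equiv.Perm (Fin 3)))
include C f hf hker hinj hcom hE K hS

/-- All fibre groups commute. -/
theorem cu_disjoined : ∀ x ∈ π '' D, ∀ y ∈ π '' D, CU π D x y := by
  have h := C.hyp
  obtain ⟨ρ, hρ, hinv, heq⟩ := exists_sign K hS
  have mem : ∀ {a}, a ∈ π '' D → f a ∈ E := fun ha => hE ▸ ⟨_, ha, rfl⟩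
  have far : ∀ x ∈ π '' D, ∀ y ∈ π '' D, ρ (f x) ≠ ρ (f y) → CU π D x y := by
    intro x hx y hy hne
    refine CU_of_closure h C.cls C.cen hy (eq_top_iff.2 ?_)
    set M := Subgroup.closure {z | z ∈ π '' D ∧ (Commute z x ∨ Commute z y)}
    have hfM : ∀ v : W, ∃ m ∈ M, f m = v := fun v => by
      have hv := pair_gen K hS (mem hx) (mem hy) (fun k => hne ((heq _ (mem hx) _ (mem hy)).2 k))
      have hle : Subgroup.closure {z | z ∈ E ∧ (Commute z (f x) ∨ Commute z (f y))} ≤ M.map f :=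
        (Subgroup.closure_le _).2 fun z hz => by
          obtain ⟨a, ha, rfl⟩ := hE.symm ▸ hz.1
          exact ⟨a, Subgroup.subset_closure ⟨ha, hz.2.imp (hcom a ha x hx) (hcom a ha y hy)⟩, rfl⟩
      exact hle (hv ▸ Subgroup.mem_top v)
    have hgen : Subgroup.closure (π '' D) = ⊤ := by
      rw [← MonoidHom.map_closure, C.cls.2.2, Subgroup.map_top_of_surjective π C.surj]
    rw [← hgen, Subgroup.closure_le]
    intro w hw
    obtain ⟨d, hd, rfl⟩ := hw
    obtain ⟨d', hd', rfl⟩ := hx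
    obtain ⟨g, hg⟩ := ThreeTrans.transitive C.cls hd' hd
    obtain ⟨m, hm, em⟩ := hfM (f (π g))
    obtain ⟨g', eg'⟩ := C.surj m
    have e : π d = m * π d' * m⁻¹ := hinj ⟨d, hd, rfl⟩ ⟨g' * d' * g'⁻¹, C.conj g' hd', by simp [eg']⟩ (by
      simp [← hg, em])
    rw [e]
    exact mul_mem (mul_mem hm (Subgroup.subset_closure ⟨⟨d', hd', rfl⟩, Or.inl (Commute.refl _)⟩)) (inv_mem hm)
  intro x hx y hy
  by_cases hc : Commute x y
  · exact CU_of_commute h hc
  by_cases hr : ρ (f x) = ρ (f y)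
  swap
  · exact far x hx y hy hr
  obtain ⟨v, hv, hvx⟩ := K.many _ (mem hx)
  obtain ⟨v, ⟨v', hv', rfl⟩, rfl⟩ := hE.symm ▸ hv
  obtain ⟨y', hy', rfl⟩ := hy
  have hne : ρ (f x) ≠ ρ (f (π v')) := fun k => hvx ((heq _ (mem hx) _ hv).1 k)
  have hyv : ¬ Commute (π y') (π v') := fun k =>
    K.apart (mem ⟨y', hy', rfl⟩) hv (fun m => hne (hr.trans ((heq _ (mem ⟨y', hy', rfl⟩) _ hv).2 m))) (k.map f)
  refine CU_of_line h hy' hv' hyv (far _ ⟨y', hy', rfl⟩ _ ⟨v', hv', rfl⟩ (hr ▸ hne))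
    (far _ hx _ ⟨v', hv', rfl⟩ hne) (far _ hx _ ⟨v' * y' * v', conj_mem' h hy' hv', by simp⟩ ?_)
  simp only [map_mul, ← hr]
  exact (third _ _ (hinv _ (mem hx)).1 (hinv _ (mem hx)).2 (hinv _ hv).1 (hinv _ hv).2 hne).1

/-- Every turning triangle gives a central image. -/
theorem imgCentral_disjoined (cu : ∀ x ∈ π '' D, ∀ y ∈ π '' D, CU π D x y)
    (hgood : ∀ w ∈ E, FischerThm.RowAdd (clG E L w) ∨ MonPerp (clG E L w)) : ImgCentral π D := by
  have h := C.hyp
  obtain ⟨ρ, hρ, hinv, heq⟩ := exists_sign K hS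
  have mem : ∀ {a}, a ∈ D → f (π a) ∈ E := fun ha => hE ▸ ⟨_, ⟨_, ha, rfl⟩, rfl⟩
  refine imgCentral_of_sup fun d hd e he g hg a1 a2 a3 _ => ?_
  set w := f (π ((g * d * e) ^ 2)) with hw
  have hwL : w ∈ L := (hρ _).1 (by
    simp only [hw, map_pow, map_mul]
    exact cubeless _ (hinv _ (mem hg)) _ (hinv _ (mem hd)) _ (hinv _ (mem he)))
  let S : Set G := {s | s ∈ D ∧ f (π s) ∈ cl E L (f (π d))}
  let N : Subgroup G := Subgroup.closure S
  have hgrp : grp E L (f (π d)) ≤ N.map (f.comp π) := (Subgroup.closure_le _).2 fun v hv => by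
    obtain ⟨a, ⟨s, hs, rfl⟩, rfl⟩ := hE.symm ▸ hv.1
    exact ⟨s, Subgroup.subset_closure ⟨hs, hv⟩, rfl⟩
  obtain ⟨k, hkN, ek⟩ := hgrp (K.L_le_grp (mem hd) hwL)
  simp only [MonoidHom.coe_comp, Function.comp_apply] at ek
  have hkd : π k * π d * (π k)⁻¹ = π d := hinj ⟨k * d * k⁻¹, C.conj k hd, by simp⟩ ⟨d, hd, rfl⟩ (by
    have hc : Commute w (f (π d)) := ((mon_commute h hd (tri_mem he hg a1 a2 a3)).map π).map f
    rw [map_mul, map_mul, map_inv, ek, hc.eq, mul_inv_cancel_right])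
  -- the subgroup of one coset
  let D' : Set ↥N := {s | (s : G) ∈ S}
  have hSN : ∀ {s : G}, s ∈ S → s ∈ N := fun hs => Subgroup.subset_closure hs
  have hNS : ∀ t ∈ N, ∀ s ∈ S, t * s * t⁻¹ ∈ S := by
    intro t ht s hs
    refine ⟨C.conj t hs.1, mem (C.conj t hs.1), ?_⟩
    rw [← heq _ (mem hd) _ (mem (C.conj t hs.1))]
    have es : ρ (f (π s)) = ρ (f (π d)) := ((heq _ (mem hd) _ (mem hs.1)).2 hs.2.2).symm
    have hcomm : Commute (ρ (f (π t))) (ρ (f (π d))) := by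
      induction ht using Subgroup.closure_induction with
      | mem v hv => rw [← (heq _ (mem hd) _ (mem hv.1)).2 hv.2.2]
      | one => simp
      | mul a b _ _ ia ib => simpa using ia.mul_left ib
      | inv a _ ia => simpa using ia.inv_left
    simp only [map_mul, map_inv, es]
    rw [hcomm.eq, mul_inv_cancel_right]
  let π' : ↥N →* H := π.comp N.subtype
  have h' : Hyp π' D' := ⟨⟨fun s hs => by rw [← Subgroup.orderOf_coe]; exact h.three.1 _ hs.1,
      fun s hs t ht => (h.three.2 _ hs.1 _ ht.1).imp (fun k => Subtype.ext (by simpa using k))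
        fun k => Subtype.ext (by simpa using k)⟩,
    fun t s hs => hNS t t.2 s hs, fun c hc => by
      obtain ⟨j, hj⟩ := h.two c hc
      exact ⟨j, Subtype.ext (by simpa using hj)⟩⟩
  have hUle : ∀ x, (U π' D' x).map N.subtype ≤ U π D x := fun x => by
    rw [Subgroup.map_le_iff_le_comap]
    refine (Subgroup.closure_le _).2 ?_
    rintro _ ⟨a, ha, b, hb, e1, e2, rfl⟩
    exact Subgroup.subset_closure ⟨a, ha.1, b, hb.1, e1, e2, rfl⟩
  have hUge : ∀ {s : G}, s ∈ S → U π D (π s) ≤ (U π' D' (π s)).map N.subtype := fun {s} hs => by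
    refine (Subgroup.closure_le _).2 ?_
    rintro _ ⟨a, ha, b, hb, e1, e2, rfl⟩
    have ha' : a ∈ S := ⟨ha, by rw [e1]; exact hs.2⟩
    have hb' : b ∈ S := ⟨hb, by rw [e2]; exact hs.2⟩
    exact ⟨⟨a, hSN ha'⟩ * ⟨b, hSN hb'⟩, Subgroup.subset_closure ⟨⟨a, hSN ha'⟩, ha', ⟨b, hSN hb'⟩, hb', e1, e2, rfl⟩, rfl⟩
  have cu' : ∀ x ∈ π' '' D', ∀ y ∈ π' '' D', CU π' D' x y := by
    rintro _ ⟨a, ha, rfl⟩ _ ⟨b, hb, rfl⟩ p hp q hq
    exact Subtype.ext (cu _ ⟨a, ha.1, rfl⟩ _ ⟨b, hb.1, rfl⟩ _ (hUle _ ⟨p, hp, rfl⟩) _ (hUle _ ⟨q, hq, rfl⟩)).eq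
  have hgen : Subgroup.closure D' = ⊤ := Subgroup.closure_closure_coe_preimage
  have hdS : d ∈ S := ⟨hd, K.self_cl (mem hd)⟩
  obtain ⟨m, hm, hact⟩ := exists_mon h' cu' hgen (d := ⟨d, hSN hdS⟩) hdS (g := ⟨k, hkN⟩) hkd
  have hmon : Mon D' ⟨d, hSN hdS⟩ ≤ (Fix π D (π d) ⊔ Pz π).comap N.subtype := by
    refine (Subgroup.closure_le _).2 ?_
    rintro _ ⟨e', he', g', hg', b1, b2, b3, rfl⟩
    have c1 : ¬ Commute d (e' : G) := fun k => b1 (Subtype.ext k.eq)
    have c2 : ¬ Commute (e' : G) (g' : G) := fun k => b2 (Subtype.ext k.eq)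
    have c3 : ¬ Commute d (g' : G) := fun k => b3 (Subtype.ext k.eq)
    show ((g' : G) * d * (e' : G)) ^ 2 ∈ Fix π D (π d) ⊔ Pz π
    by_cases hc : Commute (π (g' : G)) (π (e' : G) * π d * π (e' : G))
    · exact Subgroup.mem_sup_left fun a ha => tri_trivial h cu hd he'.1 hg'.1 c1 c2 c3 hc ha
    have ap : ∀ {a b : G}, a ∈ D → b ∈ D → ¬ Commute a b → ¬ Commute (f (π a)) (f (π b)) :=
      fun ha hb hn k => apart_image h ha hb hn (hcom _ ⟨_, ha, rfl⟩ _ ⟨_, hb, rfl⟩ k)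
    let lf : ∀ s : G, s ∈ S → ↥(grp E L (f (π d))) := fun s hs => ⟨f (π s), Subgroup.subset_closure hs.2⟩
    have apT : ∀ {a b : G} (ha : a ∈ S) (hb : b ∈ S), ¬ Commute a b → ¬ Commute (lf a ha) (lf b hb) :=
      fun ha hb hn k => ap ha.1 hb.1 hn (congrArg Subtype.val k.eq)
    have hnot : ¬ Commute (lf _ hg') (lf _ he' * lf _ hdS * lf _ he') := fun k => hc
      (hcom _ ⟨g', hg'.1, rfl⟩ _ ⟨(e' : G) * d * e', conj_mem' h hd he'.1, by simp⟩
        (by simpa [map_mul, lf, Commute, SemiconjBy] using congrArg Subtype.val k.eq))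
    rcases hgood (f (π d)) (mem hd) with hR | hM
    · exact (hnot (hR (lf _ he') he'.2 (lf _ hdS) hdS.2 (apT he' hdS fun k => c1 k.symm) (lf _ hg') hg'.2
        (apT hg' he' fun k => c2 k.symm) (apT hg' hdS fun k => c3 k.symm))).elim
    · have hmem := hM (lf _ hdS) hdS.2 (lf _ he') he'.2 (lf _ hg') hg'.2 (apT hdS he' c1) (apT he' hg' c2)
        (apT hdS hg' c3) hnot
      refine mem_sup_of_closure h f hker (S := S) (fun s hs => hs.1)
        (fun s hs => hcom _ ⟨s, hs.1, rfl⟩ _ ⟨d, hd, rfl⟩) ?_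
      have hm' := Subgroup.mem_map_of_mem (grp E L (f (π d))).subtype hmem
      rw [MonoidHom.map_closure] at hm'
      have e3 : f (π (((g' : G) * d * (e' : G)) ^ 2)) =
          (grp E L (f (π d))).subtype ((lf _ hg' * lf _ hdS * lf _ he') ^ 2) := by simp [lf]
      rw [e3]
      refine Subgroup.closure_mono ?_ hm'
      rintro _ ⟨v, ⟨hv1, hv2⟩, rfl⟩
      obtain ⟨_, ⟨s, hs, rfl⟩, es⟩ : (v : W) ∈ f '' (π '' D) := hE.symm ▸ hv1.1
      exact ⟨⟨π s, ⟨s, ⟨hs, es ▸ hv1⟩, rfl⟩, es⟩, congrArg Subtype.val hv2.eq⟩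
  have hmF : (m : G) ∈ Fix π D (π d) ⊔ Pz π := hmon hm
  have hkm : k * (m : G)⁻¹ ∈ Fix π D (π d) := fun a ha => by
    obtain ⟨a', ha', rfl⟩ := hUge hdS ha
    have := congrArg Subtype.val (hact _ (mon_conj_U h' hdS (inv_mem hm) ha'))
    simp only [Subgroup.coe_mul, InvMemClass.coe_inv] at this
    rw [Subgroup.coe_subtype, show k * (m : G)⁻¹ * (a' : G) * (k * (m : G)⁻¹)⁻¹ =
      k * ((m : G)⁻¹ * a' * ((m : G)⁻¹)⁻¹) * k⁻¹ by group]
    show _ = (a' : G)
    rw [this]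
    group
  rw [show (g * d * e) ^ 2 = (k * (m : G)⁻¹) * (m : G) * (k⁻¹ * (g * d * e) ^ 2) by group]
  refine mul_mem (mul_mem (Subgroup.mem_sup_left hkm) hmF) (Subgroup.mem_sup_right (hker _ ?_))
  rw [map_mul, map_inv, map_mul f, map_inv, ek, ← hw, inv_mul_cancel]

end Cfsg.Agent.Fus.TwoRadical
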