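import Cfsg.Agent.Lib.Fus.TwoRadical.PerpCentral
import Cfsg.Agent.Lib.Spor.FischerThm.ReflFive
import Cfsg.Agent.Lib.Spor.FischerThm.MCaseTwentyTwo

/-!
In a reflection class over three elements a turning triangle moves by a long root element; from six
dimensions on, and in five with central cores below a member, it lies in the group of the members
commuting with its first point.
-/

set_option autoImplicit false
set_option linter.style.haveILetI false
set_option linter.unusedSectionVars false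

namespace Cfsg.Agent.Fus.TwoRadical

open Cfsg Cfsg.Agent.Spor Cfsg.Agent.Spor.FischerThm Cfsg.Agent.Block.FischerTypes

variable {n : ℕ} {Q : QuadraticForm (ZMod 3) (Q3.V n)}

/-- The polar form. -/
local notation "BQ" => Q3.B Q

theorem b_add_left (u v w : Q3.V n) : BQ (u + v) w = BQ u w + BQ v w := QuadraticMap.polar_add_left Q u v w

theorem b_add_right (u v w : Q3.V n) : BQ u (v + w) = BQ u v + BQ u w := QuadraticMap.polar_add_right Q u v w

theorem b_smul_left (t : ZMod 3) (u v : Q3.V n) : BQ (t • u) v = t * BQ u v := by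
  simp [Q3.B, QuadraticMap.polar_smul_left]

theorem b_smul_right (t : ZMod 3) (u v : Q3.V n) : BQ u (t • v) = t * BQ u v := by
  simp [Q3.B, QuadraticMap.polar_smul_right]

theorem b_sub_right (u v w : Q3.V n) : BQ u (v - w) = BQ u v - BQ u w := QuadraticMap.polar_sub_right Q u v w

theorem b_sub_left (u v w : Q3.V n) : BQ (u - v) w = BQ u w - BQ v w := QuadraticMap.polar_sub_left Q u v w

theorem b_self (u : Q3.V n) : BQ u u = 2 * Q u := by
  rw [Q3.B, QuadraticMap.polar_self, two_nsmul]; ring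

theorem q_add (u v : Q3.V n) : Q (u + v) = Q u + Q v + BQ u v := by
  rw [Q3.B, QuadraticMap.polar]; ring

theorem q_smul (t : ZMod 3) (u : Q3.V n) : Q (t • u) = t * t * Q u := by
  rw [QuadraticMap.map_smul, smul_eq_mul]

/-- Eichler transformations along a singular vector. -/
def eich (Q : QuadraticForm (ZMod 3) (Q3.V n)) (r u v : Q3.V n) : Q3.V n :=
  v - Q3.B Q r v • u + (Q3.B Q u v - Q3.B Q r v * Q u) • r

theorem eich_add {r u u' : Q3.V n} (hr : Q r = 0) (hu : BQ r u = 0) (hu' : BQ r u' = 0) (v : Q3.V n) :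
    eich Q r u (eich Q r u' v) = eich Q r (u + u') v := by
  have hrr : BQ r r = 0 := by rw [b_self, hr, mul_zero]
  have hur : BQ u r = 0 := by rw [Q3.B_comm]; exact hu
  simp only [eich, b_add_right, b_sub_right, b_smul_right, b_add_left, q_add, hrr, hu, hu', hur]
  module

theorem six_turn : ∀ p a b : ZMod 3,
    (let st : ZMod 3 → ZMod 3 → ZMod 3 → ZMod 3 × ZMod 3 × ZMod 3 → ZMod 3 × ZMod 3 × ZMod 3 :=
       fun c i j s => (s.1 - (p + 2 * s.1 + c), s.2.1 - i * (p + 2 * s.1 + c), s.2.2 - j * (p + 2 * s.1 + c))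
     let ex := st 0 0 0
     let ee := st b 0 1
     let ef := st a 1 0
     ef (ex (ee (ef (ex (ee (0, 0, 0)))))) = (0, b, -a)) := by
  decide +kernel

variable {K : Type*} [Group K] {E : Set K} {pv : Q3.V n → K}

/-- An element moving points as a linear map does. -/
def Acts (Q : QuadraticForm (ZMod 3) (Q3.V n)) (pv : Q3.V n → K) (g : K) (T : Q3.V n → Q3.V n) : Prop :=
  ∀ v, Q v = 1 → Q (T v) = 1 ∧ g * pv v * g⁻¹ = pv (T v)

theorem Acts.mul {g g' : K} {T T' : Q3.V n → Q3.V n} (h : Acts Q pv g T) (h' : Acts Q pv g' T') :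
    Acts Q pv (g * g') (T ∘ T') := fun v hv => by
  obtain ⟨h1, e1⟩ := h' v hv
  obtain ⟨h2, e2⟩ := h _ h1
  refine ⟨h2, ?_⟩
  rw [show g * g' * pv v * (g * g')⁻¹ = g * (g' * pv v * g'⁻¹) * g⁻¹ by group, e1, e2]
  rfl

variable (R : RModel E Q pv)
include R

theorem acts_refl {x : Q3.V n} (hx : Q x = 1) : Acts Q pv (pv x) (fun v => v - BQ x v • x) := fun v hv =>
  ⟨R.q_move hx hv, by rw [ThreeTrans.inv_eq R.cls.1 (R.mem x hx), R.conj x v hx hv]⟩

/-- A translation along a singular vector. -/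
theorem acts_tau {r u : Q3.V n} (hr : Q r = 0) (hu : Q u = 1) (hru : BQ r u = 0) :
    Acts Q pv (pv (u + r) * pv u) (eich Q r u) := by
  have hur : BQ u r = 0 := by rw [Q3.B_comm]; exact hru
  have hq : Q (u + r) = 1 := by rw [q_add, hu, hr, hur]; simp
  intro v hv
  obtain ⟨h1, e⟩ := ((acts_refl R hq).mul (acts_refl R hu)) v hv
  have e' : ((fun w => w - BQ (u + r) w • (u + r)) ∘ fun w => w - BQ u w • u) v = eich Q r u v := by
    have huu : BQ u u = 2 := by rw [b_self, hu, mul_one]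
    simp only [Function.comp_apply, eich, b_add_left, b_sub_right, b_smul_right, huu, hru, hu]
    have h3 : ∀ p : ZMod 3, p * 2 = -p := by decide
    match_scalars <;> grind
  exact ⟨e' ▸ h1, e' ▸ e⟩

/-- Three dual vectors. -/
theorem exists_dual {k : ℕ} (b : Fin k → Q3.V n) (hb : LinearIndependent (ZMod 3) b) (val : Fin k → ZMod 3) :
    ∃ t, ∀ i, BQ (b i) t = val i := by
  classical
  let A : Q3.V n →ₗ[ZMod 3] (Fin k → ZMod 3) := LinearMap.pi fun i => (QuadraticMap.polarBilin Q) (b i)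
  have hA : Function.Surjective A := by
    rw [← LinearMap.dualMap_injective_iff, injective_iff_map_eq_zero]
    intro φ hφ
    have hd : ∀ v, BQ (∑ i, φ (Pi.single i 1) • b i) v = φ (A v) := fun v => by
      have e : A v = ∑ i, (A v i) • (Pi.single i (1 : ZMod 3) : Fin k → ZMod 3) := by
        funext j; simp [Finset.sum_apply, Pi.single_apply]
      conv_rhs => rw [e, map_sum]
      show (QuadraticMap.polarBilin Q) (∑ i, φ (Pi.single i 1) • b i) v = _
      simp [map_sum, LinearMap.sum_apply, A, mul_comm]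
    have h0 : ∑ i, φ (Pi.single i 1) • b i = 0 := R.nd.1 _ fun v => by
      show BQ _ v = 0
      rw [hd v]
      exact LinearMap.congr_fun hφ v
    have hall := Fintype.linearIndependent_iff.1 hb _ h0
    refine LinearMap.pi_ext' fun i => LinearMap.ext_ring ?_
    simpa using hall i
  obtain ⟨t, ht⟩ := hA val
  exact ⟨t, fun i => congrFun ht i⟩

/-- Five vectors in general position around a turning triangle. -/
theorem exists_frame {x r1 r2 : Q3.V n} (hx : Q x = 1) (h1 : Q r1 = 0) (h2 : Q r2 = 0) (h12 : BQ r1 r2 = 0)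
    (x1 : BQ x r1 = 0) (x2 : BQ x r2 = 0) (hi : ∀ a b : ZMod 3, a • r1 + b • r2 = 0 → a = 0 ∧ b = 0) :
    ∃ t1 t2, BQ x t1 = 0 ∧ BQ x t2 = 0 ∧ BQ r1 t1 = 1 ∧ BQ r2 t1 = 0 ∧ BQ r1 t2 = 0 ∧ BQ r2 t2 = 1 ∧
      Q t1 = 0 ∧ Q t2 = 0 ∧ BQ t1 t2 = 0 := by
  have hxx : BQ x x = 2 := by rw [b_self, hx, mul_one]
  have r11 : BQ r1 r1 = 0 := by rw [b_self, h1, mul_zero]
  have r22 : BQ r2 r2 = 0 := by rw [b_self, h2, mul_zero]
  have li3 : LinearIndependent (ZMod 3) ![x, r1, r2] := by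
    rw [Fintype.linearIndependent_iff]
    intro g hg
    rw [Fin.sum_univ_three] at hg
    simp only [Matrix.cons_val_zero, Matrix.cons_val_one, Matrix.cons_val] at hg
    have e0 : g 0 = 0 := by
      have := congrArg (BQ x) hg
      simp only [b_add_right, b_smul_right, hxx, x1, x2, mul_zero, add_zero] at this
      rw [show BQ x 0 = 0 by simp [Q3.B, QuadraticMap.polar]] at this
      exact (mul_eq_zero.1 this).resolve_right (by decide)
    rw [e0, zero_smul, zero_add] at hg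
    obtain ⟨e1, e2⟩ := hi _ _ hg
    intro i
    fin_cases i <;> assumption
  obtain ⟨t1', ht1⟩ := exists_dual R _ li3 ![0, 1, 0]
  have a1 : BQ x t1' = 0 := ht1 0
  have a2 : BQ r1 t1' = 1 := ht1 1
  have a3 : BQ r2 t1' = 0 := ht1 2
  set t1 := t1' + (-Q t1') • r1 with ht1def
  have b1 : BQ x t1 = 0 := by rw [ht1def, b_add_right, b_smul_right, a1, x1, mul_zero, add_zero]
  have b2 : BQ r1 t1 = 1 := by rw [ht1def, b_add_right, b_smul_right, a2, r11, mul_zero, add_zero]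
  have b3 : BQ r2 t1 = 0 := by
    rw [ht1def, b_add_right, b_smul_right, a3, Q3.B_comm Q r2 r1, h12, mul_zero, add_zero]
  have b4 : Q t1 = 0 := by
    rw [ht1def, q_add, q_smul, h1, b_smul_right, Q3.B_comm Q t1' r1, a2]; ring
  have li4 : LinearIndependent (ZMod 3) ![x, r1, r2, t1] := by
    rw [Fintype.linearIndependent_iff]
    intro g hg
    rw [Fin.sum_univ_four] at hg
    simp only [Matrix.cons_val_zero, Matrix.cons_val_one, Matrix.cons_val] at hg
    have e3 : g 3 = 0 := by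
      have := congrArg (BQ r1) hg
      simp only [b_add_right, b_smul_right, Q3.B_comm Q r1 x, x1, r11, h12, b2, mul_zero, add_zero, zero_add,
        mul_one] at this
      rwa [show BQ r1 0 = 0 by simp [Q3.B, QuadraticMap.polar]] at this
    rw [e3, zero_smul, add_zero] at hg
    have := Fintype.linearIndependent_iff.1 li3 ![g 0, g 1, g 2] (by
      rw [Fin.sum_univ_three]; simpa using hg)
    intro i
    fin_cases i
    · exact this 0
    · exact this 1
    · exact this 2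
    · exact e3
  obtain ⟨t2', ht2⟩ := exists_dual R _ li4 ![0, 0, 1, 0]
  have c1 : BQ x t2' = 0 := ht2 0
  have c2 : BQ r1 t2' = 0 := ht2 1
  have c3 : BQ r2 t2' = 1 := ht2 2
  have c4 : BQ t1 t2' = 0 := ht2 3
  refine ⟨t1, t2' + (-Q t2') • r2, b1, ?_, b2, b3, ?_, ?_, b4, ?_, ?_⟩
  · rw [b_add_right, b_smul_right, c1, x2, mul_zero, add_zero]
  · rw [b_add_right, b_smul_right, c2, h12, mul_zero, add_zero]
  · rw [b_add_right, b_smul_right, c3, r22, mul_zero, add_zero]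
  · rw [q_add, q_smul, h2, b_smul_right, Q3.B_comm Q t2' r2, c3]; ring
  · rw [b_add_right, b_smul_right, c4, Q3.B_comm Q t1 r2, b3, mul_zero, add_zero]

/-- Beyond five vectors there is an anisotropic one orthogonal to them. -/
theorem exists_extra (hn : 6 ≤ n) {x r1 r2 t1 t2 : Q3.V n} (hx : Q x = 1) (h1 : Q r1 = 0) (h2 : Q r2 = 0)
    (h12 : BQ r1 r2 = 0) (x1 : BQ x r1 = 0) (x2 : BQ x r2 = 0) (xt1 : BQ x t1 = 0) (xt2 : BQ x t2 = 0)
    (p11 : BQ r1 t1 = 1) (p21 : BQ r2 t1 = 0) (p12 : BQ r1 t2 = 0) (p22 : BQ r2 t2 = 1) (q1 : Q t1 = 0)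
    (q2 : Q t2 = 0) (t12 : BQ t1 t2 = 0) :
    ∃ z, BQ x z = 0 ∧ BQ r1 z = 0 ∧ BQ r2 z = 0 ∧ BQ t1 z = 0 ∧ BQ t2 z = 0 ∧ Q z ≠ 0 := by
  let A : Q3.V n →ₗ[ZMod 3] (Fin 5 → ZMod 3) := LinearMap.pi fun i => (QuadraticMap.polarBilin Q) (![x, r1, r2, t1, t2] i)
  obtain ⟨z0, hz0, hne⟩ : ∃ z, A z = 0 ∧ z ≠ 0 := by
    have h := LinearMap.finrank_range_add_finrank_ker A
    have h' := Submodule.finrank_le (LinearMap.range A)
    rw [Module.finrank_fin_fun] at h h'
    have hb : LinearMap.ker A ≠ ⊥ := fun e => by rw [e, finrank_bot] at h; omega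
    obtain ⟨z, hz, hne⟩ := Submodule.exists_mem_ne_zero_of_ne_bot hb
    exact ⟨z, hz, hne⟩
  have o : BQ x z0 = 0 ∧ BQ r1 z0 = 0 ∧ BQ r2 z0 = 0 ∧ BQ t1 z0 = 0 ∧ BQ t2 z0 = 0 :=
    ⟨congrFun hz0 0, congrFun hz0 1, congrFun hz0 2, congrFun hz0 3, congrFun hz0 4⟩
  by_cases hq : Q z0 = 0
  swap
  · exact ⟨z0, o.1, o.2.1, o.2.2.1, o.2.2.2.1, o.2.2.2.2, hq⟩
  obtain ⟨v, hv⟩ : ∃ v, BQ z0 v ≠ 0 := by
    by_contra hno
    push Not at hno
    exact hne (R.nd.1 z0 hno)
  set v' := v - (2 * BQ x v) • x - BQ t1 v • r1 - BQ r1 v • t1 - BQ t2 v • r2 - BQ r2 v • t2 with hv'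
  have hxx : BQ x x = 2 := by rw [b_self, hx, mul_one]
  have r11 : BQ r1 r1 = 0 := by rw [b_self, h1, mul_zero]
  have r22 : BQ r2 r2 = 0 := by rw [b_self, h2, mul_zero]
  have s11 : BQ t1 t1 = 0 := by rw [b_self, q1, mul_zero]
  have s22 : BQ t2 t2 = 0 := by rw [b_self, q2, mul_zero]
  obtain ⟨o1, o2, o3, o4, o5⟩ := o
  have four : ∀ a : ZMod 3, a - 2 * a * 2 = 0 := by decide
  have v1 : BQ x v' = 0 := by
    simp only [hv', b_sub_right, b_smul_right, hxx, x1, x2, xt1, xt2, mul_zero, sub_zero, four]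
  have v2 : BQ r1 v' = 0 := by
    simp only [hv', b_sub_right, b_smul_right, Q3.B_comm Q r1 x, x1, r11, p11, h12, p12, mul_zero, sub_zero, mul_one,
      sub_self]
  have v3 : BQ r2 v' = 0 := by
    simp only [hv', b_sub_right, b_smul_right, Q3.B_comm Q r2 x, x2, Q3.B_comm Q r2 r1, h12, p21, r22, p22, mul_zero,
      sub_zero, mul_one, sub_self]
  have v4 : BQ t1 v' = 0 := by
    simp only [hv', b_sub_right, b_smul_right, Q3.B_comm Q t1 x, xt1, Q3.B_comm Q t1 r1, p11, s11, Q3.B_comm Q t1 r2,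
      p21, t12, mul_zero, sub_zero, mul_one, sub_self]
  have v5 : BQ t2 v' = 0 := by
    simp only [hv', b_sub_right, b_smul_right, Q3.B_comm Q t2 x, xt2, Q3.B_comm Q t2 r1, p12, Q3.B_comm Q t2 t1, t12,
      Q3.B_comm Q t2 r2, p22, s22, mul_zero, sub_zero, mul_one, sub_self]
  have hzv : BQ z0 v' ≠ 0 := by
    simp only [hv', b_sub_right, b_smul_right, Q3.B_comm Q z0 x, o1, Q3.B_comm Q z0 r1, o2, Q3.B_comm Q z0 r2, o3,
      Q3.B_comm Q z0 t1, o4, Q3.B_comm Q z0 t2, o5, mul_zero, sub_zero]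
    exact hv
  by_cases hq' : Q v' = 0
  swap
  · exact ⟨v', v1, v2, v3, v4, v5, hq'⟩
  exact ⟨z0 + v', by rw [b_add_right, o1, v1, add_zero], by rw [b_add_right, o2, v2, add_zero],
    by rw [b_add_right, o3, v3, add_zero], by rw [b_add_right, o4, v4, add_zero],
    by rw [b_add_right, o5, v5, add_zero], by rw [q_add, hq, hq', zero_add, zero_add]; exact hzv⟩

/-- The translation by the second singular vector is a product of members commuting with `x`. -/
theorem acts_long (hn : 6 ≤ n) {x r1 r2 : Q3.V n} (hx : Q x = 1) (h1 : Q r1 = 0) (h2 : Q r2 = 0)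
    (h12 : BQ r1 r2 = 0) (x1 : BQ x r1 = 0) (x2 : BQ x r2 = 0)
    (hi : ∀ a b : ZMod 3, a • r1 + b • r2 = 0 → a = 0 ∧ b = 0) :
    ∃ g ∈ Subgroup.closure {z | z ∈ E ∧ Commute z (pv x)}, Acts Q pv g (eich Q r1 r2) := by
  set N := Subgroup.closure {z | z ∈ E ∧ Commute z (pv x)}
  let S : Set (Q3.V n) := {u | BQ r1 u = 0 ∧ ∃ g ∈ N, Acts Q pv g (eich Q r1 u)}
  have inN : ∀ {y}, Q y = 1 → BQ x y = 0 → pv y ∈ N := fun hy hxy => Subgroup.subset_closure
    ⟨R.mem _ hy, (R.comm _ _ hy hx).2 (Or.inl (by rw [Q3.B_comm]; exact hxy))⟩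
  have one : ∀ {y}, Q y = 1 → BQ x y = 0 → BQ r1 y = 0 → y ∈ S := fun {y} hy hxy hry => by
    have hq : Q (y + r1) = 1 := by rw [q_add, hy, h1, Q3.B_comm Q y r1, hry]; simp
    exact ⟨hry, _, mul_mem (inN hq (by rw [b_add_right, hxy, x1, add_zero])) (inN hy hxy), acts_tau R h1 hy hry⟩
  have add : ∀ {u u'}, u ∈ S → u' ∈ S → u + u' ∈ S := by
    rintro u u' ⟨hu, g, hg, ag⟩ ⟨hu', g', hg', ag'⟩
    refine ⟨by rw [b_add_right, hu, hu', add_zero], g * g', mul_mem hg hg', fun v hv => ?_⟩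
    rw [← eich_add h1 hu hu' v]
    exact ag.mul ag' v hv
  suffices r2 ∈ S from this.2
  obtain ⟨t1, t2, xt1, xt2, p11, p21, p12, p22, q1, q2, t12⟩ := exists_frame R hx h1 h2 h12 x1 x2 hi
  obtain ⟨z, z1, z2, z3, z4, z5, zq⟩ := exists_extra R hn hx h1 h2 h12 x1 x2 xt1 xt2 p11 p21 p12 p22 q1 q2 t12
  have zr : BQ z r2 = 0 := by rw [Q3.B_comm]; exact z3
  rcases (show Q z = 1 ∨ Q z = 2 from (by decide : ∀ a : ZMod 3, a ≠ 0 → a = 1 ∨ a = 2) _ zq) with k | k
  · have a := one k z1 z2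
    have b := one (y := r2 + z) (by rw [q_add, h2, k, Q3.B_comm Q r2 z, zr]; ring) (by rw [b_add_right, x2, z1, add_zero])
      (by rw [b_add_right, h12, z2, add_zero])
    have e : r2 + z + z + z = r2 := by
      have : z + z + z = (3 : ZMod 3) • z := by module
      rw [add_assoc, add_assoc, ← add_assoc z z z, this, show (3 : ZMod 3) = 0 from rfl, zero_smul, add_zero]
    exact e ▸ add (add b a) a
  · have hzt : BQ z t2 = 0 := by rw [Q3.B_comm]; exact z5
    have y0 := one (y := r2 + t2) (by rw [q_add, h2, q2, p22]; ring) (by rw [b_add_right, x2, xt2, add_zero])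
      (by rw [b_add_right, h12, p12, add_zero])
    have yp := one (y := r2 + (2 : ZMod 3) • t2 + z)
      (by rw [q_add, q_add, q_smul, h2, q2, k, b_add_left, b_smul_left, b_smul_right, p22, Q3.B_comm Q r2 z, zr,
            Q3.B_comm Q t2 z, hzt]; decide)
      (by rw [b_add_right, b_add_right, b_smul_right, x2, xt2, z1]; ring)
      (by rw [b_add_right, b_add_right, b_smul_right, h12, p12, z2]; ring)
    have ym := one (y := r2 + (2 : ZMod 3) • t2 + (2 : ZMod 3) • z)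
      (by rw [q_add, q_add, q_smul, q_smul, h2, q2, k, b_add_left, b_smul_left, b_smul_right, b_smul_right,
            b_smul_right, p22, Q3.B_comm Q r2 z, zr, Q3.B_comm Q t2 z, hzt]; decide)
      (by rw [b_add_right, b_add_right, b_smul_right, b_smul_right, x2, xt2, z1]; ring)
      (by rw [b_add_right, b_add_right, b_smul_right, b_smul_right, h12, p12, z2]; ring)
    have e : r2 + t2 + (r2 + t2) + (r2 + (2 : ZMod 3) • t2 + z) + (r2 + (2 : ZMod 3) • t2 + (2 : ZMod 3) • z) = r2 := by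
      have : r2 + t2 + (r2 + t2) + (r2 + (2 : ZMod 3) • t2 + z) + (r2 + (2 : ZMod 3) • t2 + (2 : ZMod 3) • z) =
          (4 : ZMod 3) • r2 + (6 : ZMod 3) • t2 + (3 : ZMod 3) • z := by module
      rw [this, show (4 : ZMod 3) = 1 from rfl, show (6 : ZMod 3) = 0 from rfl, show (3 : ZMod 3) = 0 from rfl,
        one_smul, zero_smul, zero_smul, add_zero, add_zero]
    exact e ▸ add (add (add y0 y0) yp) ym

/-- In five dimensions a singular pair below a point gives twins below it. -/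
theorem five_absurd [Finite K] (S : Setting E) (hn : n = 5) {x r1 r2 : Q3.V n} (hx : Q x = 1) (h1 : Q r1 = 0)
    (h2 : Q r2 = 0) (h12 : BQ r1 r2 = 0) (x1 : BQ x r1 = 0) (x2 : BQ x r2 = 0)
    (hi : ∀ a b : ZMod 3, a • r1 + b • r2 = 0 → a = 0 ∧ b = 0) : False := by
  obtain ⟨t1, t2, xt1, xt2, p11, p21, p12, p22, q1, q2, t12⟩ := exists_frame R hx h1 h2 h12 x1 x2 hi
  have hxx : BQ x x = 2 := by rw [b_self, hx, mul_one]
  have r11 : BQ r1 r1 = 0 := by rw [b_self, h1, mul_zero]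
  have r22 : BQ r2 r2 = 0 := by rw [b_self, h2, mul_zero]
  have s11 : BQ t1 t1 = 0 := by rw [b_self, q1, mul_zero]
  have s22 : BQ t2 t2 = 0 := by rw [b_self, q2, mul_zero]
  let A : Q3.V n →ₗ[ZMod 3] (Fin 5 → ZMod 3) := LinearMap.pi fun i => (QuadraticMap.polarBilin Q) (![x, r1, r2, t1, t2] i)
  have hAs : Function.Surjective A := fun val => by
    refine ⟨(2 * val 0) • x + val 3 • r1 + val 4 • r2 + val 1 • t1 + val 2 • t2, funext fun i => ?_⟩
    have four : ∀ a : ZMod 3, 2 * a * 2 = a := by decide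
    show BQ (![x, r1, r2, t1, t2] i) _ = val i
    fin_cases i <;>
      simp [b_add_right, b_smul_right, hxx, x1, x2, xt1, xt2, Q3.B_comm Q r1 x, Q3.B_comm Q r2 x, Q3.B_comm Q t1 x,
        Q3.B_comm Q t2 x, r11, h12, p11, p12, Q3.B_comm Q r2 r1, r22, p21, p22, Q3.B_comm Q t1 r1, Q3.B_comm Q t1 r2,
        Q3.B_comm Q t2 r1, Q3.B_comm Q t2 r2, s11, s22, t12, Q3.B_comm Q t2 t1, four]
  have hAi : Function.Injective A := by
    refine (LinearMap.injective_iff_surjective_of_finrank_eq_finrank (f := A) ?_).2 hAs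
    rw [Module.finrank_fin_fun, Module.finrank_fin_fun, hn]
  have coords : ∀ y, BQ x y = 0 → y = BQ t1 y • r1 + BQ r1 y • t1 + BQ t2 y • r2 + BQ r2 y • t2 := fun y hy => by
    refine hAi (funext fun i => ?_)
    show BQ (![x, r1, r2, t1, t2] i) y = BQ (![x, r1, r2, t1, t2] i) _
    fin_cases i <;>
      simp [b_add_right, b_smul_right, hy, x1, x2, xt1, xt2, Q3.B_comm Q r1 x, Q3.B_comm Q r2 x, Q3.B_comm Q t1 x,
        Q3.B_comm Q t2 x, r11, h12, p11, p12, Q3.B_comm Q r2 r1, r22, p21, p22, Q3.B_comm Q t1 r1, Q3.B_comm Q t1 r2,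
        Q3.B_comm Q t2 r1, Q3.B_comm Q t2 r2, s11, s22, t12, Q3.B_comm Q t2 t1]
  set a := r1 + t1 with hadef
  set b := r2 + t2 with hbdef
  have qa : Q a = 1 := by rw [hadef, q_add, h1, q1, p11]; ring
  have qb : Q b = 1 := by rw [hbdef, q_add, h2, q2, p22]; ring
  have xa : BQ x a = 0 := by rw [hadef, b_add_right, x1, xt1, add_zero]
  have xb : BQ x b = 0 := by rw [hbdef, b_add_right, x2, xt2, add_zero]
  have hab : pv a ≠ pv b := fun e => by
    have h : BQ a r1 = 1 := by rw [hadef, b_add_left, r11, Q3.B_comm Q t1 r1, p11, zero_add]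
    have h' : BQ b r1 = 0 := by
      rw [hbdef, b_add_left, Q3.B_comm Q r2 r1, h12, Q3.B_comm Q t2 r1, p12, add_zero]
    rcases R.inj a b qa qb e with k | k
    · rw [k, h'] at h; exact zero_ne_one h
    · rw [k, ← neg_one_smul (ZMod 3) b, b_smul_left, h', mul_zero] at h; exact zero_ne_one h
  have dec : ∀ α1 β1 α2 β2 : ZMod 3, α1 * β1 + α2 * β2 = 1 →
      ((β1 + α1 = 0 ∨ (α1 = 1 ∧ β1 = 1 ∧ α2 = 0 ∧ β2 = 0) ∨ (α1 = 2 ∧ β1 = 2 ∧ α2 = 0 ∧ β2 = 0)) ↔
        (β2 + α2 = 0 ∨ (α1 = 0 ∧ β1 = 0 ∧ α2 = 1 ∧ β2 = 1) ∨ (α1 = 0 ∧ β1 = 0 ∧ α2 = 2 ∧ β2 = 2))) := by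
    decide +kernel
  have key : ∀ y, Q y = 1 → BQ x y = 0 → (Commute (pv y) (pv a) ↔ Commute (pv y) (pv b)) := by
    intro y hy hxy
    have hyc := coords y hxy
    obtain ⟨c1, hc1⟩ : ∃ c, c = BQ t1 y := ⟨_, rfl⟩
    obtain ⟨d1, hd1⟩ : ∃ c, c = BQ r1 y := ⟨_, rfl⟩
    obtain ⟨c2, hc2⟩ : ∃ c, c = BQ t2 y := ⟨_, rfl⟩
    obtain ⟨d2, hd2⟩ : ∃ c, c = BQ r2 y := ⟨_, rfl⟩
    rw [← hc1, ← hd1, ← hc2, ← hd2] at hyc
    have hq : c1 * d1 + c2 * d2 = 1 := by
      rw [← hy, hyc]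
      simp [q_add, q_smul, b_add_left, b_smul_left, b_smul_right, h1, h2, q1, q2, p11, p22, h12, t12, p12,
        Q3.B_comm Q t1 r2, p21]
      ring
    have ya : BQ y a = d1 + c1 := by rw [Q3.B_comm, hadef, b_add_left, ← hd1, ← hc1]
    have yb : BQ y b = d2 + c2 := by rw [Q3.B_comm, hbdef, b_add_left, ← hd2, ← hc2]
    have pa : pv y = pv a ↔ (c1 = 1 ∧ d1 = 1 ∧ c2 = 0 ∧ d2 = 0) ∨ (c1 = 2 ∧ d1 = 2 ∧ c2 = 0 ∧ d2 = 0) := by
      constructor
      · intro e
        rcases R.inj y a hy qa e with k | k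
        · left; subst k
          simp [hc1, hd1, hc2, hd2, hadef, b_add_right, Q3.B_comm Q t1 r1, p11, s11, r11, Q3.B_comm Q t2 r1, p12,
            Q3.B_comm Q t2 t1, t12, Q3.B_comm Q r2 r1, h12, p21]
        · right; subst k
          rw [← neg_one_smul (ZMod 3) a] at *
          simp [hc1, hd1, hc2, hd2, hadef, b_smul_right, b_add_right, Q3.B_comm Q t1 r1, p11, s11, r11,
            Q3.B_comm Q t2 r1, p12, Q3.B_comm Q t2 t1, t12, Q3.B_comm Q r2 r1, h12, p21]
          decide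
      · rintro (⟨e1, e2, e3, e4⟩ | ⟨e1, e2, e3, e4⟩)
        · rw [hyc, e1, e2, e3, e4, hadef]; simp
        · rw [hyc, e1, e2, e3, e4, show (2 : ZMod 3) = -1 from rfl, ← R.neg a, hadef]
          congr 1
          simp; abel
    have pb : pv y = pv b ↔ (c1 = 0 ∧ d1 = 0 ∧ c2 = 1 ∧ d2 = 1) ∨ (c1 = 0 ∧ d1 = 0 ∧ c2 = 2 ∧ d2 = 2) := by
      constructor
      · intro e
        rcases R.inj y b hy qb e with k | k
        · left; subst k
          simp [hc1, hd1, hc2, hd2, hbdef, b_add_right, Q3.B_comm Q t1 r2, p21, t12, h12, p12, Q3.B_comm Q t2 r2, p22,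
            s22, r22]
        · right; subst k
          rw [← neg_one_smul (ZMod 3) b] at *
          simp [hc1, hd1, hc2, hd2, hbdef, b_smul_right, b_add_right, Q3.B_comm Q t1 r2, p21, t12, h12, p12,
            Q3.B_comm Q t2 r2, p22, s22, r22]
          decide
      · rintro (⟨e1, e2, e3, e4⟩ | ⟨e1, e2, e3, e4⟩)
        · rw [hyc, e1, e2, e3, e4, hbdef]; simp
        · rw [hyc, e1, e2, e3, e4, show (2 : ZMod 3) = -1 from rfl, ← R.neg b, hbdef]
          congr 1
          simp; abel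
    rw [R.comm y a hy qa, R.comm y b hy qb, ya, yb, pa, pb]
    exact dec c1 d1 c2 d2 hq
  have hpa : ∀ {u}, Q u = 1 → BQ x u = 0 → pv u ∈ ThreeTrans.perp E (pv x) := fun {u} hu hxu => by
    refine ⟨R.mem u hu, fun e => ?_, (R.comm x u hx hu).2 (Or.inl hxu)⟩
    rcases R.inj u x hu hx e with k | k
    · rw [k, hxx] at hxu; exact absurd hxu (by decide)
    · rw [k, ← neg_one_smul (ZMod 3) x, b_smul_right, hxx] at hxu; exact absurd hxu (by decide)
  have hma := hpa qa xa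
  have hmb := hpa qb xb
  refine hab (pr_injective S.cls S.tf (R.mem x hx) hma hmb ((S.qtf (R.mem x hx)) _ _
    ⟨pr_mem hma, pr_mem hmb, fun z hz => ?_⟩))
  obtain ⟨u, hu, rfl⟩ := exists_of_mem hz
  obtain ⟨y, hy, rfl⟩ := R.surj u hu.1
  have hxy : BQ x y = 0 := by
    rcases (R.comm x y hx hy).1 hu.2.2 with k | k
    · exact k
    · exact absurd k.symm hu.2.1
  have hk := key y hy hxy
  constructor <;> intro k
  · exact (commute_pr hu hmb (hk.1 (commute_of_pr S.cls S.tf (R.mem x hx) hma hu k).symm)).symm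
  · exact (commute_pr hu hma (hk.2 (commute_of_pr S.cls S.tf (R.mem x hx) hmb hu k).symm)).symm

/-- Turning triangles of reflection classes lie in the group below their first point. -/
theorem monPerp_refl [Finite K] (hn : 6 ≤ n ∨ (n = 5 ∧ Setting E)) (hZ : Subgroup.center K = ⊥) : MonPerp E := by
  intro x0 hx0 e0 he0 f0 hf0 a1 a2 a3 hc
  obtain ⟨x, hx, rfl⟩ := R.surj x0 hx0
  obtain ⟨e', he', rfl⟩ := R.surj e0 he0
  obtain ⟨f', hf', rfl⟩ := R.surj f0 hf0
  have nz : ∀ {u v}, Q u = 1 → Q v = 1 → ¬ Commute (pv u) (pv v) → BQ u v ≠ 0 := fun hu hv hnc k =>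
    hnc ((R.comm _ _ hu hv).2 (Or.inl k))
  -- choose the signs
  have sgn : ∀ {u}, Q u = 1 → ¬ Commute (pv x) (pv u) → ∃ u', Q u' = 1 ∧ pv u' = pv u ∧ BQ x u' = 2 := by
    intro u hu hnc
    rcases (show BQ x u = 1 ∨ BQ x u = 2 from (by decide : ∀ a : ZMod 3, a ≠ 0 → a = 1 ∨ a = 2) _ (nz hx hu hnc))
      with k | k
    · refine ⟨-u, by rw [QuadraticMap.map_neg, hu], R.neg u, ?_⟩
      rw [← neg_one_smul (ZMod 3) u, b_smul_right, k]; decide
    · exact ⟨u, hu, rfl, k⟩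
  obtain ⟨e, he, ee, hxe⟩ := sgn he' a1
  obtain ⟨f, hf, ef, hxf⟩ := sgn hf' a3
  rw [← ee] at a1 a2 hc ⊢
  rw [← ef] at a2 a3 hc ⊢
  clear ee ef he' hf'
  have hfe : BQ e f = 2 := by
    have h := nz hf (R.q_move he hx) (by rwa [← R.conj e x he hx])
    rw [b_sub_right, b_smul_right, Q3.B_comm Q e x, hxe, Q3.B_comm Q f x, hxf, Q3.B_comm Q f e] at h
    exact (by decide : ∀ b : ZMod 3, b ≠ 0 → 2 - 2 * b ≠ 0 → b = 2) _ (nz he hf a2) h
  set w1 := f - x with hw1
  set w2 := e - x with hw2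
  have fx : f = x + w1 := by rw [hw1]; abel
  have ex : e = x + w2 := by rw [hw2]; abel
  have hxx : BQ x x = 2 := by rw [b_self, hx, mul_one]
  have x1 : BQ x w1 = 0 := by rw [hw1, b_sub_right, hxf, hxx, sub_self]
  have x2 : BQ x w2 = 0 := by rw [hw2, b_sub_right, hxe, hxx, sub_self]
  have h1 : Q w1 = 0 := by
    have := hf
    rw [fx, q_add, hx, x1, add_zero] at this
    linear_combination this
  have h2 : Q w2 = 0 := by
    have := he
    rw [ex, q_add, hx, x2, add_zero] at this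
    linear_combination this
  have h12 : BQ w1 w2 = 0 := by
    have := hfe
    rw [fx, ex, b_add_left, b_add_right, b_add_right, hxx, x1, Q3.B_comm Q w2 x, x2, Q3.B_comm Q w2 w1] at this
    linear_combination this
  have hi : ∀ a b : ZMod 3, a • w1 + b • w2 = 0 → a = 0 ∧ b = 0 := by
    intro a b hab
    have eq_pv : ∀ {u v}, u = v → pv u = pv v := fun h => h ▸ rfl
    have hne1 : w1 ≠ 0 := fun k => a3 (by rw [fx, k, add_zero])
    have hne2 : w2 ≠ 0 := fun k => a1 (by rw [ex, k, add_zero])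
    by_cases hb : b = 0
    · rw [hb, zero_smul, add_zero] at hab
      exact ⟨(smul_eq_zero.1 hab).resolve_right hne1, hb⟩
    exfalso
    have e2 : w2 = (-(b * a)) • w1 := by
      have hbb : b * b = 1 := ReflThree.three_cases b hb
      calc w2 = (b * b) • w2 := by rw [hbb, one_smul]
        _ = b • (-(a • w1)) := by rw [mul_smul, eq_neg_of_add_eq_zero_right hab]
        _ = _ := by rw [smul_neg, smul_smul, neg_smul]
    rcases (by decide : ∀ c : ZMod 3, c = 0 ∨ c = 1 ∨ c = 2) (-(b * a)) with k | k | k <;> rw [k] at e2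
    · exact hne2 (by rw [e2, zero_smul])
    · exact a2 (by rw [eq_pv (show e = f by rw [ex, fx, e2, one_smul])])
    · refine hc ?_
      have : pv f = pv e * pv x * pv e := by
        rw [R.conj e x he hx, Q3.B_comm Q e x, hxe, show x - (2 : ZMod 3) • e = -f by
          rw [ex, fx, e2]
          have h0 : (3 : ZMod 3) = 0 := rfl
          calc x - (2 : ZMod 3) • (x + (2 : ZMod 3) • w1) = -(x + w1) - (3 : ZMod 3) • w1 := by module
            _ = _ := by rw [h0, zero_smul, sub_zero], R.neg]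
      rw [this]
  obtain ⟨g, hg, ag⟩ : ∃ g ∈ Subgroup.closure {z | z ∈ E ∧ Commute z (pv x)}, Acts Q pv g (eich Q w1 w2) := by
    rcases hn with hn | ⟨hn, S⟩
    · exact acts_long R hn hx h1 h2 h12 x1 x2 hi
    · exact (five_absurd R S hn hx h1 h2 h12 x1 x2 hi).elim
  set m := (pv f * pv x * pv e) ^ 2 with hm
  suffices hfix : ∀ v, Q v = 1 → m * pv v * m⁻¹ = pv (eich Q w1 w2 v) by
    have hle : Subgroup.closure E ≤ Subgroup.centralizer {g⁻¹ * m} := (Subgroup.closure_le _).2 fun T hT => by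
      obtain ⟨v, hv, rfl⟩ := R.surj T hT
      refine Subgroup.mem_centralizer_singleton_iff.2 (mul_inv_eq_iff_eq_mul.1 ?_).symm
      rw [show g⁻¹ * m * pv v * (g⁻¹ * m)⁻¹ = g⁻¹ * (m * pv v * m⁻¹) * g by group, hfix v hv, ← (ag v hv).2]
      group
    have hmem : g⁻¹ * m ∈ Subgroup.center K := Subgroup.mem_center_iff.2 fun y =>
      Subgroup.mem_centralizer_singleton_iff.1 (hle (R.cls.2.2 ▸ Subgroup.mem_top y))
    rw [hZ, Subgroup.mem_bot, inv_mul_eq_one] at hmem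
    exact hmem ▸ hg
  intro v hv
  set p := BQ x v
  set q1 := BQ w1 v
  set q2 := BQ w2 v
  let vec : ZMod 3 × ZMod 3 × ZMod 3 → Q3.V n := fun s => v + s.1 • x + s.2.1 • w1 + s.2.2 • w2
  have w11 : BQ w1 w1 = 0 := by rw [b_self, h1, mul_zero]
  have w22 : BQ w2 w2 = 0 := by rw [b_self, h2, mul_zero]
  have bx : ∀ s, BQ x (vec s) = p + 2 * s.1 := fun s => by
    simp only [vec, b_add_right, b_smul_right, hxx, x1, x2, p]; ring
  have be : ∀ s, BQ e (vec s) = p + 2 * s.1 + q2 := fun s => by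
    rw [ex, b_add_left, bx]
    simp only [vec, b_add_right, b_smul_right, Q3.B_comm Q w2 x, x2, Q3.B_comm Q w2 w1, h12, w22, q2]; ring
  have bf : ∀ s, BQ f (vec s) = p + 2 * s.1 + q1 := fun s => by
    rw [fx, b_add_left, bx]
    simp only [vec, b_add_right, b_smul_right, Q3.B_comm Q w1 x, x1, w11, h12, q1]; ring
  have act : ∀ (c i j : ZMod 3) (u : Q3.V n), Q u = 1 → u = x + i • w1 + j • w2 →
      (∀ s, BQ u (vec s) = p + 2 * s.1 + c) → ∀ s, Q (vec s) = 1 →
      Q (vec (s.1 - (p + 2 * s.1 + c), s.2.1 - i * (p + 2 * s.1 + c), s.2.2 - j * (p + 2 * s.1 + c))) = 1 ∧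
      pv u * pv (vec s) * (pv u)⁻¹ =
        pv (vec (s.1 - (p + 2 * s.1 + c), s.2.1 - i * (p + 2 * s.1 + c), s.2.2 - j * (p + 2 * s.1 + c))) := by
    intro c i j u hu eu hb s hs
    have e1 : vec s - BQ u (vec s) • u =
        vec (s.1 - (p + 2 * s.1 + c), s.2.1 - i * (p + 2 * s.1 + c), s.2.2 - j * (p + 2 * s.1 + c)) := by
      rw [hb, eu]; simp only [vec]; module
    exact ⟨e1 ▸ (acts_refl R hu _ hs).1, e1 ▸ (acts_refl R hu _ hs).2⟩
  have y0 : vec (0, 0, 0) = v := by simp [vec]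
  have actX := act 0 0 0 x hx (by simp) fun s => by rw [bx, add_zero]
  have actE := act q2 0 1 e he (by rw [ex]; simp) be
  have actF := act q1 1 0 f hf (by rw [fx]; simp) bf
  obtain ⟨g1, e1⟩ := actE (0, 0, 0) (by rw [y0]; exact hv)
  obtain ⟨g2, e2⟩ := actX _ g1
  obtain ⟨g3, e3⟩ := actF _ g2
  obtain ⟨g4, e4⟩ := actE _ g3
  obtain ⟨g5, e5⟩ := actX _ g4
  obtain ⟨-, e6⟩ := actF _ g5
  have hsix := six_turn p q1 q2
  simp only at hsix
  rw [hsix] at e6
  rw [y0] at e1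
  have efin : vec (0, q2, -q1) = eich Q w1 w2 v := by
    simp only [vec, eich, h2, q1, q2]; module
  rw [← efin, ← e6, ← e5, ← e4, ← e3, ← e2, ← e1, hm, pow_two]
  group

end Cfsg.Agent.Fus.TwoRadical
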