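import Cfsg.Agent.Lib.Fus.TwoRadical.PerpCentral
import Cfsg.Agent.Lib.Fus.TwoRadical.ReflPerp
import Cfsg.Agent.Lib.Spor.FischerThm.Induct
import Cfsg.Agent.Lib.Spor.Triality.Types
import Cfsg.Agent.Lib.Block.FischerTypes.M23Centralizer
import Cfsg.Agent.Lib.Block.FischerTypes.M24Centralizer

/-!
In Fischer's classes other than the unitary ones a turning triangle acts through the group spanned by
the members commuting with its first point.
-/

set_option autoImplicit false
set_option linter.style.haveILetI false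
set_option linter.unusedSectionVars false

namespace Cfsg.Agent.Fus.TwoRadical

open Cfsg Cfsg.Agent.Spor Cfsg.Agent.Fus.SUTwoRadical Cfsg.Agent.Spor.FischerThm
open Cfsg.Agent.Block.FischerTypes

section models

variable {K : Type*} [Group K] {E : Set K}

theorem tri_comm (hE : IsThreeTranspositionClass E) {x e f : K} (hx : x ∈ E) (he : e ∈ E) (hf : f ∈ E)
    (a1 : ¬ Commute x e) (a2 : ¬ Commute e f) (a3 : ¬ Commute x f) : Commute ((f * x * e) ^ 2) x := by
  have h : SUTwoRadical.Hyp (MonoidHom.id K) E :=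
    ⟨hE.1, fun g d hd => ThreeTrans.conj_mem hE g hd, fun c (hc : MonoidHom.id K c = 1) => (⟨0, by simpa using hc⟩ : ∃ k : ℕ, c ^ (2 ^ k) = 1)⟩
  exact mon_commute h hx (tri_mem he hf a1 a2 a3)

/-- Centralisers spanned by the commuting members give the property. -/
theorem monPerp_of_centralizer (hE : IsThreeTranspositionClass E)
    (hC : ∀ x ∈ E, Subgroup.centralizer ({x} : Set K) = PerpGroup E x) : MonPerp E := by
  intro x hx e he f hf a1 a2 a3 _
  have hm : (f * x * e) ^ 2 ∈ Subgroup.centralizer ({x} : Set K) :=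
    Subgroup.mem_centralizer_singleton_iff.2 (tri_comm hE hx he hf a1 a2 a3).eq
  rw [hC x hx] at hm
  exact Subgroup.closure_mono (show ThreeTrans.perp E x ⊆ {z | z ∈ E ∧ Commute z x} from fun z hz => ⟨hz.1, hz.2.2.symm⟩) hm

end models

variable {K : Type*} [Group K] [Finite K] {E : Set K}

theorem rowAdd_back {Y : Type*} [Group Y] [Finite Y] (e : K ≃* Y) {E' : Set Y} (he : e '' E = E') (hR : RowAdd E') :
    RowAdd E := by
  have := rowAdd_image e.symm hR
  rwa [← he, ← Set.image_comp, show (e.symm ∘ e : K → K) = id from funext e.symm_apply_apply, Set.image_id] at this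

/-- A noncentral core below a member: rows add or the class is unitary. -/
theorem core_cases (g : Good E) {d : K} (hd : d ∈ E)
    (hc : ¬ (pCore 2 ↥(PerpGroup E d) ≤ Subgroup.center ↥(PerpGroup E d) ∧
      pCore 3 ↥(PerpGroup E d) ≤ Subgroup.center ↥(PerpGroup E d))) :
    RowAdd E ∨ ∃ (F : Type) (_ : Field F) (_ : Fintype F) (h4 : Fintype.card F = 4) (n : ℕ),
      4 ≤ n ∧ ∃ e : K ≃* PSU n F 2, e '' E = U6.roots h4 n := by
  by_cases h2 : pCore 2 ↥(PerpGroup E d) ≤ Subgroup.center ↥(PerpGroup E d)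
  · have h3 := fun k => hc ⟨h2, k⟩
    obtain ⟨e⟩ := Cfsg.Agent.S1615.result g.no_solvable g.hyp.perf g.cls d hd
      fun k => h3 (Grp.PolarRec.pCore_three_le_oddCore.trans k)
    exact Or.inl (rowAdd_back e (class_five (Block.FischerTypes.class_image e g.cls)) rowAdd_swaps)
  · rcases Grp.PolarRec.models (Grp.PolarRec.ctx_of_core g.hyp hd h2) g.cen with
      ⟨m, τ, hm, hτ⟩ | ⟨F, iF, iT, h4, n, τ, hn, hτ⟩
    · exact Or.inl (rowAdd_back τ hτ rowAdd_tvSet)
    · exact Or.inr ⟨F, iF, iT, h4, n, hn, τ, hτ⟩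

/-- Rows add, or triangles act through commuting members, or the class is unitary. -/
theorem good_cases (g : Good E) : RowAdd E ∨ MonPerp E ∨
    ∃ (F : Type) (_ : Field F) (_ : Fintype F) (h4 : Fintype.card F = 4) (n : ℕ),
      4 ≤ n ∧ ∃ e : K ≃* PSU n F 2, e '' E = U6.roots h4 n := by
  obtain ⟨d, hd, -⟩ := g.pair
  by_cases hc : pCore 2 ↥(PerpGroup E d) ≤ Subgroup.center ↥(PerpGroup E d) ∧
      pCore 3 ↥(PerpGroup E d) ≤ Subgroup.center ↥(PerpGroup E d)
  swap
  · exact (core_cases g hd hc).imp id Or.inr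
  have S := g.setting hd hc.1 hc.2
  rcases classify_top g hd hc.1 hc.2 with
    ⟨n, hn, e, he⟩ | ⟨m, hm, e, he⟩ | ⟨m, hm, e, he⟩ | ⟨n, hn, Q, hQ, c, hc', e, he⟩ | h | h | h
  · exact Or.inl (rowAdd_back e he rowAdd_swaps)
  · exact Or.inl (rowAdd_back e he (OTwo.rowAdd _ (OrthTwo.nondeg_plus m)))
  · exact Or.inl (rowAdd_back e he (OTwo.rowAdd _ (OrthTwo.nondeg_minus m)))
  · obtain ⟨⟨pv, R⟩, -⟩ := rmodel_of_refl hn Q hQ hc'
    have R' := R.map e.symm g.cls (by
      rw [← he, ← Set.image_comp, show (e.symm ∘ e : K → K) = id from funext e.symm_apply_apply, Set.image_id])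
    refine Or.inr (Or.inl (monPerp_refl R' ?_ g.cen))
    rcases Nat.lt_or_ge 5 n with k | k
    · exact Or.inl k
    · exact Or.inr ⟨by omega, S⟩
  · exact Or.inr (Or.inl (monPerp_of_centralizer g.cls fun x hx =>
      M22.centralizer_eq (M22.ctx (good_group g) g.primitive h) hx))
  · exact Or.inr (Or.inl (monPerp_of_centralizer g.cls fun x hx =>
      M23.centralizer_eq (M23.base (good_group g) g.primitive h) hx))
  · exact Or.inr (Or.inl (monPerp_of_centralizer g.cls fun x hx =>
      M24.centralizer_eq (M24.base (good_group g) g.primitive h) hx))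

end Cfsg.Agent.Fus.TwoRadical
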