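import Cfsg.Agent.Lib.Fus.TwoRadical.UnitBig

/-!
The complement for the unitary quotients of degree at least eight prime to three.
-/

set_option autoImplicit false
set_option linter.style.haveILetI false
set_option linter.unusedSectionVars false

namespace Cfsg.Agent.Fus.TwoRadical

open Matrix Cfsg Cfsg.Agent.Spor Cfsg.Agent.Fus.SUTwoRadical Cfsg.Agent.Classical Cfsg.Agent.Classical.PSUAut
open Cfsg.Agent.Spor.UnitTwo Cfsg.Agent.Block.FischerTypes Cfsg.Agent.Fus.TwoRadical.Unit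

variable {F : Type} [Field F] [Fintype F] (h4 : Fintype.card F = 4) {w : F} (hw : w * w = w + 1)

include h4

/-- An element of order three which is scalar on the last coordinates and undoes the unit elements on the first. -/
theorem exists_z {k m : ℕ} (hk : (k = 1 ∧ (k + m) % 3 = 2) ∨ (k = 2 ∧ (k + m) % 3 = 1)) :
    ∃ (Z : SU (k + m) F 2) (b : F) (j : ℕ), b ≠ 0 ∧ b ≠ 1 ∧
      (∀ y : Fin m → F, suVal Z *ᵥ Fin.append 0 y = b • Fin.append 0 y) ∧
      (∀ y (hy : hermForm (k + m) F 2 (Fin.append 0 y) (Fin.append 0 y) = 1), Commute (gU h4 hw hy) Z) ∧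
      ∀ y (hy : hermForm (k + m) F 2 (Fin.append 0 y) (Fin.append 0 y) = 1) (a : Fin k → F),
        suVal (gU h4 hw hy * Z ^ j) *ᵥ Fin.append a 0 = Fin.append a 0 := by
  classical
  have hw0 : w ≠ 0 := fun e => one_ne_zero (α := F) (by rw [e, zero_mul, zero_add] at hw; exact hw.symm)
  have hw1 : w ≠ 1 := fun e => one_ne_zero (α := F) (by rw [e, one_mul] at hw; linear_combination -hw)
  have h3 : w ^ 3 = 1 := by
    have := FiniteField.pow_card_sub_one_eq_one w hw0; rwa [h4] at this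
  have unit : ∀ i : Fin k, hermForm (k + m) F 2 (Fin.append (Pi.single i 1) 0) (Fin.append (Pi.single i 1) 0) = 1 :=
    fun i => by rw [h_append, h_zero_left, add_zero]; simp [hermForm, Pi.single_apply, ite_pow]
  have orth : ∀ (a : Fin k → F) (y : Fin m → F),
      hermForm (k + m) F 2 (Fin.append a 0) (Fin.append 0 y) = 0 := fun a y => by
    rw [h_append, h_zero_right (card_sq h4), h_zero_left, add_zero]
  have orth' : ∀ (a : Fin k → F) (y : Fin m → F),
      hermForm (k + m) F 2 (Fin.append 0 y) (Fin.append a 0) = 0 := fun a y => h_comm_zero (card_sq h4) (orth a y)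
  rcases hk with ⟨rfl, hn⟩ | ⟨rfl, hn⟩
  · obtain ⟨q, hq⟩ : ∃ q, 1 + m = 3 * q + 2 := ⟨(1 + m) / 3, by omega⟩
    have hc : w * (1 + coef w (1 + m)) = w * w := by
      rw [coef, hq, show 2 * (3 * q + 2) = 3 * (2 * q + 1) + 1 by ring, pow_succ, pow_mul, h3, one_pow, one_mul]
      linear_combination w * add_self h4 (1 : F)
    refine ⟨gU h4 hw (unit 0), w, 1, hw0, hw1, fun y => gU_perp h4 hw _ (orth' _ y),
      fun y hy => gU_comm h4 hw hy _ (orth' _ y), fun y hy a => ?_⟩
    have ea : Fin.append a (0 : Fin m → F) = a 0 • Fin.append (Pi.single 0 1) 0 := by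
      funext i
      refine Fin.addCases (fun i => ?_) (fun i => ?_) i
      · fin_cases i; simp
      · simp
    rw [ea, Matrix.mulVec_smul, pow_one, suVal_mul, ← Matrix.mulVec_mulVec, gU_self, hc, Matrix.mulVec_smul,
      gU_perp h4 hw hy (orth _ y), smul_smul, smul_smul, show a 0 * (w * w) * w = a 0 by linear_combination (a 0) * h3]
  · obtain ⟨q, hq⟩ : ∃ q, 2 + m = 3 * q + 1 := ⟨(2 + m) / 3, by omega⟩
    have hc : w * (1 + coef w (2 + m)) = 1 := by
      rw [coef, hq, show 2 * (3 * q + 1) = 3 * (2 * q) + 2 by ring, pow_add, pow_mul, h3, one_pow, one_mul]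
      linear_combination h3 + w * add_self h4 (1 : F)
    have h01 : hermForm (2 + m) F 2 (Fin.append (Pi.single 0 1) 0) (Fin.append (Pi.single 1 1) 0) = 0 := by
      rw [h_append, h_zero_left, add_zero]; simp [hermForm, Fin.sum_univ_two]
    have h10 := h_comm_zero (card_sq h4) h01
    refine ⟨gU h4 hw (unit 0) * gU h4 hw (unit 1), w * w, 2, mul_ne_zero hw0 hw0,
      fun e => hw0 (by rw [hw] at e; linear_combination e), fun y => ?_, fun y hy =>
      (gU_comm h4 hw hy _ (orth' _ y)).mul_right (gU_comm h4 hw hy _ (orth' _ y)), fun y hy a => ?_⟩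
    · rw [suVal_mul, ← Matrix.mulVec_mulVec, gU_perp h4 hw _ (orth' _ y), Matrix.mulVec_smul,
        gU_perp h4 hw _ (orth' _ y), smul_smul]
    have ea : Fin.append a (0 : Fin m → F) =
        a 0 • Fin.append (Pi.single 0 1) 0 + a 1 • Fin.append (Pi.single 1 1) 0 := by
      funext i
      refine Fin.addCases (fun i => ?_) (fun i => ?_) i
      · fin_cases i <;> simp
      · simp
    have z0 : suVal (gU h4 hw (unit 0) * gU h4 hw (unit 1)) *ᵥ Fin.append (Pi.single 0 1) 0 =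
        w • Fin.append (Pi.single (0 : Fin 2) 1) 0 := by
      rw [suVal_mul, ← Matrix.mulVec_mulVec, gU_perp h4 hw (unit 1) h01, Matrix.mulVec_smul, gU_self, smul_smul,
        hc, mul_one]
    have z1 : suVal (gU h4 hw (unit 0) * gU h4 hw (unit 1)) *ᵥ Fin.append (Pi.single 1 1) 0 =
        w • Fin.append (Pi.single (1 : Fin 2) 1) 0 := by
      rw [suVal_mul, ← Matrix.mulVec_mulVec, gU_self, hc, one_smul, gU_perp h4 hw (unit 0) h10]
    rw [ea, suVal_mul, pow_two, suVal_mul]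
    simp only [← Matrix.mulVec_mulVec, Matrix.mulVec_add, Matrix.mulVec_smul, z0, z1, gU_perp h4 hw hy (orth _ y),
      smul_smul]
    rw [show w * w * w = 1 by linear_combination h3, mul_one, mul_one]

omit h4

universe u v

variable {G : Type u} [Group G] [Finite G] {H : Type v} [Group H] [Finite H] {π : G →* H} {D : Set G}

/-- The unitary groups of degree at least eight prime to three give the first alternative. -/
theorem unit_big (C : Ctx π D) (cu : ∀ x ∈ π '' D, ∀ y ∈ π '' D, CU π D x y) {F : Type} [Field F] [Fintype F]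
    (h4 : Fintype.card F = 4) {k m : ℕ} (hm : 7 ≤ m)
    (hk : (k = 1 ∧ (k + m) % 3 = 2) ∨ (k = 2 ∧ (k + m) % 3 = 1)) (ψ : H ≃* SU (k + m) F 2)
    (hψ : ∀ d ∈ D, ∃ v : Fin (k + m) → F, v ≠ 0 ∧ ∃ hv : hermForm (k + m) F 2 v v = 0, ψ (π d) = tv h4 hv)
    (hψ' : ∀ v : Fin (k + m) → F, v ≠ 0 → ∀ hv : hermForm (k + m) F 2 v v = 0, ∃ d ∈ D, ψ (π d) = tv h4 hv)
    (hR : ThreeTrans.Hyp (U6.roots h4 (k + m))) (hRA : ¬ Spor.FischerThm.RowAdd (π '' D))
    (hne : ∀ d ∈ D, π d ≠ 1) :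
    IsElementaryAbelian 2 (pCore 2 G) ∧ ∃ K : Subgroup G, (pCore 2 G).IsComplement' K := by
  classical
  have h6 : 6 ≤ k + m ∨ k + m = 4 := Or.inl (by omega)
  have h3 : (k + m) % 3 ≠ 0 := by omega
  have hn : 1 ≤ k + m := by omega
  have hel := elementary_unit C cu h4 h6 h3 ψ hψ hψ' hR
  refine ⟨hel, ?_⟩
  obtain ⟨w, hw0, hw1, hw, -, -⟩ := U6.exists_omega h4
  obtain ⟨Z, bz, j, hbz0, hbz1, hZv, hZc, hZfix⟩ := exists_z h4 hw hk
  have hw3 : w ^ 3 = 1 := by
    have := FiniteField.pow_card_sub_one_eq_one w hw0; rwa [h4] at this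
  have hcoef : coef w (k + m) ≠ 0 := by
    intro e
    have e1 : w ^ (2 * (k + m)) = 1 := by rw [eq_neg_of_add_eq_zero_left e, UnitTwo.neg_eq h4]
    refine hw1 ?_
    have := pow_gcd_eq_one.2 ⟨e1, hw3⟩
    rwa [show Nat.gcd (2 * (k + m)) 3 = 1 by
      rw [Nat.gcd_comm]; exact (Nat.prime_three.coprime_iff_not_dvd).2 fun q => by omega, pow_one] at this
  -- a unit vector of the last coordinates orthogonal to three given vectors
  have unitp : ∀ p : Fin 3 → Fin (k + m) → F, ∃ y : Fin m → F,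
      hermForm (k + m) F 2 (Fin.append 0 y) (Fin.append 0 y) = 1 ∧
        ∀ i, hermForm (k + m) F 2 (Fin.append 0 y) (p i) = 0 := fun p => by
    obtain ⟨y, hy, hyp⟩ := exists_unit_perp h4 hm fun i l => p i (Fin.natAdd k l)
    refine ⟨y, by rw [h_append, h_zero_left, zero_add, hy], fun i => ?_⟩
    rw [vec_split (p i), h_append, h_zero_left, zero_add]
    exact hyp i
  obtain ⟨t, ht⟩ := C.surj (ψ.symm Z)
  have etZ : ψ (π t) = Z := by rw [ht, ψ.apply_symm_apply]
  -- only the identity of the radical commutes with the lift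
  have hA : ∀ q ∈ pCore 2 G, t * q * t⁻¹ = q → q = 1 := by
    intro q hq hfix
    have htq : Commute t q := mul_inv_eq_iff_eq_mul.1 hfix
    have hcent : NN h4 (k + m) {p | ∃ a : Fin k → F, p = Fin.append a 0} ≤
        ((Subgroup.centralizer {q}).map π).map ψ.toMonoidHom := by
      refine (Subgroup.closure_le _).2 ?_
      rintro _ ⟨v, hv, rfl, hperp⟩
      by_cases hv0 : v = 0
      · subst hv0
        have : tv h4 hv = (1 : SU (k + m) F 2) := suVal_ext (Matrix.ext_iff_mulVec.2 fun y => by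
          rw [suVal_tv h4, T_apply h4, smul_zero, add_zero]; exact (Matrix.one_mulVec y).symm)
        rw [this]; exact one_mem _
      obtain ⟨d, hd, ed⟩ := hψ' v hv0 hv
      obtain ⟨y, ey⟩ : ∃ y, v = Fin.append 0 y := ⟨fun i => v (Fin.natAdd k i), by
        funext i
        refine Fin.addCases (fun i => ?_) (fun i => ?_) i
        · have h1 := h_comm_zero (card_sq h4) (hperp _ ⟨Pi.single i (1 : F), rfl⟩)
          rw [vec_split v, h_append] at h1
          simpa [hermForm, Pi.single_apply, ite_pow] using h1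
        · simp⟩
      refine ⟨π d, ⟨d, Subgroup.mem_centralizer_singleton_iff.2 ?_, rfl⟩, ed⟩
      exact (commute_member C cu h4 h6 h3 ψ hψ hψ' hR hel hRA hd hv0 hv ed (g := t) hbz1 hbz0
        (by rw [etZ, ey]; exact hZv y) hq htq).eq.symm
    have hall : ∀ d ∈ D, Commute q d := by
      intro d hd
      obtain ⟨v, hv0, hv, ev⟩ := hψ d hd
      obtain ⟨y, hy, hyp⟩ := unitp fun _ => v
      obtain ⟨x, ⟨l, hl, rfl⟩, el⟩ := hcent (mem_NN_of_fix h4 (t := gU h4 hw hy * Z ^ j) (by omega)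
        (hZfix y hy) (P := {p | ∃ a : Fin k → F, p = Fin.append a 0}) fun p hp => hp)
      refine commute_member C cu h4 h6 h3 ψ hψ hψ' hR hel hRA hd hv0 hv ev (g := l * (t ^ j)⁻¹) (a := w) hw1 hw0
        ?_ hq ?_
      · rw [map_mul, map_mul, map_inv, map_inv, map_pow, map_pow, etZ, show ψ (π l) = _ from el, mul_inv_cancel_right]
        exact gU_perp h4 hw hy (h_comm_zero (card_sq h4) (hyp 0))
      · exact Commute.mul_left (show Commute l q from Subgroup.mem_centralizer_singleton_iff.1 hl)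
          (htq.pow_left j).inv_left
    have hz : q ∈ Subgroup.center G := Subgroup.mem_center_iff.2 fun g =>
      Subgroup.mem_centralizer_singleton_iff.1 (((Subgroup.closure_le _).2 fun d hd =>
        Subgroup.mem_centralizer_singleton_iff.2 (hall d hd).eq.symm : Subgroup.closure D ≤ Subgroup.centralizer {q})
        (C.cls.2.2 ▸ Subgroup.mem_top g))
    rwa [C.cen, Subgroup.mem_bot] at hz
  obtain ⟨σ, hσ, hσc⟩ := exists_lifts C hel hA
  let A : Set H := {g | ∃ (y : Fin m → F) (hy : hermForm (k + m) F 2 (Fin.append 0 y) (Fin.append 0 y) = 1),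
    ψ g = gU h4 hw hy}
  have hAc : ∀ g ∈ A, Commute g (π t) := fun g hg => by
    obtain ⟨y, hy, eg⟩ := hg
    refine ψ.injective ?_
    rw [map_mul, map_mul, eg, etZ, (hZc y hy).eq]
  have anch : ∀ {g : H}, g ∈ A → ∀ {y : Fin m → F}
      {hy : hermForm (k + m) F 2 (Fin.append 0 y) (Fin.append 0 y) = 1}, ψ g = gU h4 hw hy →
      ∀ {d : G}, d ∈ D → ∀ {v : Fin (k + m) → F}, v ≠ 0 → ∀ {hv : hermForm (k + m) F 2 v v = 0},
      ψ (π d) = tv h4 hv → hermForm (k + m) F 2 v (Fin.append 0 y) = 0 → Anch π D σ g (π d) := by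
    intro g hg y hy eg d hd v hv0 hv ev hperp
    have e1 : suVal (ψ g) *ᵥ v = w • v := by rw [eg]; exact gU_perp h4 hw hy hperp
    refine ⟨fix_of_scalar C h4 h6 h3 ψ hψ hψ' hR hv ev hw0 e1, fun b hb hfix => ?_⟩
    exact fpf C cu h4 h6 h3 ψ hψ hψ' hR hel hRA hd hv0 hv ev (g := σ g) hw1 hw0
      (by rw [hσ g (hAc g hg)]; exact e1) hb hfix
  have perp_of : ∀ {g : H} {d : G}, d ∈ D → ∀ {y : Fin m → F}
      {hy : hermForm (k + m) F 2 (Fin.append 0 y) (Fin.append 0 y) = 1}, ψ g = gU h4 hw hy →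
      Anch π D σ g (π d) → ∀ {v : Fin (k + m) → F}, v ≠ 0 → ∀ {hv : hermForm (k + m) F 2 v v = 0},
      ψ (π d) = tv h4 hv → hermForm (k + m) F 2 v (Fin.append 0 y) = 0 := by
    intro g d hd y hy eg hA' v hv0 hv ev
    obtain ⟨g', rfl⟩ := C.surj g
    obtain ⟨a, -, ea⟩ := exists_scalar C h4 h6 h3 ψ hψ hψ' hR hv0 hv ev (g := g') hA'.1
    rw [eg] at ea
    exact gU_fix h4 hw hy hw0 hv hcoef ea
  refine complement_of_anchors C cu hel hne A σ (fun g hg => hσ g (hAc g hg))
    (fun g hg g' hg' => hσc g g' (hAc g hg) (hAc g' hg')) ?_ ?_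
  · rintro _ ⟨d, hd, rfl⟩ g hg g' hg' hAg hAg'
    obtain ⟨v, hv0, hv, ev⟩ := hψ d hd
    obtain ⟨y, hy, eg⟩ := hg
    obtain ⟨y', hy', eg'⟩ := hg'
    obtain ⟨z, hz, hzp⟩ := unitp ![v, Fin.append 0 y, Fin.append 0 y']
    have hmem : ψ.symm (gU h4 hw hz) ∈ A := ⟨z, hz, ψ.apply_symm_apply _⟩
    refine ⟨_, hmem, anch hmem (ψ.apply_symm_apply _) hd hv0 ev (h_comm_zero (card_sq h4) (hzp 0)), ?_, ?_⟩
    · refine ψ.injective ?_
      rw [map_mul, map_mul, eg, ψ.apply_symm_apply]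
      exact (gU_comm h4 hw hy hz (h_comm_zero (card_sq h4) (hzp 1))).eq
    · refine ψ.injective ?_
      rw [map_mul, map_mul, eg', ψ.apply_symm_apply]
      exact (gU_comm h4 hw hz hy' (hzp 2)).eq
  · rintro _ ⟨d, hd, rfl⟩ _ ⟨e, he, rfl⟩
    obtain ⟨v, hv0, hv, ev⟩ := hψ d hd
    obtain ⟨v', hv0', hv', ev'⟩ := hψ e he
    obtain ⟨z, hz, hzp⟩ := unitp ![v, v', v]
    have hmem : ψ.symm (gU h4 hw hz) ∈ A := ⟨z, hz, ψ.apply_symm_apply _⟩
    have p0 : hermForm (k + m) F 2 v (Fin.append 0 z) = 0 := h_comm_zero (card_sq h4) (hzp 0)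
    have p1 : hermForm (k + m) F 2 v' (Fin.append 0 z) = 0 := h_comm_zero (card_sq h4) (hzp 1)
    refine ⟨_, hmem, anch hmem (ψ.apply_symm_apply _) hd hv0 ev p0,
      anch hmem (ψ.apply_symm_apply _) he hv0' ev' p1, ?_⟩
    rw [← map_mul, ← map_mul]
    have hx : hermForm (k + m) F 2 (suVal (tv h4 hv) *ᵥ v') (suVal (tv h4 hv) *ᵥ v') = 0 := by rw [su_form]; exact hv'
    refine anch hmem (ψ.apply_symm_apply _) (conj_mem' C.hyp he hd) (mulVec_ne hv0') (hv := hx) ?_ ?_
    · rw [map_mul, map_mul, map_mul, map_mul, ev, ev']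
      conv_lhs => arg 2; rw [← inv_eq_of_mul_eq_one_right (tv_mul_self h4 hv)]
      exact suVal_conj h4 _ hv'
    · rw [suVal_tv h4, T_apply h4, h_add_left, h_smul_left, p0, p1, mul_zero, add_zero]

end Cfsg.Agent.Fus.TwoRadical
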