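import Cfsg.Agent.Lib.Fus.TwoRadical.UnitCase
import Cfsg.Agent.Lib.Fus.PSUFourTwo
import Cfsg.Agent.Lib.Classical.SpMultMain

/-!
A central extension of `PSU_4(2) ≅ PSp_4(3)` without normal 2-subgroup, generated by a class of involutions,
is trivial.
-/

set_option autoImplicit false
set_option linter.style.haveILetI false
set_option linter.unusedSectionVars false

namespace Cfsg.Agent.Fus.TwoRadical

open Cfsg Cfsg.Agent.Spor Cfsg.Agent.Fus.SUTwoRadical Cfsg.Agent.Classical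

universe u v

variable {G : Type u} [Group G] [Finite G] {H : Type v} [Group H] [Finite H] {π : G →* H} {D : Set G}

/-- The quotient map onto `PSU_4(2)` is injective. -/
theorem injective_four (C : Ctx π D) (hne : ∀ d ∈ D, π d ≠ 1) (h2 : pCore 2 H = ⊥) {F : Type} [Field F]
    [Fintype F] (h4 : Fintype.card F = 4) (φ : H →* PSU 4 F 2) (hker : ∀ z, φ z = 1 → z ∈ Subgroup.center H)
    (hsurj : Function.Surjective φ) : Function.Injective φ := by
  classical
  haveI : Fact (Nat.Prime 3) := ⟨Nat.prime_three⟩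
  obtain ⟨e⟩ := PSUFourTwo.nonempty_equiv (F := F) (K := ZMod 3) h4 (ZMod.card 3)
  let ψ : Matrix.symplecticGroup (Fin 2) (ZMod 3) →* PSU 4 F 2 :=
    e.symm.toMonoidHom.comp (QuotientGroup.mk' (Subgroup.center (Matrix.symplecticGroup (Fin 2) (ZMod 3))))
  have hψ : Function.Surjective ψ := e.symm.surjective.comp (QuotientGroup.mk'_surjective _)
  obtain ⟨τ, hτ⟩ := SpMult.exists_lift_Sp4 (F := ZMod 3) (by rw [ZMod.card]) φ hsurj
    (fun z hz => hker z hz) ψ
  -- every element is a lift times a central one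
  have hdec : ∀ g : H, ∃ A, (τ A)⁻¹ * g ∈ Subgroup.center H := fun g => by
    obtain ⟨A, hA⟩ := hψ (φ g)
    refine ⟨A, hker _ ?_⟩
    rw [map_mul, map_inv, show φ (τ A) = ψ A from DFunLike.congr_fun hτ A, hA, inv_mul_cancel]
  have hcomm : commutator H ≤ τ.range := by
    rw [commutator_def, Subgroup.commutator_le]
    intro a _ b _
    obtain ⟨A, hA⟩ := hdec a
    obtain ⟨B, hB⟩ := hdec b
    refine ⟨A * B * A⁻¹ * B⁻¹, ?_⟩
    have ea : a = τ A * ((τ A)⁻¹ * a) := by group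
    have eb : b = τ B * ((τ B)⁻¹ * b) := by group
    set c := (τ A)⁻¹ * a
    set c' := (τ B)⁻¹ * b
    have hc := fun g => (Subgroup.mem_center_iff.1 hA g : g * c = c * g)
    have hc' := fun g => (Subgroup.mem_center_iff.1 hB g : g * c' = c' * g)
    rw [map_mul, map_mul, map_mul, map_inv, map_inv, ea, eb, commutatorElement_def]
    calc τ A * τ B * (τ A)⁻¹ * (τ B)⁻¹ = τ A * τ B * (c * c⁻¹) * (τ A)⁻¹ * (c' * c'⁻¹) * (τ B)⁻¹ := by group
      _ = τ A * (τ B * c) * (c⁻¹ * ((τ A)⁻¹ * c')) * c'⁻¹ * (τ B)⁻¹ := by group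
      _ = τ A * (c * τ B) * (c⁻¹ * (c' * (τ A)⁻¹)) * c'⁻¹ * (τ B)⁻¹ := by rw [hc (τ B), hc' (τ A)⁻¹]
      _ = τ A * c * τ B * ((c⁻¹ * c') * (τ A)⁻¹) * c'⁻¹ * (τ B)⁻¹ := by group
      _ = τ A * c * τ B * ((c' * c⁻¹) * (τ A)⁻¹) * c'⁻¹ * (τ B)⁻¹ := by rw [hc' c⁻¹]
      _ = _ := by group
  refine (injective_iff_map_eq_one φ).2 fun z hz => ?_
  obtain ⟨hmem, hodd⟩ := central_mem_commutator C hne h2 (hker z hz)
  obtain ⟨A, rfl⟩ := hcomm hmem
  have hA : A ∈ Subgroup.center (Matrix.symplecticGroup (Fin 2) (ZMod 3)) := by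
    refine (QuotientGroup.eq_one_iff A).1 (e.symm.injective ?_)
    rw [map_one]
    exact (DFunLike.congr_fun hτ A).symm.trans hz
  have hcard := SpMult.natCard_center (F := ZMod 3) (m := 2) le_rfl
  rw [ZMod.card] at hcard
  have hA2 : A ^ 2 = 1 := orderOf_dvd_iff_pow_eq_one.1 (by
    exact (Subgroup.orderOf_dvd_natCard _ hA).trans (by rw [hcard]; decide))
  obtain ⟨j, hj⟩ := hodd
  have h1 := pow_orderOf_eq_one (τ A)
  rwa [hj, pow_succ, pow_mul, ← map_pow, hA2, map_one, one_pow, one_mul] at h1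

end Cfsg.Agent.Fus.TwoRadical
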