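import Cfsg.Agent.Lib.Fus.TwoRadical.UnitFourMono
import Cfsg.Agent.Lib.Fus.TwoRadical.UnitFourMult

/-!
The quotient `U_4(2)`: the radical is elementary abelian and complemented.
-/

set_option autoImplicit false
set_option linter.style.haveILetI false
set_option linter.unusedSectionVars false
set_option linter.unusedSimpArgs false

namespace Cfsg.Agent.Fus.TwoRadical

open Matrix Cfsg Cfsg.Agent.Spor Cfsg.Agent.Fus.SUTwoRadical Cfsg.Agent.Classical Cfsg.Agent.Classical.PSUAut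
open Cfsg.Agent.Spor.UnitTwo Cfsg.Agent.Block.FischerTypes Cfsg.Agent.Fus.TwoRadical.Unit

universe u v

variable {G : Type u} [Group G] [Finite G] {H : Type v} [Group H] [Finite H] {π : G →* H} {D : Set G}
  {F : Type} [Field F] [Fintype F] {h4 : Fintype.card F = 4} {ψ : H ≃* SU 4 F 2} {w : F}

local notation "hh" => hermForm 4 F 2

namespace Four

/-- Three coordinates one and one other. -/
def ev (j : Fin 4) (l : F) : Fin 4 → F := fun k => if k = j then l else 1

/-- The vector of ones with one zero, up to factors. -/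
def u0 (w : F) : Fin 4 → F := ![1, w, w + 1, 0]

theorem complement (K : Four π D h4 ψ w) : ∃ L : Subgroup G, (pCore 2 G).IsComplement' L := by
  classical
  have hw := K.hw
  obtain ⟨hw0, hw1⟩ := w_ne hw
  have hww : w + 1 ≠ 0 := fun e => hw1 (by linear_combination e - add_self h4 (1 : F))
  have h := K.C.hyp
  obtain ⟨S, hmem, hsmul, hgen⟩ := K.exists_sec
  have hS : Sec π D h4 ψ S := ⟨hmem, hsmul, hgen⟩
  have hv0 : Sing (v0 F) := ⟨v0_ne, v0_iso h4⟩
  -- the unit vectors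
  have hu : hh (u0 w) (u0 w) = 1 := by
    rw [hh_eq]
    simp [u0]
    linear_combination cube h4 hw0 + cube h4 hww + add_self h4 (1 : F)
  have he3 := unit_vec (F := F) 3
  have perp : ∀ x : Fin 4 → F, x 0 = x 1 → x 1 = x 2 → hh x (u0 w) = 0 := fun x e1 e2 => by
    rw [hh_eq, e1, e2]
    simp [u0]
    linear_combination (2 * x 2) * hw + (2 * x 2 * w + x 2 + x 2) * add_self h4 1
  have hcoef : coef w 4 = w := by
    rw [coef]
    linear_combination (w * w + w ^ 5) * cube h4 hw0 + hw + add_self h4 (1 : F)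
  have hfac : w * (1 + w) = 1 := by linear_combination hw + add_self h4 w
  -- the lift of the diagonal element
  obtain ⟨t, htT, htd⟩ := realise (π := π) (D := D) (h4 := h4) (ψ := ψ) hS
    (a := ![w, w, w, 1]) (fun k => by fin_cases k <;> simp [hw0]) (by simp; linear_combination cube h4 hw0)
  have ht : ψ (π t) = gU h4 hw he3 := suVal_ext (Matrix.ext_iff_mulVec.2 fun x => funext fun k => by
    show act ψ (π t) x k = _
    rw [htd, gU_apply, hh_single, hcoef]
    fin_cases k <;> simp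
    linear_combination -(x 3) * hfac)
  have hcomm : Commute (gU h4 hw he3) (gU h4 hw hu) := gU_comm h4 hw he3 hu (by
    rw [hh_eq]; simp [u0])
  have gcube : ∀ {u : Fin 4 → F} (hu : hh u u = 1), gU h4 hw hu ^ 3 = 1 := fun {u} hu => by
    refine suVal_ext (Matrix.ext_iff_mulVec.2 fun x => ?_)
    rw [pow_succ, pow_two, suVal_mul, suVal_mul, ← Matrix.mulVec_mulVec, ← Matrix.mulVec_mulVec,
      show suVal (1 : SU 4 F 2) = 1 from rfl, Matrix.one_mulVec]
    funext k
    simp only [gU_apply, h_smul_left, h_add_left, hu, hcoef, Pi.smul_apply, Pi.add_apply, smul_eq_mul]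
    linear_combination (x k + w * (hh x u) * u k * (3 + 3 * w + w * w)) * cube h4 hw0 +
      (hh x u * u k) * cube h4 (show (1 : F) + w ≠ 0 by rwa [add_comm])
  let A : Subgroup H := Subgroup.closure {ψ.symm (gU h4 hw he3), ψ.symm (gU h4 hw hu)}
  have hAc : ∀ a ∈ A, ∀ b ∈ A, Commute a b := fun a ha b hb => by
    have hgens : ∀ p ∈ ({ψ.symm (gU h4 hw he3), ψ.symm (gU h4 hw hu)} : Set H),
        A ≤ Subgroup.centralizer {p} := fun p hp => (Subgroup.closure_le _).2 fun q hq =>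
      Subgroup.mem_centralizer_singleton_iff.2 (by
        rcases hp with rfl | rfl <;> rcases hq with rfl | rfl
        exacts [rfl, (hcomm.symm.map ψ.symm.toMonoidHom).eq, (hcomm.map ψ.symm.toMonoidHom).eq, rfl])
    have hb' : A ≤ Subgroup.centralizer {b} := (Subgroup.closure_le _).2 fun p hp =>
      Subgroup.mem_centralizer_singleton_iff.2 (Subgroup.mem_centralizer_singleton_iff.1 (hgens p hp hb)).symm
    exact Subgroup.mem_centralizer_singleton_iff.1 (hb' ha)
  have hA3 : ∀ a ∈ A, a ^ 3 = 1 := fun a ha => by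
    induction ha using Subgroup.closure_induction with
    | mem p hp => rcases hp with rfl | rfl <;> rw [← map_pow, gcube, map_one]
    | one => exact one_pow 3
    | mul p q hp hq ihp ihq => rw [(hAc p hp q hq).mul_pow, ihp, ihq, one_mul]
    | inv p _ ih => rw [inv_pow, ih, inv_one]
  obtain ⟨P, htP, hPc, -, hP⟩ := exists_comm_lifts K.C A hAc hA3 (t := t)
    (Subgroup.subset_closure (Or.inl (ψ.eq_symm_apply.2 ht))) (T1_cube K hS htT)
  obtain ⟨gg, hggP, hgg⟩ := hP (ψ.symm (gU h4 hw hu)) (Subgroup.subset_closure (Or.inr rfl))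
  have eig : ∀ x : Fin 4 → F, x 0 = x 1 → x 1 = x 2 → act ψ (π gg) x = w • x := fun x e1 e2 => by
    rw [act, hgg, ψ.apply_symm_apply, gU_perp h4 hw hu (perp x e1 e2)]
  -- the member over the point of ones
  obtain ⟨d0, ⟨⟨hd0, ed0⟩, hfix0⟩, -⟩ := K.fixed hv0 hw1 hw0 (eig _ rfl rfl)
  -- every point without zero coordinates
  have hex : ∀ v : Fin 4 → F, Sing v → (∀ k, v k ≠ 0) →
      ∃ g ∈ MM S, pt h4 ψ (act ψ (π g) (v0 F)) = pt h4 ψ v := fun v hv hnz => by
    obtain ⟨c, a, hc, ha, hp, rfl⟩ := normalize h4 hnz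
    obtain ⟨g, hg, hgd⟩ := realise (π := π) (D := D) (h4 := h4) (ψ := ψ) hS ha hp
    refine ⟨g, T1_le hS hg, ?_⟩
    have e : act ψ (π g) (v0 F) = a := funext fun k => by rw [hgd]; simp [v0]
    have hsa : Sing a := e ▸ sing_act _ hv0
    rw [e, pt_smul hsa hc]
  have hx : ∀ x ∈ π '' D, ∃ d, (∀ v, Zp v → pt h4 ψ v = x → d = S v) ∧
      (∀ g ∈ MM S, pt h4 ψ (act ψ (π g) (v0 F)) = x → d = g * d0 * g⁻¹) := by
    intro x hx
    obtain ⟨v, hv, rfl⟩ := K.exists_pt hx
    have nonz : ∀ g ∈ MM S, pt h4 ψ (act ψ (π g) (v0 F)) = pt h4 ψ v → ¬ Zp v := by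
      intro g hg e hz
      obtain ⟨a, ha, ea⟩ := pt_eq (sing_act _ hv0) hv e
      have h1 : Zp (act ψ (π g⁻¹) (act ψ (π g) (v0 F))) := by
        rw [ea, act_smul]
        obtain ⟨⟨hs, l, hl⟩, -⟩ := equiv K hS (inv_mem hg) hz
        exact ⟨sing_smul hs ha, l, by rw [map_inv] at hl ⊢; simp [hl]⟩
      rw [← act_mul, map_inv, inv_mul_cancel, act_one] at h1
      obtain ⟨l, hl⟩ := h1.2
      exact one_ne_zero (α := F) hl
    by_cases hz : Zp v
    · refine ⟨S v, fun u hu e => ?_, fun g hg e => absurd hz (nonz g hg e)⟩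
      obtain ⟨a, ha, ea⟩ := pt_eq hu.1 hv e
      rw [ea, hsmul v a ha hz]
    obtain ⟨g, hg, eg⟩ := hex v hv fun k e => hz ⟨hv, k, e⟩
    refine ⟨g * d0 * g⁻¹, fun u hu e => absurd ?_ (nonz g hg eg), fun g' hg' e => ?_⟩
    · obtain ⟨a, ha, ea⟩ := pt_eq hv hu.1 e.symm
      obtain ⟨l, hl⟩ := hu.2
      exact ⟨hv, l, by rw [ea]; simp [hl]⟩
    · have hc := stab_ones K hS (mul_mem (inv_mem hg') hg) (d := d0) (by
        rw [map_mul, act_mul, ← pt_conj _ (sing_act _ hv0), eg, ← e, pt_conj _ (sing_act _ hv0), ← act_mul,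
          map_inv, inv_mul_cancel, act_one]) hd0 ed0
      calc g * d0 * g⁻¹ = g' * ((g'⁻¹ * g) * d0 * (g'⁻¹ * g)⁻¹) * g'⁻¹ := by group
        _ = _ := by rw [hc.eq]; group
  choose! s hsZ hsN using hx
  have hsv0 : s (pt h4 ψ (v0 F)) = d0 := by
    rw [hsN _ (K.pt_mem hv0) 1 (one_mem _) (by rw [map_one, act_one])]; simp
  have hsmem : ∀ x ∈ π '' D, s x ∈ D ∧ π (s x) = x := fun x hx => by
    obtain ⟨v, hv, rfl⟩ := K.exists_pt hx
    by_cases hz : Zp v
    · rw [hsZ _ hx v hz rfl]; exact hmem v hz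
    obtain ⟨g, hg, eg⟩ := hex v hv fun k e => hz ⟨hv, k, e⟩
    rw [hsN _ hx g hg eg]
    refine ⟨K.C.conj g hd0, ?_⟩
    rw [map_mul, map_mul, map_inv, ed0, pt_conj _ hv0, eg]
  have equivar : ∀ g ∈ MM S, ∀ x ∈ π '' D, s (π g * x * (π g)⁻¹) = g * s x * g⁻¹ := by
    intro g hg x hx
    obtain ⟨v, hv, rfl⟩ := K.exists_pt hx
    have hy : π g * pt h4 ψ v * (π g)⁻¹ ∈ π '' D := by rw [pt_conj _ hv]; exact K.pt_mem (sing_act _ hv)
    by_cases hz : Zp v
    · obtain ⟨hz', e⟩ := equiv K hS hg hz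
      rw [hsZ _ hy _ hz' (pt_conj _ hv).symm, hsZ _ hx v hz rfl, e]
    obtain ⟨g', hg', eg⟩ := hex v hv fun k e => hz ⟨hv, k, e⟩
    rw [hsN _ hx g' hg' eg, hsN _ hy (g * g') (mul_mem hg hg') (by
      rw [map_mul, act_mul, ← pt_conj _ (sing_act _ hv0), eg])]
    group
  refine complement_of_section K.C K.hel (fun d hd => K.C.ne_one hd) s hsmem ?_
  have hE := K.C.cls' fun d hd => K.C.ne_one hd
  have hcj : ∀ {a u : H}, a ∈ π '' D → u ∈ π '' D → a * u * a ∈ π '' D := fun {a u} ha hu => by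
    simpa [ThreeTrans.inv_eq hE.1 ha] using ThreeTrans.conj_mem hE a hu
  have hself : ∀ {x : H}, x ∈ π '' D → s x * s x = 1 := fun hx => ThreeTrans.mul_self K.C.cls.1 (hsmem _ hx).1
  have hbr : ∀ {a u : H}, a ∈ π '' D → u ∈ π '' D → ¬ Commute a u →
      s a * s u * s a = s u * s a * s u ∧ a * u * a = u * a * u := by
    intro a u ha hu hn
    refine ⟨ThreeTrans.braid K.C.cls.1 (hsmem a ha).1 (hsmem u hu).1 fun k => hn ?_, ThreeTrans.braid hE.1 ha hu hn⟩
    rw [← (hsmem a ha).2, ← (hsmem u hu).2]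
    exact k.map π
  -- points with a zero coordinate
  have step1 : ∀ v, Zp v → ∀ u ∈ π '' D, s (pt h4 ψ v) * s u * s (pt h4 ψ v) = s (pt h4 ψ v * u * pt h4 ψ v) := by
    intro v hv u hu
    have hp := K.pt_mem hv.1
    have e := equivar (S v) (Subgroup.subset_closure ⟨v, hv, rfl⟩) u hu
    rw [(hmem v hv).2, ThreeTrans.inv_eq hE.1 hp, inv K hS hv] at e
    rw [hsZ _ hp v hv rfl, e]
  -- the point of ones
  have hp0 := K.pt_mem hv0
  have step2 : ∀ u ∈ π '' D,
      s (pt h4 ψ (v0 F)) * s u * s (pt h4 ψ (v0 F)) = s (pt h4 ψ (v0 F) * u * pt h4 ψ (v0 F)) := by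
    have transfer : ∀ g ∈ MM S, π g * pt h4 ψ (v0 F) * (π g)⁻¹ = pt h4 ψ (v0 F) → ∀ u ∈ π '' D,
        s (pt h4 ψ (v0 F)) * s u * s (pt h4 ψ (v0 F)) = s (pt h4 ψ (v0 F) * u * pt h4 ψ (v0 F)) →
        s (pt h4 ψ (v0 F)) * s (π g * u * (π g)⁻¹) * s (pt h4 ψ (v0 F)) =
          s (pt h4 ψ (v0 F) * (π g * u * (π g)⁻¹) * pt h4 ψ (v0 F)) := by
      intro g hg hfix u hu e
      set z := pt h4 ψ (v0 F)
      have e1 := equivar g hg z hp0
      rw [hfix] at e1
      calc s z * s (π g * u * (π g)⁻¹) * s z = g * (s z * s u * s z) * g⁻¹ := by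
            conv_lhs => rw [e1, equivar g hg u hu]
            group
        _ = s (π g * (z * u * z) * (π g)⁻¹) := by rw [e, equivar g hg _ (hcj hp0 hu)]
        _ = s ((π g * z * (π g)⁻¹) * (π g * u * (π g)⁻¹) * (π g * z * (π g)⁻¹)) := by congr 1; group
        _ = _ := by rw [hfix]
    -- the members on the line fixed by the anchor
    have fixg : ∀ l : F, l ≠ 0 → l ≠ 1 → gg * s (pt h4 ψ (ev 3 l)) * gg⁻¹ = s (pt h4 ψ (ev 3 l)) ∧
        Sing (ev 3 l) := by
      intro l hl0 hl1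
      have hct : Commute gg t := hPc _ hggP _ htP
      have done : ∀ {g : G} {c : F}, g ∈ MM S → Commute gg g → c ≠ 0 → act ψ (π g) (v0 F) = c • ev 3 l →
          gg * s (pt h4 ψ (ev 3 l)) * gg⁻¹ = s (pt h4 ψ (ev 3 l)) ∧ Sing (ev 3 l) := by
        intro g c hg hgc hc e
        have hsg : Sing (ev 3 l) := by
          have := sing_smul (sing_act (π g) hv0 (ψ := ψ)) (inv_ne_zero hc)
          rwa [e, inv_smul_smul₀ hc] at this
        refine ⟨?_, hsg⟩
        rw [hsN _ (K.pt_mem hsg) g hg (by rw [e, pt_smul hsg hc])]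
        calc gg * (g * d0 * g⁻¹) * gg⁻¹ = (gg * g) * d0 * (gg * g)⁻¹ := by group
          _ = g * (gg * d0 * gg⁻¹) * g⁻¹ := by rw [hgc.eq]; group
          _ = _ := by rw [hfix0]
      have hl : l = w ∨ l = w + 1 := by
        have q : l * l + l + 1 = 0 := (mul_eq_zero.1 (show (l - 1) * (l * l + l + 1) = 0 by
          linear_combination cube h4 hl0)).resolve_left (sub_ne_zero.2 hl1)
        have : (l - w) * (l - (w + 1)) = 0 := by
          linear_combination q + hw - (l * w + l - w) * add_self h4 (1 : F)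
        exact (mul_eq_zero.1 this).imp sub_eq_zero.1 sub_eq_zero.1
      rcases hl with rfl | rfl
      · refine done (g := t * t) (c := l * l) (mul_mem (T1_le hS htT) (T1_le hS htT)) (hct.mul_right hct)
          (mul_ne_zero hl0 hl0) (funext fun k => ?_)
        rw [map_mul, act_mul, htd, htd]
        fin_cases k <;> simp [ev, v0]
        linear_combination -(cube h4 hl0)
      · refine done (g := t) (c := w) (T1_le hS htT) hct hw0 (funext fun k => ?_)
        rw [htd]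
        fin_cases k <;> simp [ev, v0]
        linear_combination -hfac
    intro u hu
    by_cases hc : Commute (pt h4 ψ (v0 F)) u
    · have hcs : Commute (s (pt h4 ψ (v0 F))) (s u) := commute_image h (hsmem _ hp0).1 (hsmem u hu).1 (by
        rw [(hsmem _ hp0).2, (hsmem u hu).2]; exact hc)
      rw [hcs.eq, mul_assoc, hself hp0, mul_one, hc.eq, mul_assoc, ThreeTrans.mul_self hE.1 hp0, mul_one]
    obtain ⟨v, hv, rfl⟩ := K.exists_pt hu
    obtain ⟨eb, ebH⟩ := hbr hp0 (K.pt_mem hv) hc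
    by_cases hz : Zp v
    · rw [eb, step1 v hz _ hp0, ebH]
    have hnz : ∀ k, v k ≠ 0 := fun k e => hz ⟨hv, k, e⟩
    have hn : hh v (v0 F) ≠ 0 := fun e => hc ((pt_comm hv0 hv).2 (h_comm_zero (card_sq h4) e))
    have hw' : pt h4 ψ (v0 F) * pt h4 ψ v * pt h4 ψ (v0 F) = pt h4 ψ (v + hh v (v0 F) • v0 F) := pt_refl hv0 hv
    have hsw : Sing (v + hh v (v0 F) • v0 F) := by
      rw [← act_pt (h4 := h4) (ψ := ψ) hv0]; exact sing_act _ hv
    by_cases hz' : Zp (v + hh v (v0 F) • v0 F)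
    · have hwm := K.pt_mem hsw
      have hnc : ¬ Commute (pt h4 ψ (v + hh v (v0 F) • v0 F)) (pt h4 ψ (v0 F)) := fun k => hn (by
        have := (pt_comm hsw hv0).1 k
        rwa [h_add_left, h_smul_left, v0_iso h4, mul_zero, add_zero] at this)
      obtain ⟨eb2, ebH2⟩ := hbr hwm hp0 hnc
      have hu' : pt h4 ψ v = pt h4 ψ (v + hh v (v0 F) • v0 F) * pt h4 ψ (v0 F) * pt h4 ψ (v + hh v (v0 F) • v0 F) := by
        rw [ebH2, ← hw']
        simp only [← mul_assoc, ThreeTrans.mul_self hE.1 hp0, one_mul]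
        rw [mul_assoc, ThreeTrans.mul_self hE.1 hp0, mul_one]
      rw [hw']
      conv_lhs => rw [hu', ← step1 _ hz' _ hp0, eb2]
      simp only [← mul_assoc, hself hp0, one_mul]
      rw [mul_assoc, hself hp0, mul_one]
    obtain ⟨j, c, l, hc0, hl0, hl1, rfl⟩ := classify h4 hnz hn fun k e => hz' ⟨hsw, k, by
      simpa [v0] using e⟩
    change Sing (c • ev j l) at hv
    have hse : Sing (ev j l) := by
      have := sing_smul hv (inv_ne_zero hc0); rwa [inv_smul_smul₀ hc0] at this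
    show s _ * s (pt h4 ψ (c • ev j l)) * s _ = s (_ * pt h4 ψ (c • ev j l) * _)
    rw [pt_smul hse hc0]
    have base : ∀ l : F, l ≠ 0 → l ≠ 1 → s (pt h4 ψ (v0 F)) * s (pt h4 ψ (ev 3 l)) * s (pt h4 ψ (v0 F)) =
        s (pt h4 ψ (v0 F) * pt h4 ψ (ev 3 l) * pt h4 ψ (v0 F)) := by
      intro l hl0 hl1
      obtain ⟨f1, hs1⟩ := fixg l hl0 hl1
      obtain ⟨f2, hs2⟩ := fixg (l + 1) (fun e => hl1 (by linear_combination e - add_self h4 (1 : F)))
        (fun e => hl0 (by linear_combination e))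
      have ethird : ev 3 l + hh (ev 3 l) (v0 F) • v0 F = l • ev 3 (l + 1) := by
        have e : hh (ev 3 l) (v0 F) = 1 + l := by
          rw [hh_eq]; simp [ev, v0]; linear_combination add_self h4 (1 : F)
        have q : l * l + l + 1 = 0 := (mul_eq_zero.1 (show (l - 1) * (l * l + l + 1) = 0 by
          linear_combination cube h4 hl0)).resolve_left (sub_ne_zero.2 hl1)
        rw [e]
        funext k
        fin_cases k <;> simp [ev, v0]
        all_goals first
          | linear_combination add_self h4 (1 : F)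
          | linear_combination add_self h4 l - q + add_self h4 (1 : F)
      have em : pt h4 ψ (v0 F) * pt h4 ψ (ev 3 l) * pt h4 ψ (v0 F) = pt h4 ψ (ev 3 (l + 1)) := by
        rw [pt_refl hv0 hs1, ethird, pt_smul hs2 hl0]
      rw [em]
      have hy := K.pt_mem hs2
      have hyl := K.pt_mem hs1
      refine (K.fixed hs2 hw1 hw0 (eig _ rfl rfl)).unique ⟨⟨?_, ?_⟩, ?_⟩ ⟨hsmem _ hy, f2⟩
      · exact conj_mem' h (hsmem _ hyl).1 (hsmem _ hp0).1
      · rw [map_mul, map_mul, (hsmem _ hp0).2, (hsmem _ hyl).2, em]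
      · calc gg * (s (pt h4 ψ (v0 F)) * s (pt h4 ψ (ev 3 l)) * s (pt h4 ψ (v0 F))) * gg⁻¹ =
              (gg * s (pt h4 ψ (v0 F)) * gg⁻¹) * (gg * s (pt h4 ψ (ev 3 l)) * gg⁻¹) *
                (gg * s (pt h4 ψ (v0 F)) * gg⁻¹) := by group
          _ = _ := by rw [f1, hsv0, hfix0]
    by_cases hj : j = 3
    · subst hj; exact base l hl0 hl1
    have hz1 := zp_pv (h4 := h4) hj (one_ne_zero (α := F))
    have hgm : S (pv j 3 1) ∈ MM S := Subgroup.subset_closure ⟨_, hz1, rfl⟩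
    have hmv : act ψ (π (S (pv j 3 1))) (ev 3 l) = ev j l := funext fun k => by
      rw [act_pv hS hj one_ne_zero]
      by_cases k1 : k = j
      · subst k1; simp [ev]
      by_cases k2 : k = 3
      · subst k2; simp [ev, hj, k1, Ne.symm hj]
      simp [ev, k1, k2]
    have hfixz : π (S (pv j 3 1)) * pt h4 ψ (v0 F) * (π (S (pv j 3 1)))⁻¹ = pt h4 ψ (v0 F) := by
      rw [pt_conj _ hv0, act_S hS hz1, v0_pv h4 hj, zero_smul, add_zero]
    have hs3 := (fixg l hl0 hl1).2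
    have := transfer _ hgm hfixz _ (K.pt_mem hs3) (base l hl0 hl1)
    rwa [pt_conj _ hs3, hmv] at this
  intro a ha u hu
  obtain ⟨v, hv, rfl⟩ := K.exists_pt ha
  by_cases hz : Zp v
  · exact step1 v hz u hu
  obtain ⟨g, hg, eg⟩ := hex v hv fun k e => hz ⟨hv, k, e⟩
  set a := pt h4 ψ v with haa
  set z := pt h4 ψ (v0 F) with hzz
  have eaz : π g * z * (π g)⁻¹ = a := by rw [hzz, pt_conj _ hv0, eg]
  set u' := (π g)⁻¹ * u * π g with hu'
  have hu'm : u' ∈ π '' D := by simpa using ThreeTrans.conj_mem hE (π g)⁻¹ hu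
  have eu : π g * u' * (π g)⁻¹ = u := by rw [hu']; group
  calc s a * s u * s a = g * (s z * s u' * s z) * g⁻¹ := by
        rw [← eu, equivar g hg u' hu'm, ← eaz, equivar g hg z hp0]
        group
    _ = s (π g * (z * u' * z) * (π g)⁻¹) := by rw [step2 u' hu'm, equivar g hg _ (hcj hp0 hu'm)]
    _ = s ((π g * z * (π g)⁻¹) * (π g * u' * (π g)⁻¹) * (π g * z * (π g)⁻¹)) := by congr 1; group
    _ = _ := by rw [eaz, eu]

end Four

/-- The quotient `U_4(2)` gives the first alternative. -/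
theorem unitFour_case (C : Ctx π D) (cu : ∀ x ∈ π '' D, ∀ y ∈ π '' D, CU π D x y) (h2 : pCore 2 H = ⊥)
    {F : Type} [Field F] [Fintype F] (h4 : Fintype.card F = 4) (φ : H →* PSU 4 F 2)
    (hker : ∀ z, φ z = 1 → z ∈ Subgroup.center H) (hsurj : Function.Surjective φ)
    (himg : φ '' (π '' D) = U6.roots h4 4) (hR : ThreeTrans.Hyp (U6.roots h4 4))
    (hRA : ¬ Spor.FischerThm.RowAdd (π '' D)) :
    IsElementaryAbelian 2 (pCore 2 G) ∧ ∃ K : Subgroup G, (pCore 2 G).IsComplement' K := by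
  have hne : ∀ d ∈ D, π d ≠ 1 := fun d hd => C.ne_one hd
  have hinj := injective_four C hne h2 h4 φ hker hsurj
  let σ : SU 4 F 2 ≃* PSU 4 F 2 := MulEquiv.ofBijective (suToPSU 4 F 2)
    ⟨suToPSU_inj h4 (by norm_num), pi_surjective⟩
  let ψ : H ≃* SU 4 F 2 := (MulEquiv.ofBijective φ ⟨hinj, hsurj⟩).trans σ.symm
  have hψ : ∀ d ∈ D, ∃ v : Fin 4 → F, v ≠ 0 ∧ ∃ hv : hermForm 4 F 2 v v = 0, ψ (π d) = tv h4 hv := fun d hd => by
    obtain ⟨v, hv0, hv, ev⟩ : φ (π d) ∈ U6.roots h4 4 := himg ▸ ⟨_, ⟨d, hd, rfl⟩, rfl⟩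
    exact ⟨v, hv0, hv, σ.symm_apply_eq.2 ev.symm⟩
  have hψ' : ∀ v : Fin 4 → F, v ≠ 0 → ∀ hv : hermForm 4 F 2 v v = 0, ∃ d ∈ D, ψ (π d) = tv h4 hv :=
    fun v hv0 hv => by
      obtain ⟨_, ⟨d, hd, rfl⟩, e⟩ := himg.ge ⟨v, hv0, hv, rfl⟩
      exact ⟨d, hd, σ.symm_apply_eq.2 e⟩
  have hel := elementary_unit C cu h4 (Or.inr rfl) (by norm_num) ψ hψ hψ' hR
  obtain ⟨w, -, -, hw, -, -⟩ := U6.exists_omega h4
  exact ⟨hel, Four.complement (⟨C, cu, hψ, hψ', hR, hel, hRA, hw⟩ : Four π D h4 ψ w)⟩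

end Cfsg.Agent.Fus.TwoRadical
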