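import Cfsg.Agent.Lib.Fus.TwoRadical.RowExtend
import Cfsg.Agent.Lib.Fus.TwoRadical.Disjoined
import Cfsg.Agent.Lib.Fus.TwoRadical.PerpImage
import Cfsg.Agent.Lib.Fus.TwoRadical.UnitAnchor
import Cfsg.Agent.Lib.Fus.TwoRadical.UnitFour
import Cfsg.Agent.Lib.Spor.Triality.Main
import Cfsg.Agent.Lib.Spor.HallWidthOneQuot

/-!
The dichotomy for the 2-radical of a group generated by 3-transpositions.
-/

set_option autoImplicit false
set_option linter.style.haveILetI false
set_option linter.unusedSectionVars false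

namespace Cfsg.Agent.Fus.TwoRadical

open Cfsg Cfsg.Agent.Spor Cfsg.Agent.Fus.SUTwoRadical Cfsg.Agent.Block.FischerTypes

/-- The setting of a class follows an isomorphism. -/
theorem hyp_map {K X : Type*} [Group K] [Finite K] [Group X] [Finite X] {E : Set K} (hy : ThreeTrans.Hyp E)
    (e : K ≃* X) {E' : Set X} (he : e '' E = E') (hcls : IsThreeTranspositionClass E') : ThreeTrans.Hyp E' := by
  have hc : (commutator K).map e.toMonoidHom = commutator X := by
    rw [commutator_def, Subgroup.map_commutator, Subgroup.map_top_of_surjective _ e.surjective, commutator_def]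
  refine ⟨hcls, ?_, fun N hN hsol hle => ?_, ?_⟩
  · rw [← hc, ← Subgroup.map_commutator, hy.perf]
  · haveI := hN
    haveI := hsol
    have hsol' : Group.IsSolvable ↥(N.comap e.toMonoidHom) := by
      refine Group.isSolvable_of_surjective (f := (e.symm.toMonoidHom.comp N.subtype).codRestrict _ fun x => ?_)
        fun y => ⟨⟨e y, y.2⟩, Subtype.ext (e.symm_apply_apply _)⟩
      show e (e.symm x) ∈ N
      rw [e.apply_symm_apply]; exact x.2
    have h := hy.solv (N.comap e.toMonoidHom) inferInstance hsol' fun x hx => by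
      obtain ⟨y, hy', ey⟩ := hc.ge (hle hx)
      rwa [← e.injective ey]
    rw [← Subgroup.map_comap_eq_self_of_surjective (f := e.toMonoidHom) e.surjective N, h, Subgroup.map_bot]
  · obtain ⟨a, ha, b, hb, hab⟩ := hy.nc
    exact ⟨e a, he ▸ ⟨a, ha, rfl⟩, e b, he ▸ ⟨b, hb, rfl⟩, fun k => hab (e.injective (by
      rw [map_mul, map_mul]; exact k.eq))⟩

universe u v

variable {G : Type u} [Group G] [Finite G] {H : Type v} [Group H] [Finite H] {π : G →* H} {D : Set G}

/-- The radical is elementary abelian and complemented, or the quotient is exceptional. -/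
def Alt {G : Type*} [Group G] (H : Type*) [Group H] : Prop :=
  (IsElementaryAbelian 2 (pCore 2 G) ∧ ∃ K : Subgroup G, (pCore 2 G).IsComplement' K) ∨
    ∃ (F : Type) (_ : Field F) (_ : Fintype F), Fintype.card F = 4 ∧
      (Nonempty (H ≃* ↥(SU 5 F 2)) ∨ Nonempty (H ≃* ↥(SU 7 F 2)))

open Cfsg.Agent.Classical Cfsg.Agent.Classical.PSUAut Cfsg.Agent.Spor.UnitTwo in
/-- The unitary quotients. -/
theorem unit_case (C : Ctx π D) (cu : ∀ x ∈ π '' D, ∀ y ∈ π '' D, CU π D x y) (h2 : pCore 2 H = ⊥)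
    (hRA : ¬ Spor.FischerThm.RowAdd (π '' D)) {F : Type} [Field F] [Fintype F] (h4 : Fintype.card F = 4) {n : ℕ}
    (hn : 4 ≤ n) (φ : H →* PSU n F 2) (hker : ∀ z, φ z = 1 → z ∈ Subgroup.center H)
    (hsurj : Function.Surjective φ) (hcom : ∀ x ∈ π '' D, ∀ y ∈ π '' D, Commute (φ x) (φ y) → Commute x y)
    (himg : φ '' (π '' D) = U6.roots h4 n) (hR : ThreeTrans.Hyp (U6.roots h4 n)) : Alt (G := G) H := by
  have hne : ∀ d ∈ D, π d ≠ 1 := fun d hd => C.ne_one hd
  by_cases h4' : n = 4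
  · subst h4'
    exact Or.inl (unitFour_case C cu h2 h4 φ hker hsurj himg hR hRA)
  by_cases h3 : n % 3 = 0
  · exact Or.inl (complement_of_central C cu
      (imgCentral_three C h4 φ hcom himg (by omega) h3 hR hker) hRA)
  have hinj := injective_of_coprime C h4 φ hcom himg (by omega) h3 h2 hker hsurj hne
  let σ : SU n F 2 ≃* PSU n F 2 := MulEquiv.ofBijective (suToPSU n F 2) ⟨suToPSU_inj h4 h3, pi_surjective⟩
  let ψ : H ≃* SU n F 2 := (MulEquiv.ofBijective φ ⟨hinj, hsurj⟩).trans σ.symm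
  by_cases h5 : n = 5
  · subst h5
    exact Or.inr ⟨F, inferInstance, inferInstance, h4, Or.inl ⟨ψ⟩⟩
  by_cases h7 : n = 7
  · subst h7
    exact Or.inr ⟨F, inferInstance, inferInstance, h4, Or.inr ⟨ψ⟩⟩
  obtain ⟨k, m, rfl, hm, hk⟩ : ∃ k m, n = k + m ∧ 7 ≤ m ∧
      ((k = 1 ∧ (k + m) % 3 = 2) ∨ (k = 2 ∧ (k + m) % 3 = 1)) := by
    by_cases k2 : n % 3 = 2
    · exact ⟨1, n - 1, by omega, by omega, Or.inl ⟨rfl, by omega⟩⟩
    · exact ⟨2, n - 2, by omega, by omega, Or.inr ⟨rfl, by omega⟩⟩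
  refine Or.inl (unit_big C cu h4 hm hk ψ (fun d hd => ?_) (fun v hv0 hv => ?_) hR hRA hne)
  · obtain ⟨v, hv0, hv, ev⟩ : φ (π d) ∈ U6.roots h4 (k + m) := himg ▸ ⟨_, ⟨d, hd, rfl⟩, rfl⟩
    exact ⟨v, hv0, hv, σ.symm_apply_eq.2 ev.symm⟩
  · obtain ⟨_, ⟨d, hd, rfl⟩, e⟩ := himg.ge ⟨v, hv0, hv, rfl⟩
    exact ⟨d, hd, σ.symm_apply_eq.2 e⟩

/-- A quotient with a commuting pair and central 3-core. -/
theorem pair_case (C : Ctx π D) (h2 : pCore 2 H = ⊥) (h3 : pCore 3 H ≤ Subgroup.center H)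
    (hw : ∃ a ∈ π '' D, ∃ b ∈ π '' D, a ≠ b ∧ Commute a b) : Alt (G := G) H := by
  classical
  have hne : ∀ d ∈ D, π d ≠ 1 := fun d hd => C.ne_one hd
  have hE := C.cls' hne
  have h := C.hyp
  obtain ⟨hE0, hc0, h20, h30, hinj, hcom⟩ := central_quot C h2 h3 hw
  set f := QuotientGroup.mk' (Subgroup.center H) with hf
  have hker : ∀ z, f z = 1 → z ∈ Subgroup.center H := fun z hz => (QuotientGroup.eq_one_iff z).1 hz
  have hsurj : Function.Surjective f := QuotientGroup.mk'_surjective _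
  have hw0 : ∃ a ∈ f '' (π '' D), ∃ b ∈ f '' (π '' D), a ≠ b ∧ Commute a b := by
    obtain ⟨a, ha, b, hb, hab, hc⟩ := hw
    exact ⟨_, ⟨a, ha, rfl⟩, _, ⟨b, hb, rfl⟩, fun e => hab (hinj ha hb e), hc.map f⟩
  have hrow : Spor.FischerThm.RowAdd (f '' (π '' D)) → Spor.FischerThm.RowAdd (π '' D) := by
    intro hR a ha b hb hab g hg h1 h2'
    refine hcom g hg (a * b * a) (by simpa [ThreeTrans.inv_eq hE.1 ha] using ThreeTrans.conj_mem hE a hb) ?_
    rw [map_mul, map_mul]
    exact hR _ ⟨a, ha, rfl⟩ _ ⟨b, hb, rfl⟩ (fun k => hab (hcom a ha b hb k)) _ ⟨g, hg, rfl⟩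
      (fun k => h1 (hcom g hg a ha k)) fun k => h2' (hcom g hg b hb k)
  have first : (∀ x ∈ π '' D, ∀ y ∈ π '' D, CU π D x y) → Spor.FischerThm.RowAdd (π '' D) → Alt (G := G) H :=
    fun cu hR => by
      have hel := elementary_of_rowAdd h cu C.cls C.cen C.ker hR
      exact Or.inl ⟨hel, complement_of_rowAdd C cu hR h2 hne hel⟩
  by_cases hconn : (commutingGraph (f '' (π '' D))).Connected
  · have hp := ((Spor.FischerStr.primitive_iff hE0 hc0 hw0).2).2 ⟨h20, h30, hconn⟩
    have g := Spor.FischerThm.good_of_prim hE0 hp hc0 hw0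
    have cu := CU_all h C.cls C.cen hE f g.hyp.nc (spanning_of_prim hE0 hp hw0) (paired_of_class hE0 hw0)
    by_cases hR : Spor.FischerThm.RowAdd (π '' D)
    · exact first cu hR
    rcases good_cases g with k | k | ⟨F, _, _, h4, n, hn, e, he⟩
    · exact absurd (hrow k) hR
    · exact Or.inl (complement_of_central C cu (imgCentral_of_monPerp C f hker hcom k) hR)
    · refine unit_case C cu h2 hR h4 hn (e.toMonoidHom.comp f) (fun z hz => hker z (e.map_eq_one_iff.1 hz))
        (e.surjective.comp hsurj) (fun x hx y hy k => hcom x hx y hy (e.injective (by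
          rw [map_mul, map_mul]; exact k.eq))) (by rw [MonoidHom.coe_comp, Set.image_comp]; exact he)
        (hyp_map g.hyp e he (U6.roots_class' h4 hn))
  · obtain ⟨L, K, -⟩ := Spor.Triality.exists_cfg hE0 hc0 h20 h30 hconn
    have hS : ∀ [L.Normal], Nonempty ((H ⧸ Subgroup.center H) ⧸ L ≃* Equiv.Perm (Fin 3)) :=
      (Spor.Triality.classify_cfg K).1
    have cu := cu_disjoined C f hsurj hker hinj hcom rfl K hS
    by_cases hR : Spor.FischerThm.RowAdd (π '' D)
    · exact first cu hR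
    refine Or.inl (complement_of_central C cu (imgCentral_disjoined C f hsurj hker hinj hcom rfl K hS cu ?_) hR)
    intro w hwE
    rcases good_cases (K.good hwE) with k | k | ⟨F, _, _, h4, n, hn, e, he⟩
    · exact Or.inl k
    · exact Or.inr k
    · obtain ⟨x, hx, -⟩ := (Spor.Triality.emb_of_equiv e he).orbit K hwE
      exact absurd hx (Spor.Triality.psu_no_sw h4 (by omega) x)

/-- The dichotomy. -/
theorem dichotomy {G : Type u} [Group G] [Finite G] {D : Set G} (hD : IsThreeTranspositionClass D)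
    (hZ : Subgroup.center G = ⊥) (hF : generalizedFittingSubgroup G = pCore 2 G) :
    (IsElementaryAbelian 2 (pCore 2 G) ∧ ∃ K : Subgroup G, (pCore 2 G).IsComplement' K) ∨
      ∃ (F : Type) (_ : Field F) (_ : Fintype F), Fintype.card F = 4 ∧
        (Nonempty (G ⧸ pCore 2 G ≃* ↥(commutator ↥(SU 3 F 2))) ∨
          Nonempty (G ⧸ pCore 2 G ≃* ↥(SU 5 F 2)) ∨ Nonempty (G ⧸ pCore 2 G ≃* ↥(SU 7 F 2))) := by
  classical
  haveI : (pCore 2 G).Normal := Grp.pCore_isNormal
  haveI : Fact (Nat.Prime 3) := ⟨Nat.prime_three⟩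
  set π := QuotientGroup.mk' (pCore 2 G)
  have C := ctx_mk hD hZ hF
  have h2 := core_quot (G := G)
  by_cases hw : ∃ a ∈ π '' D, ∃ b ∈ π '' D, a ≠ b ∧ Commute a b
  · by_cases h3 : pCore 3 (G ⧸ pCore 2 G) ≤ Subgroup.center (G ⧸ pCore 2 G)
    · rcases pair_case C h2 h3 hw with k | ⟨F, iF, iT, h4, k⟩
      · exact Or.inl k
      · exact Or.inr ⟨F, iF, iT, h4, Or.inr k⟩
    · exact Or.inl (twins_case C (fun d hd => C.ne_one hd) h3 hw)
  · push Not at hw
    rcases apart_case C h2 hw with k | h54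
    · exact Or.inl k
    right
    obtain ⟨P⟩ : Nonempty (Sylow 3 (G ⧸ pCore 2 G)) := inferInstance
    have hP : Nat.card (P : Subgroup (G ⧸ pCore 2 G)) = 27 := by
      rw [P.card_eq_multiplicity, h54, show (54 : ℕ) = 2 * 3 ^ 3 by norm_num, Nat.factorization_mul (by norm_num)
        (by norm_num), Nat.Prime.factorization_pow Nat.prime_three, Nat.Prime.factorization Nat.prime_two]
      simp
    have hidx : (P : Subgroup (G ⧸ pCore 2 G)).index = 2 := by
      have := Subgroup.card_mul_index (P : Subgroup (G ⧸ pCore 2 G))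
      rw [hP, h54] at this
      omega
    have h2D : ∃ a ∈ D, ∃ b ∈ D, a ≠ b := by
      obtain ⟨_, ⟨a, ha, rfl⟩, _, ⟨b, hb, rfl⟩, hab⟩ := C.two_points h2
      exact ⟨a, ha, b, hb, fun e => hab (e ▸ rfl)⟩
    rcases Spor.HallOne.quotient_classification hD h2D hF
        ⟨P, Subgroup.normal_of_index_eq_two hidx, 1, hidx⟩ with ⟨⟨e⟩⟩ | ⟨F, iF, iT, h4, k⟩
    · have := Nat.card_congr e.toEquiv
      rw [h54, Nat.card_eq_fintype_card, Fintype.card_perm, Fintype.card_fin] at this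
      exact absurd this (by decide)
    · exact ⟨F, iF, iT, h4, Or.inl k⟩

end Cfsg.Agent.Fus.TwoRadical
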