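import Cfsg.Agent.Lib.Fus.TwoRadical.Base

/-!
The stabiliser of a point acts on its fibre group through the monodromies of the triangles at it.
-/

set_option autoImplicit false
set_option linter.unusedSectionVars false

namespace Cfsg.Agent.Fus.TwoRadical

open Cfsg Cfsg.Agent.Spor Cfsg.Agent.Fus.SUTwoRadical

variable {G H : Type*} [Group G] [Group H] {π : G →* H} {D : Set G}

/-- The elements turning round the triangles at `d`. -/
def Mon (D : Set G) (d : G) : Subgroup G :=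
  Subgroup.closure {g | ∃ e ∈ D, ∃ f ∈ D, ¬ Commute d e ∧ ¬ Commute e f ∧ ¬ Commute d f ∧ g = (f * d * e) ^ 2}

theorem tri_mem {d e f : G} (he : e ∈ D) (hf : f ∈ D) (a : ¬ Commute d e) (b : ¬ Commute e f)
    (c : ¬ Commute d f) : (f * d * e) ^ 2 ∈ Mon D d :=
  Subgroup.subset_closure ⟨e, he, f, hf, a, b, c, rfl⟩

/-- The values at `y` of the transport from `d`, up to monodromy. -/
def Val (π : G →* H) (D : Set G) (d y : G) (F : G → G) : Prop :=
  ∃ m ∈ Mon D d, (π y = π d ∧ ∀ a ∈ U π D (π d), F a = m * a * m⁻¹) ∨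
    (¬ Commute d y ∧ ∀ a ∈ U π D (π d), F a = psi y (m * a * m⁻¹)) ∨
    (π y ≠ π d ∧ Commute d y ∧ ∃ v ∈ D, ¬ Commute d v ∧ ¬ Commute v y ∧
      ∀ a ∈ U π D (π d), F a = psi y (psi v (m * a * m⁻¹)))

variable (h : Hyp π D) (cu : ∀ x ∈ π '' D, ∀ y ∈ π '' D, CU π D x y)
include h

theorem mon_commute {d m : G} (hd : d ∈ D) (hm : m ∈ Mon D d) : Commute m d := by
  have hle : Mon D d ≤ Subgroup.centralizer {d} := by
    refine (Subgroup.closure_le _).2 ?_
    rintro _ ⟨e, he, f, hf, a, b, c, rfl⟩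
    rw [SetLike.mem_coe, Subgroup.mem_centralizer_singleton_iff]
    refine mul_inv_eq_iff_eq_mul.1 ?_
    rw [pow_two, show f * d * e * (f * d * e) * d * (f * d * e * (f * d * e))⁻¹ =
      f * d * ((e * f) * ((d * e) * d * (d * e)⁻¹) * (e * f)⁻¹) * (f * d)⁻¹ by group,
      swap_conj h hd he a, swap_conj h he hf b, swap_conj h hf hd fun k => c k.symm]
  exact Subgroup.mem_centralizer_singleton_iff.1 (hle hm)

theorem mon_conj_U {d m a : G} (hd : d ∈ D) (hm : m ∈ Mon D d) (ha : a ∈ U π D (π d)) :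
    m * a * m⁻¹ ∈ U π D (π d) := by
  have := U_conj h m ha
  rwa [((mon_commute h hd hm).map π).eq, mul_inv_cancel_right] at this

include cu

/-- Going round a triangle. -/
theorem tri {d e f : G} (hd : d ∈ D) (he : e ∈ D) (hf : f ∈ D) (a1 : ¬ Commute d e) (a2 : ¬ Commute e f)
    (a3 : ¬ Commute d f) {a : G} (ha : a ∈ U π D (π d)) :
    psi f (psi e a) = psi f ((f * d * e) ^ 2 * a * ((f * d * e) ^ 2)⁻¹) := by
  have hm := mon_conj_U h hd (tri_mem he hf a1 a2 a3) ha
  rw [psi_eq_conj h cu he hf a2 (psi_apart h cu hd he a1 ha), psi_eq_conj h cu hd he a1 ha,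
    psi_eq_conj h cu hd hf a3 hm, pow_two,
    show d * f * (f * d * e * (f * d * e) * a * (f * d * e * (f * d * e))⁻¹) * (d * f)⁻¹ =
      d * (f * f) * d * (e * f * (d * e)) * a * (d * (f * f) * d * (e * f * (d * e)))⁻¹ by group,
    ThreeTrans.mul_self h.three hf, mul_one, ThreeTrans.mul_self h.three hd, one_mul]
  group

/-- Monodromy is moved along an edge. -/
theorem tri_move {d u e f : G} (hd : d ∈ D) (hu : u ∈ D) (he : e ∈ D) (hf : f ∈ D) (a0 : ¬ Commute d u)
    (a1 : ¬ Commute u e) (a2 : ¬ Commute e f) (a3 : ¬ Commute u f) :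
    ∃ m ∈ Mon D d, ∀ a ∈ U π D (π d),
      (f * u * e) ^ 2 * psi u a * ((f * u * e) ^ 2)⁻¹ = psi u (m * a * m⁻¹) := by
  set g := d * u with hg
  have hu' : g⁻¹ * u * g = d := by
    conv_lhs => rw [← swap_conj h hd hu a0, ← hg]
    group
  set e' := g⁻¹ * e * g with he'
  set f' := g⁻¹ * f * g with hf'
  have hD : ∀ {x : G}, x ∈ D → g⁻¹ * x * g ∈ D := fun {x} hx => by simpa using h.conj g⁻¹ x hx
  have hc : ∀ {x y : G}, ¬ Commute x y → ¬ Commute (g⁻¹ * x * g) (g⁻¹ * y * g) := fun {x y} k k' => k <| by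
    simpa [mul_assoc] using k'.map (MulAut.conj g).toMonoidHom
  have b1 : ¬ Commute d e' := hu' ▸ hc a1
  have b3 : ¬ Commute d f' := hu' ▸ hc a3
  have hm := tri_mem (hD he) (hD hf) b1 (hc a2) b3
  refine ⟨_, hm, fun a ha => ?_⟩
  rw [← he', ← hf'] at hm ⊢
  have e2 : (f * u * e) ^ 2 = g * (f' * d * e') ^ 2 * g⁻¹ := by
    rw [← hu', he', hf', pow_two, pow_two]
    group
  rw [psi_eq_conj h cu hd hu a0 ha, psi_eq_conj h cu hd hu a0 (mon_conj_U h hd hm ha), ← hg, e2]
  group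

/-- Two paths of length two to a point commuting with the first agree up to monodromy. -/
theorem two_paths {d y v v' : G} (hd : d ∈ D) (hy : y ∈ D) (hv : v ∈ D) (hv' : v' ∈ D) (hdy : Commute d y)
    (h1 : ¬ Commute d v) (h2 : ¬ Commute v y) (h3 : ¬ Commute d v') (h4 : ¬ Commute v' y) :
    ∃ m ∈ Mon D d, ∀ a ∈ U π D (π d), psi y (psi v a) = psi y (psi v' (m * a * m⁻¹)) := by
  have step : ∀ {u u' : G}, u ∈ D → u' ∈ D → ¬ Commute d u → ¬ Commute u y → ¬ Commute d u' →
      ¬ Commute u' y → ¬ Commute u u' →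
      ∃ m ∈ Mon D d, ∀ a ∈ U π D (π d), psi y (psi u a) = psi y (psi u' (m * a * m⁻¹)) := by
    intro u u' hu hu' a1 a2 a3 a4 a5
    obtain ⟨m', hm', k⟩ := tri_move h cu hd hu hu' hy a1 a5 a4 a2
    refine ⟨(u' * d * u) ^ 2 * m'⁻¹, mul_mem (tri_mem hu hu' a1 a5 a3) (inv_mem hm'), fun a ha => ?_⟩
    have hb := mon_conj_U h hd (inv_mem hm') ha
    have k' := k _ hb
    rw [show m' * (m'⁻¹ * a * m'⁻¹⁻¹) * m'⁻¹ = a by group] at k'
    rw [← k', ← tri h cu hu hu' hy a5 a4 a2 (psi_apart h cu hd hu a1 hb), tri h cu hd hu hu' a1 a5 a3 hb]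
    group
  by_cases hvv : Commute v v'
  · have hz := conj_mem' h hd hv
    obtain ⟨z1, z2⟩ := apart_conj h hd hv h1
    have z3 : ¬ Commute (v * d * v) y := fun k => h2 <| by
      rw [← ThreeTrans.braid h.three hd hv h1] at k
      have k' := k.map (MulAut.conj d).toMonoidHom
      have e : d * y * d = y := by rw [hdy.eq, mul_assoc, ThreeTrans.mul_self h.three hd, mul_one]
      simpa [ThreeTrans.inv_eq h.three hd, mul_assoc, ThreeTrans.mul_self_mul h.three hd,
        ThreeTrans.mul_self h.three hd, e] using k'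
    have z4 : ¬ Commute (v * d * v) v' := fun k => h3 <| by
      have k' := k.map (MulAut.conj v).toMonoidHom
      have e : v * v' * v = v' := by rw [hvv.eq, mul_assoc, ThreeTrans.mul_self h.three hv, mul_one]
      simpa [ThreeTrans.inv_eq h.three hv, mul_assoc, ThreeTrans.mul_self_mul h.three hv,
        ThreeTrans.mul_self h.three hv, e] using k'
    obtain ⟨m1, hm1, k1⟩ := step hv hz h1 h2 z1 z3 z2
    obtain ⟨m2, hm2, k2⟩ := step hz hv' z1 z3 h3 h4 z4
    refine ⟨m2 * m1, mul_mem hm2 hm1, fun a ha => ?_⟩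
    rw [k1 a ha, k2 _ (mon_conj_U h hd hm1 ha)]
    group
  · exact step hv hv' h1 h2 h3 h4 hvv

theorem val_mem {d y : G} {F : G → G} (hd : d ∈ D) (hy : y ∈ D) (hF : Val π D d y F) {a : G}
    (ha : a ∈ U π D (π d)) : F a ∈ U π D (π y) := by
  obtain ⟨m, hm, ⟨e, k⟩ | ⟨hn, k⟩ | ⟨-, -, v, hv, h1, h2, k⟩⟩ := hF <;> rw [k a ha]
  · rw [e]; exact mon_conj_U h hd hm ha
  · exact psi_apart h cu hd hy hn (mon_conj_U h hd hm ha)
  · exact psi_apart h cu hv hy h2 (psi_apart h cu hd hv h1 (mon_conj_U h hd hm ha))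

/-- Values are carried along apart pairs. -/
theorem val_step {d y g : G} {F : G → G} (hd : d ∈ D) (hy : y ∈ D) (hg : g ∈ D) (hyg : ¬ Commute y g)
    (hF : Val π D d y F) : Val π D d g (fun a => psi g (F a)) := by
  obtain ⟨m, hm, hF⟩ := hF
  have ham : ∀ {a : G}, a ∈ U π D (π d) → m * a * m⁻¹ ∈ U π D (π d) := fun ha => mon_conj_U h hd hm ha
  rcases hF with ⟨e, k⟩ | ⟨hn, k⟩ | ⟨-, hdy, v, hv, h1, h2, k⟩
  · refine ⟨m, hm, Or.inr (Or.inl ⟨fun k' => hyg (commute_image h hy hg (e ▸ k'.map π)), fun a ha => ?_⟩)⟩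
    simp only [k a ha]
  · by_cases e : π g = π d
    · refine ⟨m, hm, Or.inl ⟨e, fun a ha => ?_⟩⟩
      simp only [k a ha]
      rw [psi_congr h cu hy hd hg e (psi_apart h cu hd hy hn (ham ha)), psi_back h cu hd hy hn (ham ha)]
    by_cases hdg : Commute d g
    · refine ⟨m, hm, Or.inr (Or.inr ⟨e, hdg, y, hy, hn, hyg, fun a ha => ?_⟩)⟩
      simp only [k a ha]
    · refine ⟨(g * d * y) ^ 2 * m, mul_mem (tri_mem hy hg hn hyg hdg) hm, Or.inr (Or.inl ⟨hdg, fun a ha => ?_⟩)⟩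
      simp only [k a ha]
      rw [tri h cu hd hy hg hn hyg hdg (ham ha)]
      group
  · have e : π g ≠ π d := fun k' => hyg (commute_image h hy hg (k' ▸ hdy.symm.map π))
    by_cases hdg : Commute d g
    · have pick : ∃ u ∈ D, ¬ Commute d u ∧ ¬ Commute u y ∧ ¬ Commute u g := by
        by_cases hvg : Commute v g
        · refine ⟨y * v * y, conj_mem' h hv hy, fun k => h1 ?_, fun k => (apart_conj h hv hy h2).2 k.symm,
            fun k => hyg ?_⟩
          · have k' := k.map (MulAut.conj y).toMonoidHom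
            have e : y * d * y = d := by rw [← hdy.eq, mul_assoc, ThreeTrans.mul_self h.three hy, mul_one]
            simpa [ThreeTrans.inv_eq h.three hy, mul_assoc, ThreeTrans.mul_self_mul h.three hy,
              ThreeTrans.mul_self h.three hy, e] using k'
          · rw [ThreeTrans.braid h.three hy hv fun k => h2 k.symm] at k
            have k' := k.map (MulAut.conj v).toMonoidHom
            have e : v * g * v = g := by rw [hvg.eq, mul_assoc, ThreeTrans.mul_self h.three hv, mul_one]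
            simpa [ThreeTrans.inv_eq h.three hv, mul_assoc, ThreeTrans.mul_self_mul h.three hv,
              ThreeTrans.mul_self h.three hv, e] using k'
        · exact ⟨v, hv, h1, h2, hvg⟩
      obtain ⟨u, hu, u1, u2, u3⟩ := pick
      obtain ⟨m1, hm1, k1⟩ := two_paths h cu hd hy hv hu hdy h1 h2 u1 u2
      obtain ⟨m2, hm2, k2⟩ := tri_move h cu hd hu hy hg u1 u2 hyg u3
      refine ⟨m2 * (m1 * m), mul_mem hm2 (mul_mem hm1 hm),
        Or.inr (Or.inr ⟨e, hdg, u, hu, u1, u3, fun a ha => ?_⟩)⟩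
      have hb := mon_conj_U h hd hm1 (ham ha)
      simp only [k a ha]
      rw [k1 _ (ham ha), tri h cu hu hy hg u2 hyg u3 (psi_apart h cu hd hu u1 hb), k2 _ hb]
      group
    · obtain ⟨m1, hm1, k1⟩ := two_paths h cu hd hy hv hg hdy h1 h2 hdg fun k' => hyg k'.symm
      refine ⟨m1 * m, mul_mem hm1 hm, Or.inr (Or.inl ⟨hdg, fun a ha => ?_⟩)⟩
      have hb := mon_conj_U h hd hm1 (ham ha)
      simp only [k a ha]
      rw [k1 _ (ham ha), psi_back h cu hg hy (fun k' => hyg k'.symm) (psi_apart h cu hd hg hdg hb)]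
      group

/-- Values follow conjugation by members. -/
theorem val_conj {d y e : G} {F : G → G} (hd : d ∈ D) (hy : y ∈ D) (he : e ∈ D) (hF : Val π D d y F) :
    Val π D d (e * y * e) (fun a => e * F a * e) := by
  by_cases hc : Commute e y
  · have hfix : ∀ a ∈ U π D (π d), e * F a * e = F a := fun a ha => by
      rw [(U_fix h he (hc.map π) (val_mem h cu hd hy hF ha)).eq, mul_assoc, ThreeTrans.mul_self h.three he, mul_one]
    rw [show e * y * e = y by rw [hc.eq, mul_assoc, ThreeTrans.mul_self h.three he, mul_one]]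
    obtain ⟨m, hm, ⟨e', k⟩ | ⟨hn, k⟩ | ⟨r1, r2, v, hv, r3, r4, k⟩⟩ := hF
    · exact ⟨m, hm, Or.inl ⟨e', fun a ha => (hfix a ha).trans (k a ha)⟩⟩
    · exact ⟨m, hm, Or.inr (Or.inl ⟨hn, fun a ha => (hfix a ha).trans (k a ha)⟩)⟩
    · exact ⟨m, hm, Or.inr (Or.inr ⟨r1, r2, v, hv, r3, r4, fun a ha => (hfix a ha).trans (k a ha)⟩)⟩
  have hn : ¬ Commute y e := fun k => hc k.symm
  have hl : ∀ a ∈ U π D (π d), psi (e * y * e) (F a) = e * F a * e := fun a ha =>
    psi_line h cu hy he hn (val_mem h cu hd hy hF ha)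
  obtain ⟨m, hm, ⟨e', k⟩ | ⟨r1, k⟩ | ⟨r1, r2, v, hv, r3, r4, k⟩⟩ :=
    val_step h cu hd hy (conj_mem' h hy he) (apart_conj h hy he hn).1 hF
  · exact ⟨m, hm, Or.inl ⟨e', fun a ha => (hl a ha).symm.trans (k a ha)⟩⟩
  · exact ⟨m, hm, Or.inr (Or.inl ⟨r1, fun a ha => (hl a ha).symm.trans (k a ha)⟩)⟩
  · exact ⟨m, hm, Or.inr (Or.inr ⟨r1, r2, v, hv, r3, r4, fun a ha => (hl a ha).symm.trans (k a ha)⟩)⟩

/-- An element fixing a point acts on its group as a product of monodromies. -/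
theorem exists_mon (hgen : Subgroup.closure D = ⊤) {d : G} (hd : d ∈ D) {g : G}
    (hg : π g * π d * (π g)⁻¹ = π d) :
    ∃ m ∈ Mon D d, ∀ a ∈ U π D (π d), g * a * g⁻¹ = m * a * m⁻¹ := by
  have hall : ∀ t : G, ∀ y F, y ∈ D → Val π D d y F → Val π D d (t * y * t⁻¹) (fun a => t * F a * t⁻¹) := by
    intro t
    induction hgen ▸ Subgroup.mem_top t using Subgroup.closure_induction_left with
    | one => intro y F _ hF; simpa using hF
    | mul_left e he t _ ih =>
      intro y F hy hF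
      have := val_conj h cu hd (h.conj t y hy) he (ih y F hy hF)
      simpa [mul_assoc, ThreeTrans.inv_eq h.three he] using this
    | inv_mul_cancel e he t _ ih =>
      intro y F hy hF
      have := val_conj h cu hd (h.conj t y hy) he (ih y F hy hF)
      simpa [mul_assoc, ThreeTrans.inv_eq h.three he] using this
  have he : π (g * d * g⁻¹) = π d := by simpa using hg
  obtain ⟨m, hm, ⟨-, k⟩ | ⟨hn, -⟩ | ⟨hne, -⟩⟩ :=
    hall g d id hd ⟨1, one_mem _, Or.inl ⟨rfl, fun a _ => by simp⟩⟩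
  · exact ⟨m, hm, k⟩
  · exact (hn (commute_image h hd (h.conj g d hd) (by rw [he]))).elim
  · exact (hne he).elim

end Cfsg.Agent.Fus.TwoRadical
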