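import Cfsg.Agent.Lib.Fus.TwoRadical.Central

/-!
Turning triangles lying, up to the centre, in the group fixing the fibre of their first point.
-/

set_option autoImplicit false
set_option linter.style.haveILetI false
set_option linter.unusedSectionVars false

namespace Cfsg.Agent.Fus.TwoRadical

open Cfsg Cfsg.Agent.Spor Cfsg.Agent.Fus.SUTwoRadical

/-- A turning triangle lies in the group of the members commuting with its first point. -/
def MonPerp {K : Type*} [Group K] (E : Set K) : Prop :=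
  ∀ x ∈ E, ∀ e ∈ E, ∀ f ∈ E, ¬ Commute x e → ¬ Commute e f → ¬ Commute x f → ¬ Commute f (e * x * e) →
    (f * x * e) ^ 2 ∈ Subgroup.closure {z | z ∈ E ∧ Commute z x}

/-- The elements fixing the group of a fibre pointwise. -/
def Fix {G H : Type*} [Group G] [Group H] (π : G →* H) (D : Set G) (x : H) : Subgroup G where
  carrier := {t | ∀ a ∈ U π D x, t * a * t⁻¹ = a}
  one_mem' := fun a _ => by simp
  mul_mem' := fun {s t} hs ht a ha => by
    calc s * t * a * (s * t)⁻¹ = s * (t * a * t⁻¹) * s⁻¹ := by group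
      _ = a := by rw [ht a ha, hs a ha]
  inv_mem' := fun {t} ht => fix_inv ht

/-- The elements with central image. -/
def Pz {G H : Type*} [Group G] [Group H] (π : G →* H) : Subgroup G := (Subgroup.center H).comap π

variable {G : Type*} [Group G] [Finite G] {H : Type*} [Group H] [Finite H] {π : G →* H} {D : Set G}

instance : (Pz π).Normal := inferInstanceAs ((Subgroup.center H).comap π).Normal

theorem imgCentral_of_sup
    (hM : ∀ d ∈ D, ∀ e ∈ D, ∀ f ∈ D, ¬ Commute d e → ¬ Commute e f → ¬ Commute d f →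
      ¬ Commute (π f) (π e * π d * π e) → (f * d * e) ^ 2 ∈ Fix π D (π d) ⊔ Pz π) : ImgCentral π D := by
  intro d hd e he f hf a1 a2 a3 hc
  obtain ⟨t, ht, p, hp, htp⟩ := Subgroup.mem_sup_of_normal_right.1 (hM d hd e he f hf a1 a2 a3 hc)
  refine ⟨t, ht, ?_⟩
  rw [← htp, map_mul, inv_mul_cancel_left]
  exact hp

/-- Lifts of commuting members fix the fibre. -/
theorem mem_sup_of_closure (h : Hyp π D) {d : G} {L : Type*} [Group L] (φ : H →* L)
    (hker : ∀ z, φ z = 1 → z ∈ Subgroup.center H) {S : Set G} (hS : S ⊆ D)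
    (hcom : ∀ g ∈ S, Commute (φ (π g)) (φ (π d)) → Commute (π g) (π d)) {m : G}
    (hm : φ (π m) ∈ Subgroup.closure {z | z ∈ φ '' (π '' S) ∧ Commute z (φ (π d))}) :
    m ∈ Fix π D (π d) ⊔ Pz π := by
  have hle : Subgroup.closure {z | z ∈ φ '' (π '' S) ∧ Commute z (φ (π d))} ≤
      (Fix π D (π d)).map (φ.comp π) := (Subgroup.closure_le _).2 fun z hz => by
    obtain ⟨⟨_, ⟨g, hg, rfl⟩, rfl⟩, k⟩ := hz
    refine ⟨g, fun a ha => ?_, rfl⟩
    rw [(U_fix h (hS hg) (hcom g hg k) ha).eq, mul_inv_cancel_right]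
  obtain ⟨t, ht, et⟩ := hle hm
  rw [show m = t * (t⁻¹ * m) by group]
  refine Subgroup.mul_mem_sup ht (hker _ ?_)
  simp only [MonoidHom.coe_comp, Function.comp_apply] at et
  rw [map_mul, map_inv, map_mul, map_inv, et, inv_mul_cancel]

/-- The property of a central quotient gives central images. -/
theorem imgCentral_of_monPerp (C : Ctx π D) {L : Type*} [Group L] (φ : H →* L)
    (hker : ∀ z, φ z = 1 → z ∈ Subgroup.center H)
    (hcom : ∀ x ∈ π '' D, ∀ y ∈ π '' D, Commute (φ x) (φ y) → Commute x y)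
    (hM : MonPerp (φ '' (π '' D))) : ImgCentral π D := by
  have h := C.hyp
  refine imgCentral_of_sup fun d hd e he f hf a1 a2 a3 hc => ?_
  have ap : ∀ {a b : G}, a ∈ D → b ∈ D → ¬ Commute a b → ¬ Commute (φ (π a)) (φ (π b)) := fun ha hb hn k =>
    apart_image h ha hb hn (hcom _ ⟨_, ha, rfl⟩ _ ⟨_, hb, rfl⟩ k)
  refine mem_sup_of_closure h φ hker subset_rfl (fun g hg => hcom _ ⟨g, hg, rfl⟩ _ ⟨d, hd, rfl⟩) ?_
  have hm := hM _ ⟨_, ⟨d, hd, rfl⟩, rfl⟩ _ ⟨_, ⟨e, he, rfl⟩, rfl⟩ _ ⟨_, ⟨f, hf, rfl⟩, rfl⟩ (ap hd he a1)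
    (ap he hf a2) (ap hd hf a3) fun k => hc (hcom _ ⟨f, hf, rfl⟩ _ ⟨e * d * e, conj_mem' h hd he, by simp⟩
      (by simpa using k))
  simpa only [map_pow, map_mul] using hm

end Cfsg.Agent.Fus.TwoRadical
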