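import Cfsg.Agent.Lib.Fus.TwoRadical.Central
import Cfsg.Agent.Lib.Block.FischerTypes.M23Centralizer
import Cfsg.Agent.Lib.Block.FischerTypes.M24Centralizer
import Cfsg.Agent.Lib.Block.FischerTypes.M24Setting
import Cfsg.Agent.Lib.Spor.FischerThm.MCaseTwentyTwo

/-!
Turning triangles read in the centre-free top: there the square of the turn lies in the group of
the members commuting with the first, so upstairs it acts through a central element.
-/

set_option autoImplicit false
set_option linter.style.haveILetI false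
set_option linter.unusedSectionVars false

namespace Cfsg.Agent.Fus.TwoRadical

open Cfsg Cfsg.Agent.Spor Cfsg.Agent.Fus.SUTwoRadical

universe u v w

/-- Turning triangles act inside the group of the perpendicular. -/
def PerpMon {X : Type*} [Group X] (E : Set X) : Prop :=
  ∀ d ∈ E, ∀ e ∈ E, ∀ f ∈ E, ¬ Commute d e → ¬ Commute e f → ¬ Commute d f →
    ¬ Commute f (e * d * e) → (f * d * e) ^ 2 ∈ Subgroup.closure {y | y ∈ E ∧ Commute y d}

section
variable {G : Type u} [Group G] [Finite G] {H : Type v} [Group H] [Finite H] {π : G →* H} {D : Set G}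

/-- The top quotient decides that central images occur. -/
theorem imgCentral_of_perpMon (C : Ctx π D) {X : Type w} [Group X] (f : H →* X)
    (hker : ∀ z, f z = 1 → z ∈ Subgroup.center H)
    (hcom : ∀ x ∈ π '' D, ∀ y ∈ π '' D, Commute (f x) (f y) → Commute x y)
    (hP : PerpMon (f '' (π '' D))) : ImgCentral π D := by
  intro d hd e he f' hf' a1 a2 a3 hc
  have h := C.hyp
  have mem : ∀ {x : G}, x ∈ D → π x ∈ π '' D := fun hx => ⟨_, hx, rfl⟩
  have up : ∀ {x y : G}, x ∈ D → y ∈ D → ¬ Commute x y → ¬ Commute (f (π x)) (f (π y)) := fun hx hy hn k =>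
    hn (commute_image h hx hy (hcom _ (mem hx) _ (mem hy) k))
  have hm := hP _ ⟨_, mem hd, rfl⟩ _ ⟨_, mem he, rfl⟩ _ ⟨_, mem hf', rfl⟩ (up hd he a1) (up he hf' a2)
    (up hd hf' a3) fun k => hc <| hcom _ (mem hf') _ ⟨e * d * e, conj_mem' h hd he, by simp only [map_mul]⟩ <| by
      simpa only [map_mul] using k
  set S := Subgroup.closure {g : G | g ∈ D ∧ Commute (π g) (π d)}
  have hle : Subgroup.closure {y | y ∈ f '' (π '' D) ∧ Commute y (f (π d))} ≤ S.map (f.comp π) := by
    refine (Subgroup.closure_le _).2 ?_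
    rintro _ ⟨⟨_, ⟨g, hg, rfl⟩, rfl⟩, k⟩
    exact ⟨g, Subgroup.subset_closure ⟨hg, hcom _ (mem hg) _ (mem hd) k⟩, rfl⟩
  obtain ⟨r, hr, hr'⟩ := hle hm
  refine ⟨r, fun a ha => ?_, hker _ ?_⟩
  · have hS : S ≤ Subgroup.centralizer {a} := (Subgroup.closure_le _).2 fun g hg =>
      Subgroup.mem_centralizer_singleton_iff.2 (U_fix h hg.1 hg.2 ha).eq
    rw [Subgroup.mem_centralizer_singleton_iff.1 (hS hr), mul_inv_cancel_right]
  · have e' : f (π r) = (f (π f') * f (π d) * f (π e)) ^ 2 := hr'
    simp only [map_mul, map_inv, map_pow, e', inv_mul_cancel]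

end

section
variable {X : Type u} [Group X] {E : Set X}

theorem perpMon_of_rowAdd (hE : IsThreeTranspositionClass E) (hR : FischerThm.RowAdd E) : PerpMon E :=
  fun d hd e he f hf a1 a2 a3 hc => absurd (hR e he d hd (fun k => a1 k.symm) f hf (fun k => a2 k.symm)
    fun k => a3 k.symm) hc

variable [Finite X]

/-- Enough: the perpendicular generates the centraliser. -/
theorem perpMon_of_centralizer (hE : IsThreeTranspositionClass E)
    (hC : ∀ d ∈ E, Subgroup.centralizer ({d} : Set X) = Block.FischerTypes.PerpGroup E d) : PerpMon E := by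
  intro d hd e he f hf a1 a2 a3 _
  have h : Hyp (MonoidHom.id X) E := ⟨hE.1, fun g _ hx => ThreeTrans.conj_mem hE g hx, fun c hc =>
    ⟨0, by simpa using hc⟩⟩
  have hm := mon_commute h hd (tri_mem he hf a1 a2 a3)
  have hm' : (f * d * e) ^ 2 ∈ Block.FischerTypes.PerpGroup E d :=
    hC d hd ▸ Subgroup.mem_centralizer_singleton_iff.2 hm.eq
  refine Subgroup.closure_mono ?_ hm'
  exact fun y hy => ⟨hy.1, hy.2.2.symm⟩

open Block.FischerTypes FischerThm

theorem perpMon_m22 (g : Good E) (h : IsOfTypeM22 X E) : PerpMon E :=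
  perpMon_of_centralizer g.cls fun _ hd => M22.centralizer_eq (M22.ctx (good_group g) g.primitive h) hd

theorem perpMon_m23 (g : Good E) (h : IsOfTypeM23 X E) : PerpMon E :=
  perpMon_of_centralizer g.cls fun _ hd => M23.centralizer_eq (M23.base (good_group g) g.primitive h) hd

theorem perpMon_m24 (g : Good E) (h : IsOfTypeM24 X E) : PerpMon E :=
  perpMon_of_centralizer g.cls fun _ hd => M24.centralizer_eq (M24.base (good_group g) g.primitive h) hd

end

end Cfsg.Agent.Fus.TwoRadical
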