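import Cfsg.Agent.Lib.Fus.TwoRadical.PerpMon
import Cfsg.Agent.Lib.Spor.FischerThm.ReflModel

/-!
Turning triangles of projective reflection classes over the field of three elements: the first
vector and a totally singular plane; the turn squares to a Siegel map, a product of perpendicular
reflections from dimension six on, and in dimension five the plane gives twins below the member.
-/

set_option autoImplicit false
set_option linter.style.haveILetI false
set_option linter.unusedSectionVars false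

namespace Cfsg.Agent.Fus.TwoRadical

open Cfsg Cfsg.Agent.Spor Cfsg.Agent.Spor.FischerThm Cfsg.Agent.Spor.FischerThm.Q3

universe u

variable {n : ℕ}

/-- The reflection of a vector of norm one. -/
def mirror (Q : QuadraticForm (ZMod 3) (V n)) (x y : V n) : V n := y - B Q x y • x

/-- The Siegel map of `w` and `v`. -/
def siegel (Q : QuadraticForm (ZMod 3) (V n)) (w v x : V n) : V n :=
  x + B Q w x • v - B Q v x • w - (Q v * B Q w x) • w

variable (Q : QuadraticForm (ZMod 3) (V n))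

theorem siegel_add {w v v' : V n} (hw : Q w = 0) (hv' : B Q v' w = 0) (hv : B Q v w = 0) (x : V n) :
    siegel Q w v (siegel Q w v' x) = siegel Q w (v + v') x := by
  have hww : B Q w w = 0 := by rw [B_self, hw, mul_zero]
  have e1 : B Q w (siegel Q w v' x) = B Q w x := by
    simp only [siegel, B_sub_right, B_add_right, B_smul_right, hww, B_comm Q w v', hv']; ring
  have e2 : B Q v (siegel Q w v' x) = B Q v x + B Q w x * B Q v v' := by
    simp only [siegel, B_sub_right, B_add_right, B_smul_right, hv]; ring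
  rw [siegel, e1, e2, siegel, siegel, q_add, B_add_left]
  module

theorem siegel_self {w : V n} (hw : Q w = 0) (t : ZMod 3) (x : V n) : siegel Q w (t • w) x = x := by
  rw [siegel, q_smul, hw, B_smul_left]
  module

theorem mirror_pair {w v : V n} (hv : Q v = 1) (hvw : B Q v w = 0) (x : V n) :
    mirror Q v (mirror Q (v + w) x) = siegel Q w v x := by
  simp only [mirror, siegel, B_sub_right, B_smul_right, B_add_left, B_add_right, B_self, hv, hvw]
  module

/-- Twice the turn is a Siegel map. -/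
theorem turn_siegel {a w v : V n} (ha : Q a = 1) (hw : Q w = 0) (hv : Q v = 0) (haw : B Q a w = 0)
    (hav : B Q a v = 0) (hwv : B Q w v = 0) (x : V n) :
    mirror Q (a + v) (mirror Q a (mirror Q (a + w) (mirror Q (a + v) (mirror Q a (mirror Q (a + w) x))))) =
      siegel Q w v x := by
  set α := B Q a x
  set β := B Q w x
  set γ := B Q v x
  have haa : B Q a a = 2 := by rw [B_self, ha, mul_one]
  have hww : B Q w w = 0 := by rw [B_self, hw, mul_zero]
  have hvv : B Q v v = 0 := by rw [B_self, hv, mul_zero]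
  have sa : ∀ p q r : ZMod 3, mirror Q a (x + p • a + q • w + r • v) =
      x + (p - (α + p * 2)) • a + q • w + r • v := fun p q r => by
    simp only [mirror, B_add_right, B_smul_right, haa, haw, hav, α]
    module
  have sw : ∀ p q r : ZMod 3, mirror Q (a + w) (x + p • a + q • w + r • v) =
      x + (p - (α + p * 2 + β)) • a + (q - (α + p * 2 + β)) • w + r • v := fun p q r => by
    simp only [mirror, B_add_right, B_add_left, B_smul_right, haa, haw, hav, hww, hwv, B_comm Q w a, α, β]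
    module
  have sv : ∀ p q r : ZMod 3, mirror Q (a + v) (x + p • a + q • w + r • v) =
      x + (p - (α + p * 2 + γ)) • a + q • w + (r - (α + p * 2 + γ)) • v := fun p q r => by
    simp only [mirror, B_add_right, B_add_left, B_smul_right, haa, haw, hav, hvv, hwv, B_comm Q v a,
      B_comm Q v w, α, γ]
    module
  have key : ∀ α β γ p₁ p₂ p₃ p₄ p₅ p₆ : ZMod 3, p₁ = 0 - (α + 0 * 2 + β) → p₂ = p₁ - (α + p₁ * 2) →
      p₃ = p₂ - (α + p₂ * 2 + γ) → p₄ = p₃ - (α + p₃ * 2 + β) → p₅ = p₄ - (α + p₄ * 2) →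
      p₆ = p₅ - (α + p₅ * 2 + γ) → p₆ = 0 ∧
      0 - (α + 0 * 2 + β) - (α + p₃ * 2 + β) = -γ ∧ 0 - (α + p₂ * 2 + γ) - (α + p₅ * 2 + γ) = β := by
    have k : ∀ α β γ : ZMod 3,
        let p₁ := 0 - (α + 0 * 2 + β); let p₂ := p₁ - (α + p₁ * 2); let p₃ := p₂ - (α + p₂ * 2 + γ)
        let p₄ := p₃ - (α + p₃ * 2 + β); let p₅ := p₄ - (α + p₄ * 2); let p₆ := p₅ - (α + p₅ * 2 + γ)
        p₆ = 0 ∧ 0 - (α + 0 * 2 + β) - (α + p₃ * 2 + β) = -γ ∧
          0 - (α + p₂ * 2 + γ) - (α + p₅ * 2 + γ) = β := by decide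
    intro α β γ p₁ p₂ p₃ p₄ p₅ p₆ h1 h2 h3 h4 h5 h6
    subst h1 h2 h3 h4 h5 h6
    exact k α β γ
  conv_lhs => rw [show x = x + (0 : ZMod 3) • a + (0 : ZMod 3) • w + (0 : ZMod 3) • v by simp]
  rw [sw, sa, sv, sw, sa, sv]
  obtain ⟨k1, k2, k3⟩ := key α β γ _ _ _ _ _ _ rfl rfl rfl rfl rfl rfl
  rw [k1, k2, k3, siegel, hv]
  module

theorem two_eq_neg {u : V n} : u + u = -u :=
  funext fun i => (by decide : ∀ t : ZMod 3, t + t = -t) (u i)

variable {X : Type u} [Group X] {E : Set X} {pv : V n → X}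

/-- An element moves the points as a map moves the vectors. -/
def Acts (Q : QuadraticForm (ZMod 3) (V n)) (pv : V n → X) (g : X) (T : V n → V n) : Prop :=
  ∀ y, Q y = 1 → g * pv y * g⁻¹ = pv (T y) ∧ Q (T y) = 1

variable {Q}

theorem acts_mul {g g' : X} {T T' : V n → V n} (h : Acts Q pv g T) (h' : Acts Q pv g' T') :
    Acts Q pv (g * g') (T ∘ T') := fun y hy => by
  obtain ⟨e1, q1⟩ := h' y hy
  obtain ⟨e2, q2⟩ := h _ q1
  refine ⟨?_, q2⟩
  rw [Function.comp, ← e2, ← e1]
  group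

theorem acts_congr {g : X} {T T' : V n → V n} (h : Acts Q pv g T) (e : ∀ x, T x = T' x) : Acts Q pv g T' :=
  fun y hy => e y ▸ h y hy

theorem acts_mirror (R : RModel E Q pv) {x : V n} (hx : Q x = 1) : Acts Q pv (pv x) (mirror Q x) :=
  fun y hy => ⟨by rw [ThreeTrans.inv_eq R.cls.1 (R.mem x hx), R.conj x y hx hy]; rfl, R.q_move hx hy⟩

theorem acts_unique (R : RModel E Q pv) (hZ : Subgroup.center X = ⊥) {g g' : X} {T : V n → V n}
    (h : Acts Q pv g T) (h' : Acts Q pv g' T) : g = g' := by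
  have hle : Subgroup.closure E ≤ Subgroup.centralizer {g'⁻¹ * g} := (Subgroup.closure_le _).2 fun d hd => by
    obtain ⟨y, hy, rfl⟩ := R.surj d hd
    have e := (h y hy).1.trans (h' y hy).1.symm
    rw [SetLike.mem_coe, Subgroup.mem_centralizer_singleton_iff]
    calc pv y * (g'⁻¹ * g) = g'⁻¹ * (g' * pv y * g'⁻¹) * g := by group
      _ = g'⁻¹ * (g * pv y * g⁻¹) * g := by rw [e]
      _ = _ := by group
  have hc : g'⁻¹ * g ∈ Subgroup.center X := Subgroup.mem_center_iff.2 fun x =>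
    Subgroup.mem_centralizer_singleton_iff.1 (hle (R.cls.2.2 ▸ Subgroup.mem_top x))
  rw [hZ, Subgroup.mem_bot, inv_mul_eq_one] at hc
  exact hc.symm

/-- The Siegel map of `w` and `v` comes from perpendicular reflections. -/
def InPerp (Q : QuadraticForm (ZMod 3) (V n)) (pv : V n → X) (E : Set X) (a w v : V n) : Prop :=
  B Q v w = 0 ∧ ∃ g ∈ Subgroup.closure {y | y ∈ E ∧ Commute y (pv a)}, Acts Q pv g (siegel Q w v)

theorem InPerp.add {a w v v' : V n} (hw : Q w = 0) (h : InPerp Q pv E a w v) (h' : InPerp Q pv E a w v') :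
    InPerp Q pv E a w (v + v') := by
  obtain ⟨hv, g, hg, ha⟩ := h
  obtain ⟨hv', g', hg', ha'⟩ := h'
  exact ⟨by rw [B_add_left, hv, hv', add_zero], g * g', mul_mem hg hg',
    acts_congr (acts_mul ha ha') (siegel_add Q hw hv' hv)⟩

theorem InPerp.neg {a w v : V n} (hw : Q w = 0) (h : InPerp Q pv E a w v) : InPerp Q pv E a w (-v) :=
  two_eq_neg (u := v) ▸ h.add hw h

theorem inPerp_self {a w : V n} (hw : Q w = 0) (t : ZMod 3) : InPerp Q pv E a w (t • w) :=
  ⟨by rw [B_smul_left, B_self, hw, mul_zero, mul_zero], 1, one_mem _, fun y hy => by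
    rw [siegel_self Q hw]; exact ⟨by group, hy⟩⟩

theorem inPerp_unit (R : RModel E Q pv) {a w v : V n} (ha : Q a = 1) (hw : Q w = 0) (haw : B Q a w = 0)
    (hv : Q v = 1) (hav : B Q a v = 0) (hvw : B Q v w = 0) : InPerp Q pv E a w v := by
  have q1 : Q (v + w) = 1 := by rw [q_add, hv, hw, hvw, add_zero, add_zero]
  have c : ∀ y, Q y = 1 → B Q a y = 0 → pv y ∈ {y | y ∈ E ∧ Commute y (pv a)} := fun y hy hb =>
    ⟨R.mem y hy, (R.comm y a hy ha).2 (Or.inl (by rw [B_comm]; exact hb))⟩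
  exact ⟨hvw, pv v * pv (v + w), mul_mem (Subgroup.subset_closure (c v hv hav))
    (Subgroup.subset_closure (c _ q1 (by rw [B_add_right, hav, haw, add_zero]))),
    acts_congr (acts_mul (acts_mirror R hv) (acts_mirror R q1)) (mirror_pair Q hv hvw)⟩

/-- No orthogonal anisotropic list is longer than the dimension. -/
theorem no_long_list {k : ℕ} (hk : n < k) (e : Fin k → V n) (he : ∀ i, Q (e i) ≠ 0)
    (hperp : ∀ i j, i ≠ j → B Q (e i) (e j) = 0) : False := by
  have hinj : Function.Injective (Fintype.linearCombination (ZMod 3) e) := by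
    refine (injective_iff_map_eq_zero _).2 fun c hc => funext fun j => ?_
    have h := congrArg (fun z => (QuadraticMap.polarBilin Q (e j)) z) hc
    simp only [Fintype.linearCombination_apply, map_sum, map_smul, map_zero] at h
    rw [Finset.sum_eq_single j (fun i _ hij => by
      show _ • B Q (e j) (e i) = 0
      rw [hperp j i hij.symm, smul_zero]) (by simp)] at h
    have h' : c j * (2 * Q (e j)) = 0 := by rw [← B_self]; exact h
    exact (mul_eq_zero.1 h').resolve_right (mul_ne_zero (by decide) (he j))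
  have := LinearMap.finrank_le_finrank_of_injective hinj
  rw [Module.finrank_pi, Module.finrank_pi, Fintype.card_fin, Fintype.card_fin] at this
  omega

/-- A member, two hyperbolic pairs and the turning plane `w`, `w'`. -/
structure Frame (Q : QuadraticForm (ZMod 3) (V n)) (a w s w' s' : V n) : Prop where
  a1 : Q a = 1
  w0 : Q w = 0
  s0 : Q s = 0
  w0' : Q w' = 0
  s0' : Q s' = 0
  aw : B Q a w = 0
  az : B Q a s = 0
  aw' : B Q a w' = 0
  az' : B Q a s' = 0
  ws : B Q w s = 1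
  ws' : B Q w' s' = 1
  ww' : B Q w w' = 0
  wz' : B Q w s' = 0
  sw' : B Q s w' = 0
  sz' : B Q s s' = 0

/-- The five vectors of a frame. -/
theorem Frame.list {a w s w' s' : V n} (F : Frame Q a w s w' s') :
    ∃ e : Fin 5 → V n, (∀ i, Q (e i) ≠ 0) ∧ (∀ i j, i ≠ j → B Q (e i) (e j) = 0) ∧
      ∀ z, (∀ i, B Q (e i) z = 0) ↔
        B Q a z = 0 ∧ B Q w z = 0 ∧ B Q s z = 0 ∧ B Q w' z = 0 ∧ B Q s' z = 0 := by
  have := F.a1; have := F.w0; have := F.s0; have := F.w0'; have := F.s0'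
  have := F.aw; have := F.az; have := F.aw'; have := F.az'; have := F.ws; have := F.ws'
  have := F.ww'; have := F.wz'; have := F.sw'; have := F.sz'
  refine ⟨![a, w + s, w - s, w' + s', w' - s'], fun i => ?_, fun i j hij => ?_, fun z => ⟨fun h => ?_, ?_⟩⟩
  · fin_cases i <;> simp [q_add, q_sub, *] <;> decide
  · fin_cases i <;> fin_cases j <;> first | exact absurd rfl hij |
      (simp only [Fin.isValue, Fin.zero_eta, Fin.mk_one, Fin.reduceFinMk, Matrix.cons_val, Matrix.cons_val_zero,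
        Matrix.cons_val_one, B_add_left,
        B_add_right, B_sub_left, B_sub_right, B_self, B_comm Q w a, B_comm Q s a, B_comm Q w' a, B_comm Q s' a,
        B_comm Q s w, B_comm Q s' w', B_comm Q w' w, B_comm Q s' w, B_comm Q w' s, B_comm Q s' s, *]; ring)
  · have h0 : B Q a z = 0 := h 0
    have h1 : B Q (w + s) z = 0 := h 1
    have h2 : B Q (w - s) z = 0 := h 2
    have h3 : B Q (w' + s') z = 0 := h 3
    have h4 : B Q (w' - s') z = 0 := h 4
    rw [B_add_left] at h1 h3
    rw [B_sub_left] at h2 h4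
    have k : ∀ x y : ZMod 3, x + y = 0 → x - y = 0 → x = 0 ∧ y = 0 := by decide
    exact ⟨h0, (k _ _ h1 h2).1, (k _ _ h1 h2).2, (k _ _ h3 h4).1, (k _ _ h3 h4).2⟩
  · rintro ⟨h0, h1, h2, h3, h4⟩ i
    fin_cases i <;> simp [B_add_left, B_sub_left, *]

/-- A turning triangle gives a frame, with `f` moved along the first singular line. -/
theorem turn_frame (R : RModel E Q pv) {d e f : X} (hd : d ∈ E) (he : e ∈ E) (hf : f ∈ E)
    (a1 : ¬ Commute d e) (a2 : ¬ Commute e f) (a3 : ¬ Commute d f) (hc : ¬ Commute f (e * d * e)) :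
    ∃ a w s w' s' : V n, ∃ t : ZMod 3, Frame Q a w s w' s' ∧ d = pv a ∧ e = pv (a + w) ∧
      f = pv (a + (w' + t • w)) := by
  obtain ⟨a, ha, rfl⟩ := R.surj d hd
  have adj : ∀ y ∈ E, ¬ Commute (pv a) y →
      ∃ v, Q (a + v) = 1 ∧ Q v = 0 ∧ B Q a v = 0 ∧ y = pv (a + v) := by
    intro y hy hn
    obtain ⟨b, hb, rfl⟩ := R.surj y hy
    obtain ⟨b', hb', he', hB⟩ : ∃ b', Q b' = 1 ∧ pv b' = pv b ∧ B Q a b' = 2 := by
      rcases (by decide : ∀ t : ZMod 3, t = 0 ∨ t = 2 ∨ -t = 2) (B Q a b) with k | k | k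
      · exact absurd ((R.comm a b ha hb).2 (Or.inl k)) hn
      · exact ⟨b, hb, rfl, k⟩
      · exact ⟨-b, by rw [q_neg, hb], R.neg b, by rw [B_neg_right, k]⟩
    refine ⟨b' - a, ?_, ?_, ?_, ?_⟩
    · rw [add_sub_cancel, hb']
    · rw [q_sub, hb', ha, B_comm, hB]; decide
    · rw [B_sub_right, hB, B_self, ha]; ring
    · rw [add_sub_cancel, he']
  obtain ⟨w, qb, hw, haw, rfl⟩ := adj e he a1
  obtain ⟨v, qc, hv, hav, rfl⟩ := adj f hf a3
  have haa : B Q a a = 2 := by rw [B_self, ha, mul_one]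
  have hedge : B Q (a + w) (a + v) ≠ 0 := fun k => a2 ((R.comm _ _ qb qc).2 (Or.inl k))
  rw [B_add_left, B_add_right, B_add_right, haa, hav, B_comm Q w a, haw] at hedge
  have hede : pv (a + w) * pv a * pv (a + w) = pv (a - B Q (a + w) a • (a + w)) := R.conj _ _ qb ha
  have qm := R.q_move qb ha
  rw [hede] at hc
  have hapart : B Q (a + v) (a - B Q (a + w) a • (a + w)) ≠ 0 := fun k => hc ((R.comm _ _ qc qm).2 (Or.inl k))
  rw [B_sub_right, B_smul_right, B_add_right (y := a) (z := w), B_add_left, B_add_left, B_add_left, haa,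
    B_comm Q v a, hav, B_comm Q w a, haw, B_comm Q v w] at hapart
  have hwv : B Q w v = 0 := (by decide : ∀ b : ZMod 3, 2 + 0 + (0 + b) ≠ 0 →
    2 + 0 - (2 + 0) * (2 + 0 + (0 + b)) ≠ 0 → b = 0) _ hedge hapart
  have hw0 : w ≠ 0 := fun k => a1 (by rw [k, add_zero])
  obtain ⟨s, hs, hws, hsa⟩ := exists_partner Q R.nd ![a] (by simp [ha])
    (fun i j h => absurd (Subsingleton.elim i j) h) hw0 hw (by simp [haw])
  have hsa : B Q a s = 0 := hsa 0
  have hindep : ∀ t : ZMod 3, v ≠ t • w := by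
    intro t k
    rcases (by decide : ∀ t : ZMod 3, t = 0 ∨ t = 1 ∨ t = -1) t with rfl | rfl | rfl
    · exact a3 (by rw [k, zero_smul, add_zero])
    · exact a2 (by rw [k, one_smul])
    · refine hc (Commute.symm ?_)
      have e1 : a - B Q (a + w) a • (a + w) = -(a + v) := by
        rw [B_add_left, haa, B_comm Q w a, haw, k]
        funext i
        simp only [Pi.add_apply, Pi.sub_apply, Pi.neg_apply, Pi.smul_apply, smul_eq_mul]
        exact (by decide : ∀ p q : ZMod 3, p - (2 + 0) * (p + q) = -(p + -1 * q)) _ _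
      rw [e1, R.neg]
  set t := B Q s v
  set w' := v - t • w with hw'
  have hw'0 : w' ≠ 0 := sub_ne_zero.2 (hindep t)
  have q' : Q w' = 0 := by rw [hw', q_sub, hv, q_smul, hw, B_smul_right, B_comm, hwv]; ring
  have aw' : B Q a w' = 0 := by rw [hw', B_sub_right, B_smul_right, hav, haw]; ring
  have ww' : B Q w w' = 0 := by rw [hw', B_sub_right, B_smul_right, hwv, B_self, hw]; ring
  have sw' : B Q s w' = 0 := by rw [hw', B_sub_right, B_smul_right, B_comm Q s w, hws]; ring
  obtain ⟨s', hs', hws', hsa'⟩ := exists_partner Q R.nd ![a, w + s, w - s]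
    (fun i => by fin_cases i <;> simp [q_add, q_sub, ha, hw, hs, hws] <;> decide)
    (fun i j hij => by
      fin_cases i <;> fin_cases j <;> first | exact absurd rfl hij |
        (simp only [Fin.isValue, Fin.zero_eta, Fin.mk_one, Fin.reduceFinMk, Matrix.cons_val, Matrix.cons_val_zero,
        Matrix.cons_val_one, B_add_left,
          B_add_right, B_sub_left, B_sub_right, B_self, B_comm Q w a, B_comm Q s a, B_comm Q s w, hw, hs, haw,
          hsa, hws]; ring))
    hw'0 q' (fun i => by fin_cases i <;> simp [B_add_left, B_sub_left, aw', ww', sw'])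
  have z1 : B Q (w + s) s' = 0 := hsa' 1
  have z2 : B Q (w - s) s' = 0 := hsa' 2
  rw [B_add_left] at z1
  rw [B_sub_left] at z2
  have k : ∀ x y : ZMod 3, x + y = 0 → x - y = 0 → x = 0 ∧ y = 0 := by decide
  obtain ⟨z1, z2⟩ := k _ _ z1 z2
  exact ⟨a, w, s, w', s', t, ⟨ha, hw, hs, q', hs', haw, hsa, aw', hsa' 0, hws, hws', ww', z1, sw', z2⟩,
    rfl, rfl, by rw [hw', sub_add_cancel]⟩

/-- From dimension six on the plane is reached by perpendicular reflections. -/
theorem Frame.inPerp (R : RModel E Q pv) (hn : 6 ≤ n) {a w s w' s' : V n} (F : Frame Q a w s w' s') :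
    InPerp Q pv E a w w' := by
  obtain ⟨e, he, hp, hiff⟩ := F.list
  obtain ⟨z, hz, hze⟩ := ReflThree.exists_perp Q (by decide) R.nd (k := 5) (by rw [Fintype.card_fin]; omega) e he hp
  obtain ⟨az, wz, -, wz', sz'⟩ := (hiff z).1 hze
  have sw : B Q s' w = 0 := by rw [B_comm]; exact F.wz'
  have w'w : B Q w' w = 0 := by rw [B_comm]; exact F.ww'
  have zw : B Q z w = 0 := by rw [B_comm]; exact wz
  have unit : ∀ v, Q v = 1 → B Q a v = 0 → B Q v w = 0 → InPerp Q pv E a w v := fun v h1 h2 h3 =>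
    inPerp_unit R F.a1 F.w0 F.aw h1 h2 h3
  rcases (by decide : ∀ t : ZMod 3, t ≠ 0 → t = 1 ∨ t = 2) _ hz with q | q
  · have h := (unit (z + w') (by rw [q_add, q, F.w0', B_comm, wz']; ring)
      (by rw [B_add_right, az, F.aw', add_zero]) (by rw [B_add_left, zw, w'w, add_zero])).add F.w0
      ((unit z q az zw).neg F.w0)
    rwa [add_comm z w', add_neg_cancel_right] at h
  · have h1 := unit (w' + s') (by rw [q_add, F.w0', F.s0', F.ws']; ring)
      (by rw [B_add_right, F.aw', F.az', add_zero]) (by rw [B_add_left, w'w, sw, add_zero])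
    have hh : ∀ y, Q y = 2 → B Q a y = 0 → B Q y w = 0 → B Q w' y = 0 → B Q s' y = 0 →
        InPerp Q pv E a w (y + (w' - s')) := fun y qy ay yw wy sy => by
      refine unit _ ?_ ?_ ?_
      · rw [q_add, qy, q_sub, F.w0', F.s0', F.ws', B_sub_right, B_comm Q y w', B_comm Q y s', wy, sy]; decide
      · rw [B_add_right, B_sub_right, ay, F.aw', F.az']; ring
      · rw [B_add_left, B_sub_left, yw, w'w, sw]; ring
    have h := ((hh z q az zw wz' sz').add F.w0 (hh (-z) (by rw [q_neg, q]) (by rw [B_neg_right, az, neg_zero])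
      (by rw [B_neg_left, zw, neg_zero]) (by rw [B_neg_right, wz', neg_zero])
      (by rw [B_neg_right, sz', neg_zero]))).add F.w0 (h1.neg F.w0)
    convert h using 1
    funext i
    simp only [Pi.add_apply, Pi.sub_apply, Pi.neg_apply]
    exact (by decide : ∀ p q r : ZMod 3, p = r + (p - q) + (-r + (p - q)) + -(p + q)) _ _ _

theorem perpMon_rmodel (R : RModel E Q pv) (hZ : Subgroup.center X = ⊥) (hn : 6 ≤ n) : PerpMon E := by
  intro d hd e he f hf a1 a2 a3 hc
  obtain ⟨a, w, s, w', s', t, F, rfl, rfl, rfl⟩ := turn_frame R hd he hf a1 a2 a3 hc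
  obtain ⟨hB, g, hg, hT⟩ := (F.inPerp R hn).add F.w0 (inPerp_self (pv := pv) (E := E) (a := a) F.w0 t)
  have qv : Q (w' + t • w) = 0 := by
    rw [q_add, F.w0', q_smul, F.w0, B_smul_right, B_comm, F.ww']; ring
  have hav : B Q a (w' + t • w) = 0 := by rw [B_add_right, B_smul_right, F.aw', F.aw]; ring
  have hwv : B Q w (w' + t • w) = 0 := by rw [B_comm]; exact hB
  have qb : Q (a + w) = 1 := by rw [q_add, F.a1, F.w0, F.aw]; ring
  have qc : Q (a + (w' + t • w)) = 1 := by rw [q_add, F.a1, qv, hav]; ring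
  have h1 := acts_mul (acts_mul (acts_mirror R qc) (acts_mirror R F.a1)) (acts_mirror R qb)
  have h2 := acts_congr (acts_mul h1 h1) fun x => turn_siegel Q F.a1 F.w0 qv F.aw hav hwv x
  rw [pow_two, acts_unique R hZ h2 hT]
  exact hg

/-- In dimension five a turn would leave twins below the member. -/
theorem no_turn_five [Finite X] {Q : QuadraticForm (ZMod 3) (V 5)} {pv : V 5 → X} (R : RModel E Q pv)
    (S : Block.FischerTypes.Setting E) {d e f : X} (hd : d ∈ E) (he : e ∈ E) (hf : f ∈ E)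
    (a1 : ¬ Commute d e) (a2 : ¬ Commute e f) (a3 : ¬ Commute d f) : Commute f (e * d * e) := by
  by_contra hc
  obtain ⟨a, w, s, w', s', t, F, rfl, -, -⟩ := turn_frame R hd he hf a1 a2 a3 hc
  obtain ⟨l, hl, hlp, hiff⟩ := F.list
  have zero : ∀ z, B Q a z = 0 → B Q w z = 0 → B Q s z = 0 → B Q w' z = 0 → B Q s' z = 0 → z = 0 := by
    intro z h0 h1 h2 h3 h4
    by_contra hz
    have hzl := (hiff z).2 ⟨h0, h1, h2, h3, h4⟩
    have six : ∀ y, Q y ≠ 0 → (∀ i, B Q (l i) y = 0) → False := fun y qy hy =>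
      no_long_list (Q := Q) (by norm_num : 5 < 5 + 1) (Fin.snoc l y) (snoc_list Q hl hlp qy hy).1
        (snoc_list Q hl hlp qy hy).2
    by_cases qz : Q z = 0
    · obtain ⟨u, qu, hzu, hlu⟩ := exists_partner Q R.nd l hl hlp hz qz hzl
      exact six (z + u) (by rw [q_add, qz, qu, hzu]; decide) fun i => by rw [B_add_right, hzl, hlu, add_zero]
    · exact six z qz hzl
  have qx : Q (w + s) = 1 := by rw [q_add, F.w0, F.s0, F.ws]; ring
  have qx' : Q (w' + s') = 1 := by rw [q_add, F.w0', F.s0', F.ws']; ring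
  have dist : ∀ {x y}, Q x = 1 → Q y = 1 → B Q x y = 0 → pv x ≠ pv y := fun {x y} hx hy hb k => by
    rcases R.inj x y hx hy k with rfl | rfl
    · rw [B_self, hx] at hb; exact absurd hb (by decide)
    · rw [B_neg_left, B_self, hy] at hb; exact absurd hb (by decide)
  have hax : B Q a (w + s) = 0 := by rw [B_add_right, F.aw, F.az, add_zero]
  have hax' : B Q a (w' + s') = 0 := by rw [B_add_right, F.aw', F.az', add_zero]
  have hxx : B Q (w + s) (w' + s') = 0 := by
    rw [B_add_left, B_add_right, B_add_right, F.ww', F.wz', F.sw', F.sz']; ring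
  have hu : pv (w + s) ∈ ThreeTrans.perp E (pv a) := ⟨R.mem _ qx, (dist F.a1 qx hax).symm,
    (R.comm _ _ F.a1 qx).2 (Or.inl hax)⟩
  have hv : pv (w' + s') ∈ ThreeTrans.perp E (pv a) := ⟨R.mem _ qx', (dist F.a1 qx' hax').symm,
    (R.comm _ _ F.a1 qx').2 (Or.inl hax')⟩
  have tw : ∀ y, Q y = 1 → B Q a y = 0 →
      (Commute (pv (w + s)) (pv y) ↔ Commute (pv (w' + s')) (pv y)) := by
    intro y qy hay
    obtain ⟨p, hp⟩ : ∃ p, p = B Q s y := ⟨_, rfl⟩
    obtain ⟨q, hq⟩ : ∃ q, q = B Q w y := ⟨_, rfl⟩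
    obtain ⟨p', hp'⟩ : ∃ p', p' = B Q s' y := ⟨_, rfl⟩
    obtain ⟨q', hq'⟩ : ∃ q', q' = B Q w' y := ⟨_, rfl⟩
    have hy : y = p • w + q • s + p' • w' + q' • s' := sub_eq_zero.1 <| by
      refine zero _ ?_ ?_ ?_ ?_ ?_ <;>
        simp only [B_sub_right, B_add_right, B_smul_right, B_self, F.w0, F.s0, F.w0', F.s0', F.aw, F.az, F.aw',
          F.az', F.ws, F.ws', F.ww', F.wz', F.sw', F.sz', hay, ← hp, ← hq, ← hp', ← hq', B_comm Q s w,
          B_comm Q s' w', B_comm Q w' w, B_comm Q s' w, B_comm Q w' s, B_comm Q s' s] <;> ring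
    have hnorm : p * q + p' * q' = 1 := by
      rw [← qy, hy]
      simp only [q_add, q_smul, B_add_left, B_smul_left, B_smul_right, F.w0, F.s0, F.w0', F.s0', F.ws, F.ws',
        F.ww', F.wz', F.sw', F.sz']
      ring
    have cx : Commute (pv (w + s)) (pv y) ↔ p + q = 0 ∨ (p = q ∧ p' = 0 ∧ q' = 0) := by
      rw [R.comm _ _ qx qy, B_add_left, ← hp, ← hq, add_comm q p]
      refine or_congr Iff.rfl ⟨fun k => ?_, fun ⟨e1, e2, e3⟩ => ?_⟩
      · obtain ⟨σ, k⟩ : ∃ σ : ZMod 3, y = σ • (w + s) := by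
          rcases R.inj _ _ qx qy k with k | k
          · exact ⟨1, by rw [one_smul, k]⟩
          · exact ⟨-1, by rw [neg_one_smul, k, neg_neg]⟩
        rw [hp, hq, hp', hq', k]
        simp [B_smul_right, B_add_right, B_self, F.w0, F.s0, B_comm Q s w, F.ws, B_comm Q s' w, F.wz',
          B_comm Q s' s, F.sz', B_comm Q w' w, F.ww', B_comm Q w' s, F.sw']
      · rw [hy, e2, e3, ← e1, zero_smul, zero_smul, add_zero, add_zero, ← smul_add]
        rw [e2, e3, mul_zero, add_zero, ← e1] at hnorm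
        rcases (by decide : ∀ t : ZMod 3, t * t = 1 → t = 1 ∨ t = -1) p hnorm with k | k <;> rw [k]
        · rw [one_smul]
        · rw [neg_one_smul, R.neg]
    have cx' : Commute (pv (w' + s')) (pv y) ↔ p' + q' = 0 ∨ (p' = q' ∧ p = 0 ∧ q = 0) := by
      rw [R.comm _ _ qx' qy, B_add_left, ← hp', ← hq', add_comm q' p']
      refine or_congr Iff.rfl ⟨fun k => ?_, fun ⟨e1, e2, e3⟩ => ?_⟩
      · obtain ⟨σ, k⟩ : ∃ σ : ZMod 3, y = σ • (w' + s') := by
          rcases R.inj _ _ qx' qy k with k | k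
          · exact ⟨1, by rw [one_smul, k]⟩
          · exact ⟨-1, by rw [neg_one_smul, k, neg_neg]⟩
        rw [hp, hq, hp', hq', k]
        simp [B_smul_right, B_add_right, B_self, F.w0', F.s0', B_comm Q s' w', F.ws', F.wz', F.sz', F.ww', F.sw']
      · rw [hy, e2, e3, ← e1, zero_smul, zero_smul, zero_add, zero_add, ← smul_add]
        rw [e2, e3, mul_zero, zero_add, ← e1] at hnorm
        rcases (by decide : ∀ t : ZMod 3, t * t = 1 → t = 1 ∨ t = -1) p' hnorm with k | k <;> rw [k]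
        · rw [one_smul]
        · rw [neg_one_smul, R.neg]
    rw [cx, cx']
    exact (by decide : ∀ p q p' q' : ZMod 3, p * q + p' * q' = 1 →
      (p + q = 0 ∨ (p = q ∧ p' = 0 ∧ q' = 0) ↔ p' + q' = 0 ∨ (p' = q' ∧ p = 0 ∧ q = 0))) p q p' q' hnorm
  open Block.FischerTypes in
  refine dist qx qx' hxx (pr_injective S.cls S.tf hd hu hv (S.qtf hd _ _
    ⟨⟨_, hu, rfl⟩, ⟨_, hv, rfl⟩, fun z hz => ?_⟩))
  obtain ⟨u, hu', rfl⟩ := Block.FischerTypes.exists_of_mem hz
  obtain ⟨y, qy, rfl⟩ := R.surj u hu'.1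
  have hay : B Q a y = 0 := ((R.comm a y F.a1 qy).1 hu'.2.2).resolve_right fun k => hu'.2.1 k.symm
  open Block.FischerTypes in
  exact ⟨fun k => commute_pr hv hu' ((tw y qy hay).1 (commute_of_pr S.cls S.tf hd hu hu' k)),
    fun k => commute_pr hu hu' ((tw y qy hay).2 (commute_of_pr S.cls S.tf hd hv hu' k))⟩

end Cfsg.Agent.Fus.TwoRadical
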