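import Cfsg.Agent.Lib.Fus.TwoRadical.Twins
import Cfsg.Agent.Lib.Spor.FischerTrichotomy

/-!
The setting of the dichotomy, the case of pairwise apart points, and the quotient by a centre
holding all of the 3-core.
-/

set_option autoImplicit false
set_option linter.style.haveILetI false
set_option linter.unusedSectionVars false

namespace Cfsg.Agent.Fus.TwoRadical

open Cfsg Cfsg.Agent.Spor Cfsg.Agent.Fus.SUTwoRadical

universe u

variable {G : Type u} [Group G] [Finite G] {D : Set G} [(pCore 2 G).Normal]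

/-- The quotient map by the radical satisfies the standing hypotheses. -/
theorem ctx_mk (hD : IsThreeTranspositionClass D) (hZ : Subgroup.center G = ⊥)
    (hF : generalizedFittingSubgroup G = pCore 2 G) : Ctx (QuotientGroup.mk' (pCore 2 G)) D :=
  ⟨hD, hZ, fun c => QuotientGroup.eq_one_iff c, QuotientGroup.mk'_surjective _,
    hF ▸ Grp.centralizer_gfitting_le (G := G)⟩

theorem core_quot : pCore 2 (G ⧸ pCore 2 G) = ⊥ := by
  haveI : Fact (Nat.Prime 2) := ⟨Nat.prime_two⟩
  haveI : (pCore 2 (G ⧸ pCore 2 G)).Normal := Grp.pCore_isNormal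
  have hle : (pCore 2 (G ⧸ pCore 2 G)).comap (QuotientGroup.mk' (pCore 2 G)) ≤ pCore 2 G := by
    refine Grp.le_pCore inferInstance fun g => ?_
    obtain ⟨k, hk⟩ := Transfer.pCore_isPGroup 2 _ ⟨QuotientGroup.mk' (pCore 2 G) g, g.2⟩
    have h1 : (g : G) ^ 2 ^ k ∈ pCore 2 G := (QuotientGroup.eq_one_iff _).1 (congrArg Subtype.val hk)
    obtain ⟨j, hj⟩ := Transfer.pCore_isPGroup 2 G ⟨_, h1⟩
    exact ⟨k + j, Subtype.ext (by rw [pow_add, pow_mul]; simpa using congrArg Subtype.val hj)⟩
  rw [eq_bot_iff]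
  intro x hx
  obtain ⟨g, rfl⟩ := QuotientGroup.mk'_surjective _ x
  exact (QuotientGroup.eq_one_iff g).2 (hle hx)

variable {H : Type*} [Group H] [Finite H] {π : G →* H}

theorem Ctx.ne_one (C : Ctx π D) {d : G} (hd : d ∈ D) : π d ≠ 1 := fun e => by
  have hall : Subgroup.closure D ≤ π.ker := (Subgroup.closure_le _).2 fun x hx => by
    obtain ⟨g, rfl⟩ := ThreeTrans.transitive C.cls hd hx
    simp [e]
  obtain ⟨d0, hd0, -⟩ := C.cls.2.1
  have hQ : pCore 2 G = ⊤ := eq_top_iff.2 fun g _ => (C.ker g).1 (hall (C.cls.2.2 ▸ Subgroup.mem_top g))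
  haveI : Fact (Nat.Prime 2) := ⟨Nat.prime_two⟩
  haveI : Nontrivial G := ⟨⟨d, 1, ThreeTrans.ne_one C.cls.1 hd⟩⟩
  have hG : IsPGroup 2 G := (hQ ▸ Transfer.pCore_isPGroup 2 G : IsPGroup 2 (⊤ : Subgroup G)).of_equiv Subgroup.topEquiv
  exact Subgroup.nontrivial_iff_ne_bot _ |>.1 hG.center_nontrivial C.cen

theorem Ctx.two_points (C : Ctx π D) (h2 : pCore 2 H = ⊥) : ∃ a ∈ π '' D, ∃ b ∈ π '' D, a ≠ b := by
  by_contra hno
  push Not at hno
  obtain ⟨d, hd, -⟩ := C.cls.2.1
  haveI : Fact (Nat.Prime 2) := ⟨Nat.prime_two⟩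
  have htop : (⊤ : Subgroup H) ≤ Subgroup.zpowers (π d) := by
    rw [← (C.cls' fun _ h => C.ne_one h).2.2, Subgroup.closure_le]
    exact fun x hx => (hno x hx _ ⟨d, hd, rfl⟩) ▸ Subgroup.mem_zpowers _
  have hd2 : π d ^ 2 = 1 := by rw [← map_pow, pow_two, ThreeTrans.mul_self C.cls.1 hd, map_one]
  have hp : IsPGroup 2 (⊤ : Subgroup H) := fun g => by
    obtain ⟨i, hi⟩ := Subgroup.mem_zpowers_iff.1 (htop g.2)
    refine ⟨1, Subtype.ext ?_⟩
    rw [Subgroup.coe_pow, ← hi, pow_one, ← zpow_natCast, ← _root_.zpow_mul, mul_comm, _root_.zpow_mul,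
      zpow_natCast, hd2, one_zpow]
    rfl
  exact C.ne_one hd (Subgroup.mem_bot.1 (h2 ▸ Grp.le_pCore inferInstance hp (Subgroup.mem_top _)))

/-- Pairwise apart points: the quotient has order 6 or 54. -/
theorem apart_case (C : Ctx π D) (h2 : pCore 2 H = ⊥)
    (hap : ∀ a ∈ π '' D, ∀ b ∈ π '' D, a ≠ b → ¬ Commute a b) :
    (IsElementaryAbelian 2 (pCore 2 G) ∧ ∃ K : Subgroup G, (pCore 2 G).IsComplement' K) ∨ Nat.card H = 54 := by
  classical
  haveI : Fact (Nat.Prime 3) := ⟨Nat.prime_three⟩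
  have hE := C.cls' fun _ h => C.ne_one h
  obtain ⟨h6 | h54, -⟩ := closed_small C (S := π '' D) subset_rfl hap
    (fun x hx y hy => by simpa [ThreeTrans.inv_eq hE.1 hx] using ThreeTrans.conj_mem hE x hy) (C.two_points h2)
  swap
  · right
    rw [hE.2.2, Nat.card_congr Subgroup.topEquiv.toEquiv] at h54
    exact h54
  left
  rw [hE.2.2, Nat.card_congr Subgroup.topEquiv.toEquiv] at h6
  have hR : Spor.FischerThm.RowAdd (π '' D) := by
    intro a ha b hb hab f hf hfa hfb
    have hfab : f = a * b * a := by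
      by_contra hne
      -- four different involutions in a group of order six
      have hc : a * b * a ∈ π '' D := by simpa [ThreeTrans.inv_eq hE.1 ha] using ThreeTrans.conj_mem hE a hb
      letI := Fintype.ofFinite H
      have hsub : ({a, b, a * b * a, f, 1, a * b, b * a} : Finset H) ⊆ (Finset.univ : Finset H) :=
        Finset.subset_univ _
      have aa := ThreeTrans.mul_self hE.1 ha
      have bb := ThreeTrans.mul_self hE.1 hb
      have n1 : a ≠ b := fun e => hab (e ▸ Commute.refl a)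
      have n2 : a * b * a ≠ a := fun e => n1 (by
        have := congrArg (fun z => a * z * a) e
        simpa [mul_assoc, aa, ThreeTrans.mul_self_mul hE.1 ha] using this.symm)
      have n3 : a * b * a ≠ b := fun e => hab (show a * b = b * a by
        have := congrArg (· * a) e
        simpa [mul_assoc, aa] using this)
      have ord : ∀ {x : H}, x ∈ π '' D → x * x = 1 ∧ x ≠ 1 := fun hx =>
        ⟨ThreeTrans.mul_self hE.1 hx, ThreeTrans.ne_one hE.1 hx⟩
      have p1 : (a * b) ^ 3 = 1 := (hE.1.2 a ha b hb).resolve_left fun k => hab (by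
        have e' : a * b = (a * b)⁻¹ := eq_inv_of_mul_eq_one_left (by rwa [← pow_two])
        rwa [mul_inv_rev, ThreeTrans.inv_eq hE.1 ha, ThreeTrans.inv_eq hE.1 hb] at e')
      have h1ab : a * b ≠ 1 := fun e => n1 (by rw [eq_inv_of_mul_eq_one_left e, ThreeTrans.inv_eq hE.1 hb])
      have hinv : ∀ {x : H}, x ∈ π '' D → x ≠ a * b ∧ x ≠ b * a := fun {x} hx => by
        refine ⟨fun e => h1ab ?_, fun e => h1ab ?_⟩
        · rw [pow_succ, pow_two, ← e, (ord hx).1, one_mul] at p1
          rwa [← e]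
        · have e2 : (a * b) ^ 2 = 1 := by
            have : a * b = x⁻¹ := by rw [e, mul_inv_rev, ThreeTrans.inv_eq hE.1 ha, ThreeTrans.inv_eq hE.1 hb]
            rw [this, pow_two, ← mul_inv_rev, (ord hx).1, inv_one]
          rwa [pow_succ, e2, one_mul] at p1
      have hba : a * b ≠ b * a := fun e => hab e
      have hba1 : b * a ≠ 1 := fun e => n1 (by rw [eq_inv_of_mul_eq_one_right e, ThreeTrans.inv_eq hE.1 hb])
      have hcard : ({a, b, a * b * a, f, 1, a * b, b * a} : Finset H).card = 7 := by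
        have := hinv ha
        have := hinv hb
        have := hinv hc
        have := hinv hf
        have := (ord ha).2
        have := (ord hb).2
        have := (ord hc).2
        have := (ord hf).2
        have : f ≠ a := fun e => hfa (e ▸ Commute.refl a)
        have : f ≠ b := fun e => hfb (e ▸ Commute.refl b)
        simp_all [Finset.card_insert_of_notMem, eq_comm]
      have := Finset.card_le_card hsub
      rw [hcard, Finset.card_univ, ← Nat.card_eq_fintype_card, h6] at this
      omega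
    exact hfab ▸ Commute.refl _
  have hsp := spanning_of_rowAdd hE hR
  have cu : ∀ x ∈ π '' D, ∀ y ∈ π '' D, CU π D x y := fun x hx y hy => by
    by_cases hc : Commute x y
    · exact CU_of_commute C.hyp hc
    · exact CU_of_closure C.hyp C.cls C.cen hy (hsp x hx y hy hc)
  have hel := elementary_of_rowAdd C.hyp cu C.cls C.cen C.ker hR
  haveI : (pCore 3 H).Normal := Grp.pCore_isNormal
  refine ⟨hel, complement_of_three C cu hel (pCore 3 H) (Transfer.pCore_isPGroup 3 H) fun x hx => ?_⟩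
  obtain ⟨y, hy, hxy⟩ : ∃ y ∈ π '' D, y ≠ x := by
    obtain ⟨a, ha, b, hb, hab⟩ := C.two_points h2
    by_cases e : a = x
    · exact ⟨b, hb, fun k => hab (e.trans k.symm)⟩
    · exact ⟨a, ha, e⟩
  refine ⟨x * y, Spor.FourGen.mul_mem_pCore (π '' D) (fun z hz => ThreeTrans.mul_self hE.1 hz)
    (fun g z hz => ThreeTrans.conj_mem hE g hz) (fun a ha b hb => ?_) hx hy, fun k => ?_⟩
  · by_cases e : a = b
    · rw [e, ThreeTrans.mul_self hE.1 hb, one_pow]
    · rcases hE.1.2 a ha b hb with k | k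
      · refine absurd ?_ (hap a ha b hb e)
        have e' : a * b = (a * b)⁻¹ := eq_inv_of_mul_eq_one_left (by rwa [← pow_two])
        rwa [mul_inv_rev, ThreeTrans.inv_eq hE.1 ha, ThreeTrans.inv_eq hE.1 hb] at e'
      · exact k
  · refine hap x hx y hy (Ne.symm hxy) ?_
    have := (Commute.refl x).mul_right k.symm
    rwa [← mul_assoc, ThreeTrans.mul_self hE.1 hx, one_mul] at this

/-- The quotient by the centre when that holds the 3-core. -/
theorem central_quot (C : Ctx π D) (h2 : pCore 2 H = ⊥) (h3 : pCore 3 H ≤ Subgroup.center H)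
    (hw : ∃ a ∈ π '' D, ∃ b ∈ π '' D, a ≠ b ∧ Commute a b) :
    IsThreeTranspositionClass (QuotientGroup.mk' (Subgroup.center H) '' (π '' D)) ∧
      Subgroup.center (H ⧸ Subgroup.center H) = ⊥ ∧ pCore 2 (H ⧸ Subgroup.center H) = ⊥ ∧
      pCore 3 (H ⧸ Subgroup.center H) = ⊥ ∧ Set.InjOn (QuotientGroup.mk' (Subgroup.center H)) (π '' D) ∧
      (∀ x ∈ π '' D, ∀ y ∈ π '' D, Commute (QuotientGroup.mk' (Subgroup.center H) x) (QuotientGroup.mk' (Subgroup.center H) y) →
        Commute x y) := by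
  classical
  have hE := C.cls' fun _ h => C.ne_one h
  set f := QuotientGroup.mk' (Subgroup.center H) with hf
  have hf1 : ∀ x, f x = 1 ↔ x ∈ Subgroup.center H := fun x => QuotientGroup.eq_one_iff x
  have hinj : Set.InjOn f (π '' D) := fun x hx y hy e => by
    have hz : x * y ∈ Subgroup.center H := (hf1 _).1 (by
      rw [map_mul, e, ← map_mul, ThreeTrans.mul_self hE.1 hy, map_one])
    have hc : Commute x y := by
      have := (Commute.refl x).mul_right (Subgroup.mem_center_iff.1 hz x : Commute x (x * y))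
      rwa [← mul_assoc, ThreeTrans.mul_self hE.1 hx, one_mul] at this
    have hsq : (x * y) * (x * y) = 1 := by
      rw [← pow_two, hc.mul_pow, pow_two, pow_two, ThreeTrans.mul_self hE.1 hx, ThreeTrans.mul_self hE.1 hy, one_mul]
    haveI : Fact (Nat.Prime 2) := ⟨Nat.prime_two⟩
    have hn : (Subgroup.zpowers (x * y)).Normal := ⟨fun z hz' g => by
      have hzc : z ∈ Subgroup.center H := (Subgroup.zpowers_le.2 hz) hz'
      rw [Subgroup.mem_center_iff.1 hzc g, mul_inv_cancel_right]; exact hz'⟩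
    have h1 : x * y = 1 := Subgroup.mem_bot.1 (h2 ▸ Grp.le_pCore hn (fun z => ⟨1, Subtype.ext (by
      obtain ⟨i, hi⟩ := Subgroup.mem_zpowers_iff.1 z.2
      rw [Subgroup.coe_pow, ← hi, pow_one, ← zpow_natCast, ← _root_.zpow_mul, mul_comm, _root_.zpow_mul,
        zpow_natCast, pow_two, hsq, one_zpow]
      rfl)⟩) (Subgroup.mem_zpowers _))
    rw [eq_inv_of_mul_eq_one_left h1, ThreeTrans.inv_eq hE.1 hy]
  have hcom : ∀ x ∈ π '' D, ∀ y ∈ π '' D, Commute (f x) (f y) → Commute x y := fun x hx y hy k => by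
    by_cases e : f x = f y
    · rw [hinj hx hy e]
    · exact commute_of_map hE.1 f hx hy e k
  have hsurj : Function.Surjective f := QuotientGroup.mk'_surjective _
  have hE0 : IsThreeTranspositionClass (f '' (π '' D)) := by
    have hord : ∀ x ∈ π '' D, f x ≠ 1 := fun x hx e => by
      obtain ⟨a, ha, b, hb, hab, -⟩ := hw
      have hall : ∀ y ∈ π '' D, y = x := fun y hy => by
        obtain ⟨g, rfl⟩ := ThreeTrans.transitive hE hx hy
        rw [Subgroup.mem_center_iff.1 ((hf1 x).1 e) g, mul_inv_cancel_right]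
      exact hab ((hall a ha).trans (hall b hb).symm)
    refine ⟨⟨?_, ?_⟩, ?_, ?_⟩
    · rintro _ ⟨x, hx, rfl⟩
      refine orderOf_eq_prime ?_ (hord x hx)
      rw [← map_pow, pow_two, ThreeTrans.mul_self hE.1 hx, map_one]
    · rintro _ ⟨x, hx, rfl⟩ _ ⟨y, hy, rfl⟩
      rcases hE.1.2 x hx y hy with k | k
      · left; rw [← map_mul, ← map_pow, k, map_one]
      · right; rw [← map_mul, ← map_pow, k, map_one]
    · obtain ⟨x, hx, -⟩ := hE.2.1
      refine ⟨f x, ⟨x, hx, rfl⟩, Set.ext fun y => ⟨?_, fun hy => ?_⟩⟩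
      · rintro ⟨z, hz, rfl⟩
        obtain ⟨g, rfl⟩ := ThreeTrans.transitive hE hx hz
        exact _root_.isConj_iff.2 ⟨f g, by simp⟩
      · obtain ⟨g', rfl⟩ := _root_.isConj_iff.1 (show _root_.IsConj (f x) y from hy)
        obtain ⟨g, rfl⟩ := hsurj g'
        exact ⟨g * x * g⁻¹, ThreeTrans.conj_mem hE g hx, by simp⟩
    · rw [← MonoidHom.map_closure, hE.2.2, Subgroup.map_top_of_surjective f hsurj]
  have hF := Spor.FischerStr.fitting_le_center hE (by rw [h2]; exact bot_le) h3
  have hcore : ∀ p, p.Prime → pCore p (H ⧸ Subgroup.center H) = ⊥ := fun p hp => by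
    haveI : Fact p.Prime := ⟨hp⟩
    haveI : (pCore p (H ⧸ Subgroup.center H)).Normal := Grp.pCore_isNormal
    set M := (pCore p (H ⧸ Subgroup.center H)).comap f
    haveI : M.Normal := inferInstanceAs ((pCore p (H ⧸ Subgroup.center H)).comap f).Normal
    haveI : Group.IsNilpotent (pCore p (H ⧸ Subgroup.center H)) := (Transfer.pCore_isPGroup p _).isNilpotent
    let fM : M →* pCore p (H ⧸ Subgroup.center H) := (f.comp M.subtype).codRestrict _ fun m => m.2
    haveI : Group.IsNilpotent M := Subgroup.isNilpotent_of_ker_le_center fM fun m hm => by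
      refine Subgroup.mem_center_iff.2 fun k => Subtype.ext ?_
      exact Subgroup.mem_center_iff.1 ((hf1 _).1 (congrArg Subtype.val hm)) k
    have hle := (Grp.le_fittingSubgroup inferInstance inferInstance : M ≤ fittingSubgroup H).trans hF
    rw [eq_bot_iff]
    intro y hy
    obtain ⟨g, rfl⟩ := hsurj y
    exact (hf1 g).2 (hle hy)
  refine ⟨hE0, ?_, hcore 2 Nat.prime_two, hcore 3 Nat.prime_three, hinj, hcom⟩
  rw [eq_bot_iff]
  intro z hz
  obtain ⟨g, rfl⟩ := hsurj z
  refine (hf1 g).2 (Subgroup.mem_center_iff.2 fun k => ?_)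
  have hle : Subgroup.closure (π '' D) ≤ Subgroup.centralizer {g} := (Subgroup.closure_le _).2 fun x hx => by
    rw [SetLike.mem_coe, Subgroup.mem_centralizer_singleton_iff]
    have e : f (g * x * g⁻¹) = f x := by
      rw [map_mul, map_mul, map_inv, ← Subgroup.mem_center_iff.1 hz (f x), mul_inv_cancel_right]
    exact (mul_inv_eq_iff_eq_mul.1 (hinj (ThreeTrans.conj_mem hE g hx) hx e)).symm
  exact Subgroup.mem_centralizer_singleton_iff.1 (hle (hE.2.2 ▸ Subgroup.mem_top k))

end Cfsg.Agent.Fus.TwoRadical
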