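import Cfsg.Agent.Lib.Fus.TwoRadical.RowFrame

/-!
The defect of a frame is a coboundary, so sections extend and the radical has a complement.
-/

set_option autoImplicit false
set_option linter.style.haveILetI false
set_option linter.unusedSectionVars false

namespace Cfsg.Agent.Fus.TwoRadical

open Cfsg Cfsg.Agent.Spor Cfsg.Agent.Fus.SUTwoRadical Cfsg.Agent.Spor.FischerThm
open Cfsg.Agent.Grp.PolarRec (row row_comm row_nc)

universe u v

namespace Frame

variable {G : Type u} [Group G] [Finite G] {H : Type v} [Group H] [Finite H] {π : G →* H} {D : Set G}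
  (A : Frame π D) (C : Ctx π D)

include C

/-- A section with trivial defect glues. -/
theorem glue (hflat : ∀ p q : A.X, Commute (p : H) q → A.dy * A.lift p q * A.dy = A.s0 (A.n p q)) :
    ∃ s, Sec π D A.S s := by
  classical
  have h := C.hyp
  obtain ⟨z1, z2⟩ := A.dz_spec C
  obtain ⟨x1, x2⟩ := A.dx_spec
  have hx' := A.sub A.hx
  have hy' := A.sub A.hy
  let s : H → G := fun u => if Commute u A.x then A.s0 u
    else if Commute u A.y then A.dz * A.s0 (A.z * u * A.z) * A.dz
    else A.dy * A.s0 (A.y * u * A.y) * A.dy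
  have zyz : A.z * A.y * A.z = A.x := by
    rw [A.z_eq]; simp only [mul_assoc, ThreeTrans.mul_self_mul A.cls.1 hy', A.yy, mul_one]
    rw [← mul_assoc A.x A.y, ← mul_assoc A.y (A.x * A.y), ← mul_assoc A.y A.x, ← A.z_eq, z]
    simp only [mul_assoc, ThreeTrans.mul_self_mul A.cls.1 hx', A.yy, mul_one]
  have yzy : A.y * A.z * A.y = A.x := by
    rw [A.z_eq]; simp only [mul_assoc, ThreeTrans.mul_self_mul A.cls.1 hy', A.yy, mul_one]
  have toX : ∀ {i : H}, i * i = 1 → ∀ {w t u : H}, i * w * i = t → Commute u w → Commute (i * u * i) t := by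
    intro i hi w t u e k
    rw [← e]
    simpa [inv_eq_of_mul_eq_one_right hi, mul_assoc] using k.map (MulAut.conj i).toMonoidHom
  have sx : ∀ u, Commute u A.x → s u = A.s0 u := fun u k => if_pos k
  have sy : ∀ u ∈ A.S, Commute u A.y → s u = A.dz * A.s0 (A.z * u * A.z) * A.dz := by
    intro u hu k
    by_cases kx : Commute u A.x
    · obtain ⟨u1, u2⟩ := A.s0_spec hu kx
      have kz : Commute A.z u := by
        refine ((A.r0 A.hz).1 ?_).symm
        rw [A.pattern hu, row_comm kx, row_comm k, add_zero]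
      rw [sx u kx, show A.z * u * A.z = u by rw [kz.eq, mul_assoc, A.zz, mul_one],
        lift_fix C z1 u1 z2 u2 kz]
    · simp only [s, if_neg kx, if_pos k]
  have sz : ∀ u ∈ A.S, Commute u A.z → s u = A.dy * A.s0 (A.y * u * A.y) * A.dy := by
    intro u hu k
    by_cases kx : Commute u A.x
    · obtain ⟨u1, u2⟩ := A.s0_spec hu kx
      have ky : Commute A.y u := by
        refine ((A.r0 A.hy).1 ?_).symm
        have e := A.pattern hu
        rwa [row_comm k, row_comm kx, zero_add, eq_comm] at e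
      rw [sx u kx, show A.y * u * A.y = u by rw [ky.eq, mul_assoc, A.yy, mul_one],
        lift_fix C A.hdy u1 A.hdy' u2 ky]
    · by_cases ky : Commute u A.y
      · refine absurd ((A.r0 A.hx).1 ?_) kx
        have e := A.pattern hu
        rwa [row_comm k, row_comm ky, add_zero, eq_comm] at e
      · simp only [s, if_neg kx, if_neg ky]
  have cases3 : ∀ u ∈ A.S, Commute u A.x ∨ Commute u A.y ∨ Commute u A.z := fun u hu => by
    by_cases kx : Commute u A.x
    · exact Or.inl kx
    by_cases ky : Commute u A.y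
    · exact Or.inr (Or.inl ky)
    exact Or.inr (Or.inr (A.radd _ hx' _ hy' A.hxy _ (A.sub hu) kx ky))
  have spec : ∀ u ∈ A.S, s u ∈ D ∧ π (s u) = u := by
    intro u hu
    rcases cases3 u hu with k | k | k
    · rw [sx u k]; exact A.s0_spec hu k
    · rw [sy u hu k]
      obtain ⟨v1, v2⟩ := A.s0_spec (A.cl _ A.hz _ hu) (toX A.zz zyz k)
      refine ⟨conj_mem' h v1 z1, ?_⟩
      rw [map_mul, map_mul, z2, v2]
      simp only [mul_assoc, ThreeTrans.mul_self_mul A.cls.1 (A.sub A.hz), A.zz, mul_one]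
    · rw [sz u hu k]
      obtain ⟨v1, v2⟩ := A.s0_spec (A.cl _ A.hy _ hu) (toX A.yy yzy k)
      refine ⟨conj_mem' h v1 A.hdy, ?_⟩
      rw [map_mul, map_mul, A.hdy', v2]
      simp only [mul_assoc, ThreeTrans.mul_self_mul A.cls.1 hy', A.yy, mul_one]
  let good : H → H → Prop := fun a b => s a * s b * s a = s (a * b * a)
  have brd : ∀ a ∈ A.S, ∀ b ∈ A.S, ¬ Commute a b →
      s a * s b * s a = s b * s a * s b ∧ a * b * a = b * a * b := fun a ha b hb hab =>
    ⟨ThreeTrans.braid C.cls.1 (spec a ha).1 (spec b hb).1 fun k => hab (by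
      have := k.map π
      rwa [(spec a ha).2, (spec b hb).2] at this), ThreeTrans.braid A.cls.1 (A.sub ha) (A.sub hb) hab⟩
  have symm : ∀ a ∈ A.S, ∀ b ∈ A.S, ¬ Commute a b → good a b → good b a := fun a ha b hb hab k => by
    obtain ⟨e1, e2⟩ := brd a ha b hb hab
    show s b * s a * s b = s (b * a * b)
    rw [← e1, ← e2]; exact k
  have third : ∀ a ∈ A.S, ∀ b ∈ A.S, good a b → good a (a * b * a) := fun a ha b hb k => by
    show s a * s (a * b * a) * s a = s (a * (a * b * a) * a)
    have aa := A.sub ha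
    rw [show a * (a * b * a) * a = b by
      simp only [mul_assoc, ThreeTrans.mul_self_mul A.cls.1 aa, ThreeTrans.mul_self A.cls.1 aa, mul_one], ← k]
    simp only [mul_assoc, ThreeTrans.mul_self_mul C.cls.1 (spec a ha).1, ThreeTrans.mul_self C.cls.1 (spec a ha).1,
      mul_one]
  -- pairs with a common point of the line
  have inX : ∀ a ∈ A.S, ∀ b ∈ A.S, Commute a A.x → Commute b A.x → good a b := fun a ha b hb ka kb => by
    show s a * s b * s a = s (a * b * a)
    rw [sx a ka, sx b kb, sx (a * b * a) ((ka.mul_left kb).mul_left ka)]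
    exact A.s0_conj C ha hb ka kb
  have inW : ∀ {i w : H} {di : G}, i ∈ A.S → di ∈ D → π di = i → i * w * i = A.x →
      (∀ u ∈ A.S, Commute u w → s u = di * A.s0 (i * u * i) * di) →
      ∀ a ∈ A.S, ∀ b ∈ A.S, Commute a w → Commute b w → good a b := by
    intro i w di hi di1 _ e hs a ha b hb ka kb
    have ii := ThreeTrans.mul_self A.cls.1 (A.sub hi)
    show s a * s b * s a = s (a * b * a)
    rw [hs a ha ka, hs b hb kb, hs _ (A.cl _ ha _ hb) ((ka.mul_left kb).mul_left ka),
      show i * (a * b * a) * i = (i * a * i) * (i * b * i) * (i * a * i) by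
        simp only [mul_assoc, ThreeTrans.mul_self_mul A.cls.1 (A.sub hi)],
      ← A.s0_conj C (A.cl _ hi _ ha) (A.cl _ hi _ hb) (toX ii e ka) (toX ii e kb)]
    simp only [mul_assoc, ThreeTrans.mul_self_mul C.cls.1 di1]
  have inY := inW A.hz z1 z2 zyz sy
  have inZ := inW A.hy A.hdy A.hdy' yzy sz
  -- pairs across the line
  have cross : ∀ a ∈ A.S, ∀ b ∈ A.S, Commute a A.x → ¬ Commute a A.y → Commute b A.y → ¬ Commute b A.x →
      ¬ Commute a b → good a b := by
    intro a ha b hb ka na kb nb hab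
    let p : A.X := ⟨a, ha, ka, na⟩
    have hq1 : Commute (A.z * b * A.z) A.x := toX A.zz zyz kb
    have hq2 : ¬ Commute (A.z * b * A.z) A.y := fun k => nb (by
      have := toX A.zz (show A.z * A.y * A.z = A.x from zyz) k
      rwa [show A.z * (A.z * b * A.z) * A.z = b by
        simp only [mul_assoc, ThreeTrans.mul_self_mul A.cls.1 (A.sub A.hz), A.zz, mul_one]] at this)
    let q : A.X := ⟨A.z * b * A.z, A.cl _ A.hz _ hb, hq1, hq2⟩
    have eb : A.z * (q : H) * A.z = b := by
      show A.z * (A.z * b * A.z) * A.z = b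
      simp only [mul_assoc, ThreeTrans.mul_self_mul A.cls.1 (A.sub A.hz), A.zz, mul_one]
    have hpq : Commute (p : H) q := by
      refine (A.r0 q.2.1).1 ?_
      rw [A.r_symm ha q.2.1]
      show row (π '' D) (q : H) a = 0
      have hzb : ¬ Commute A.z b := fun k => by
        have e := A.pattern hb
        rw [row_comm k.symm, row_comm kb, add_zero, row_nc (A.sub A.hx) nb] at e
        exact zero_ne_one e
      rw [show (q : H) = A.z * b * A.z from rfl, A.r_conj A.hz hb hzb, Pi.add_apply, A.r_symm A.hz ha,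
        A.pattern ha, row_comm ka, row_nc (A.sub A.hy) na, row_nc (A.sub ha) fun k => hab k.symm]
      decide
    have hc : Commute (a * b * a) A.z := by
      have := (A.mid hpq).2.2.2.symm
      rwa [eb] at this
    show s a * s b * s a = s (a * b * a)
    rw [sx a ka, sy b hb kb, sz _ (A.cl _ ha _ hb) hc]
    have e := hflat p q hpq
    rw [A.n_val hpq, Frame.third, eb] at e
    rw [← e]
    simp only [Frame.lift, mul_assoc, ThreeTrans.mul_self_mul C.cls.1 A.hdy,
      ThreeTrans.mul_self C.cls.1 A.hdy, mul_one, p, q]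
  refine ⟨s, spec, fun a ha b hb hab => ?_⟩
  show good a b
  by_cases hxx : Commute a A.x ∧ Commute b A.x
  · exact inX a ha b hb hxx.1 hxx.2
  by_cases hyy : Commute a A.y ∧ Commute b A.y
  · exact inY a ha b hb hyy.1 hyy.2
  by_cases hzz : Commute a A.z ∧ Commute b A.z
  · exact inZ a ha b hb hzz.1 hzz.2
  have pat : ∀ {u}, u ∈ A.S → ∀ {w}, w ∈ A.S → (Commute u w ↔ row (π '' D) u w = 0) := fun {u} _ {w} hw =>
    (A.r0 hw).symm
  have two : ∀ {u}, u ∈ A.S → (Commute u A.x → Commute u A.y → Commute u A.z) ∧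
      (Commute u A.x → Commute u A.z → Commute u A.y) ∧ (Commute u A.y → Commute u A.z → Commute u A.x) := by
    intro u hu
    rw [pat hu A.hx, pat hu A.hy, pat hu A.hz, A.pattern hu]
    generalize row (π '' D) u A.x = i
    generalize row (π '' D) u A.y = j
    revert i j
    decide
  have hnot : ∀ {u}, u ∈ A.S → ∀ v, v ∈ A.S → ¬ (Commute u A.x ∧ Commute v A.x) → ¬ (Commute u A.y ∧ Commute v A.y) →
      ¬ (Commute u A.z ∧ Commute v A.z) → ¬ (Commute u A.x ∧ Commute u A.y) := fun {u} hu v hv n1 n2 n3 k => by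
    have kz := (two hu).1 k.1 k.2
    rcases cases3 v hv with l | l | l
    exacts [n1 ⟨k.1, l⟩, n2 ⟨k.2, l⟩, n3 ⟨kz, l⟩]
  have hn1 := hnot ha b hb hxx hyy hzz
  have hn2 := hnot hb a ha (fun k => hxx k.symm) (fun k => hyy k.symm) (fun k => hzz k.symm)
  -- reduce to a pair across the first two points
  have xy : ∀ a ∈ A.S, ∀ b ∈ A.S, ¬ Commute a b → Commute a A.x → ¬ Commute a A.y → Commute b A.y →
      ¬ Commute b A.x → good a b := fun a ha b hb hab ka na kb nb => cross a ha b hb ka na kb nb hab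
  have apart3 : ∀ {a b : H}, a ∈ A.S → b ∈ A.S → ¬ Commute a b → ¬ Commute a (a * b * a) := fun {a b} ha hb hab k =>
    hab ((conj_comm (ThreeTrans.mul_self A.cls.1 (A.sub ha)) (Commute.refl a)).1 k.symm).symm
  have xz : ∀ a ∈ A.S, ∀ b ∈ A.S, ¬ Commute a b → Commute a A.x → ¬ Commute a A.y → Commute b A.z →
      ¬ Commute b A.x → good a b := by
    intro a ha b hb hab ka na kb nb
    have hc := A.cl _ ha _ hb
    have hry : row (π '' D) (a * b * a) A.y = 0 ∧ row (π '' D) (a * b * a) A.x = 1 := by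
      rw [A.r_conj ha hb hab]
      have e := A.pattern hb
      rw [row_comm kb, row_nc (A.sub A.hx) nb] at e
      refine ⟨?_, by rw [Pi.add_apply, row_comm ka, row_nc (A.sub A.hx) nb, zero_add]⟩
      rw [Pi.add_apply, row_nc (A.sub A.hy) na]
      revert e
      generalize row (π '' D) b A.y = j
      revert j
      decide
    have g := third a ha _ hc (xy a ha _ hc (apart3 ha hb hab) ka na ((A.r0 A.hy).1 hry.1) ((A.r1 A.hx).1 hry.2))
    have aa := A.sub ha
    rwa [show a * (a * b * a) * a = b by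
      simp only [mul_assoc, ThreeTrans.mul_self_mul A.cls.1 aa, ThreeTrans.mul_self A.cls.1 aa, mul_one]] at g
  have yz : ∀ a ∈ A.S, ∀ b ∈ A.S, ¬ Commute a b → Commute a A.y → ¬ Commute a A.x → Commute b A.z →
      ¬ Commute b A.x → good a b := by
    intro a ha b hb hab ka na kb nb
    have hc := A.cl _ ha _ hb
    have hrx : row (π '' D) (a * b * a) A.x = 0 ∧ row (π '' D) (a * b * a) A.y = 1 := by
      rw [A.r_conj ha hb hab]
      have e := A.pattern hb
      rw [row_comm kb, row_nc (A.sub A.hx) nb] at e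
      refine ⟨by rw [Pi.add_apply, row_nc (A.sub A.hx) na, row_nc (A.sub A.hx) nb]; decide, ?_⟩
      rw [Pi.add_apply, row_comm ka]
      revert e
      generalize row (π '' D) b A.y = j
      revert j
      decide
    have hca := apart3 ha hb hab
    have g := symm _ hc a ha (fun k => hca k.symm)
      (xy _ hc a ha (fun k => hca k.symm) ((A.r0 A.hx).1 hrx.1) ((A.r1 A.hy).1 hrx.2) ka na)
    have g' := third a ha _ hc g
    have aa := A.sub ha
    rwa [show a * (a * b * a) * a = b by
      simp only [mul_assoc, ThreeTrans.mul_self_mul A.cls.1 aa, ThreeTrans.mul_self A.cls.1 aa, mul_one]] at g'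
  rcases cases3 a ha with ka | ka | ka
  · have na : ¬ Commute a A.y := fun k => hn1 ⟨ka, k⟩
    have nb : ¬ Commute b A.x := fun k => hxx ⟨ka, k⟩
    rcases cases3 b hb with kb | kb | kb
    exacts [absurd kb nb, xy a ha b hb hab ka na kb nb, xz a ha b hb hab ka na kb nb]
  · have na : ¬ Commute a A.x := fun k => hn1 ⟨k, ka⟩
    rcases cases3 b hb with kb | kb | kb
    · exact symm b hb a ha (fun k => hab k.symm)
        (xy b hb a ha (fun k => hab k.symm) kb (fun k => hn2 ⟨kb, k⟩) ka na)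
    · exact absurd ⟨ka, kb⟩ hyy
    · exact yz a ha b hb hab ka na kb fun k => hn2 ⟨k, (two hb).2.1 k kb⟩
  · have na : ¬ Commute a A.x := fun k => hn1 ⟨k, (two ha).2.1 k ka⟩
    rcases cases3 b hb with kb | kb | kb
    · exact symm b hb a ha (fun k => hab k.symm)
        (xz b hb a ha (fun k => hab k.symm) kb (fun k => hn2 ⟨kb, k⟩) ka na)
    · exact symm b hb a ha (fun k => hab k.symm)
        (yz b hb a ha (fun k => hab k.symm) kb (fun k => hn2 ⟨k, kb⟩) ka na)
    · exact absurd ⟨ka, kb⟩ hzz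

variable (cu : ∀ x ∈ π '' D, ∀ y ∈ π '' D, CU π D x y) {d0 : G} (hd0 : d0 ∈ D) {mv : H → G}
  (hmv : ∀ u ∈ π '' D, π (mv u) * π d0 * (π (mv u))⁻¹ = u)

include cu hd0 hmv

/-- A third lift conjugated by a member of the first class. -/
theorem step {p M k : A.X} (hk : Commute (p : H) k) (hn : A.n p k = M) {a : G} (ha : a ∈ U π D (π d0)) :
    A.s0 p * (A.dy * (A.s0 M * tr mv (M : H) a) * A.dy) * A.s0 p =
      A.dz * (A.s0 k * tr mv (k : H) (A.defect mv d0 p k * a)) * A.dz := by
  subst hn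
  obtain ⟨p1, p2⟩ := A.s0_spec p.2.1 p.2.2.1
  obtain ⟨z1, z2⟩ := A.dz_spec C
  obtain ⟨n1, n2⟩ := A.s0_spec (A.n p k).2.1 (A.n p k).2.2.1
  set κ := (A.defect mv d0 p k : G)
  have hκ : κ ∈ U π D (π d0) := (A.defect mv d0 p k).2
  have hyS : A.y * (A.n p k : H) * A.y ∈ π '' D := A.sub (A.cl _ A.hy _ (A.n p k).2.1)
  have hw : π (A.s0 p) * (A.y * (A.n p k : H) * A.y) * π (A.s0 p) = A.z * (k : H) * A.z := by
    rw [p2, A.n_val hk, Frame.third]
    simp only [mul_assoc, ThreeTrans.mul_self_mul A.cls.1 (A.sub A.hy), ThreeTrans.mul_self_mul A.cls.1 (A.sub p.2.1),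
      ThreeTrans.mul_self A.cls.1 (A.sub p.2.1), A.yy, mul_one]
  have trA : ∀ {b : G}, b ∈ U π D (π d0) →
      A.s0 p * (A.dy * tr mv (A.n p k : H) b * A.dy) * A.s0 p = A.dz * tr mv (k : H) b * A.dz := fun {b} hb => by
    rw [tr_conj_mem C cu A.radd hd0 hmv A.hdy (A.sub (A.n p k).2.1) hb, A.hdy',
      tr_conj_mem C cu A.radd hd0 hmv p1 hyS hb, hw,
      tr_conj_mem C cu A.radd hd0 hmv z1 (A.sub k.2.1) hb, z2]
  have base : A.dz * A.s0 k * A.dz =
      A.s0 p * (A.dy * (A.s0 (A.n p k) * tr mv (A.n p k : H) κ) * A.dy) * A.s0 p := by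
    rw [← A.defect_spec C cu hd0 hmv hk]
    simp only [Frame.lift, mul_assoc, ThreeTrans.mul_self_mul C.cls.1 A.hdy, ThreeTrans.mul_self_mul C.cls.1 p1,
      ThreeTrans.mul_self C.cls.1 A.hdy, ThreeTrans.mul_self C.cls.1 p1, mul_one]
  have key : A.s0 (A.n p k) * tr mv (A.n p k : H) a =
      A.s0 (A.n p k) * tr mv (A.n p k : H) κ * tr mv (A.n p k : H) (κ * a) := by
    rw [mul_assoc, ← tr_mul, ← mul_assoc κ, U_sq C.hyp hκ, one_mul]
  calc A.s0 p * (A.dy * (A.s0 (A.n p k) * tr mv (A.n p k : H) a) * A.dy) * A.s0 p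
      = A.s0 p * (A.dy * (A.s0 (A.n p k) * tr mv (A.n p k : H) κ) * A.dy) * A.s0 p *
          (A.s0 p * (A.dy * tr mv (A.n p k : H) (κ * a) * A.dy) * A.s0 p) := by
        rw [key]
        simp only [mul_assoc, ThreeTrans.mul_self_mul C.cls.1 p1, ThreeTrans.mul_self_mul C.cls.1 A.hdy]
    _ = _ := by
        rw [← base, trA (mul_mem hκ ha)]
        simp only [mul_assoc, ThreeTrans.mul_self_mul C.cls.1 z1]

/-- Sections extend from the members commuting with a point of a line. -/
theorem extend (h2 : pCore 2 H = ⊥) : ∃ s, Sec π D A.S s := by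
  classical
  set U0 := U π D (π d0) with hU0
  letI : CommGroup U0 := { (inferInstance : Group U0) with
    mul_comm := fun a b => Subtype.ext (U_comm C.hyp a.2 b.2).eq }
  have hinj := A.vec_inj h2
  have hz0 := A.vec_zero_iff
  have nv : ∀ {p q : A.X}, Commute (p : H) q → ∀ r : A.X,
      A.vec (A.n p q) (r : H) = A.vec p (r : H) + A.vec q (r : H) := fun {p q} h r => by
    rw [A.vec_n h]; rfl
  have nsymm : ∀ {p q : A.X}, Commute (p : H) q → A.n q p = A.n p q := fun {p q} h => hinj (by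
    rw [A.vec_n h, A.vec_n h.symm, add_comm])
  have dbl : ∀ x : H → ZMod 2, x + x = 0 := fun x => funext fun i => CharTwo.add_self_eq_zero (x i)
  have ncq : ∀ {p q : A.X}, Commute (p : H) q → Commute (A.n p q : H) q := fun {p q} h => by
    rw [← hz0, nv h, (hz0 p q).2 h, (hz0 q q).2 (Commute.refl _), add_zero]
  have nback : ∀ {p q : A.X}, Commute (p : H) q → A.n (A.n p q) q = p := fun {p q} h => hinj (by
    rw [A.vec_n (ncq h), A.vec_n h, add_assoc, dbl, add_zero])
  let L : LineData A.X (H → ZMod 2) (Additive U0) :=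
  { v := A.vec
    ev := fun q => Pi.evalAddMonoidHom (fun _ : H => ZMod 2) (q : H)
    o := ⟨A.x, A.hx, Commute.refl _, A.hxy⟩
    n := A.n
    F := fun p q => Additive.ofMul (A.defect mv d0 p q)
    inj := hinj
    v_o := dbl _
    dbl := dbl
    two := fun a => Subtype.ext (U_sq C.hyp (Additive.toMul a).2)
    symm := fun p q => by
      show A.vec p (q : H) = A.vec q (p : H)
      rw [A.vec_apply, A.vec_apply, A.r_symm p.2.1 q.2.1]
    self := fun p => (hz0 p p).2 (Commute.refl _)
    v_n := fun p q h => A.vec_n ((hz0 p q).1 h)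
    sw := fun p q h => by
      have hpq := (A.vec_one_iff p q).1 h
      obtain ⟨cS, cx, cy, cz⟩ := A.line_mem hpq
      set c := (p : H) * q * p with hc
      have cc := ThreeTrans.mul_self A.cls.1 (A.sub cS)
      refine ⟨fun u => ⟨c * (u : H) * c, A.conj_X cS cx cy u⟩, fun u => ?_, fun a b hab => ?_⟩
      · have hr : row (π '' D) c = A.vec p + A.vec q := by
          rw [hc, A.r_conj p.2.1 q.2.1 hpq, Frame.vec, Frame.vec, add_add_add_comm, dbl, add_zero]
        show row (π '' D) (c * (u : H) * c) + row (π '' D) A.x =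
          A.vec u + if (A.vec p + A.vec q) (u : H) = 1 then A.vec p + A.vec q else 0
        rw [← hr]
        split_ifs with k
        · rw [A.r_conj cS u.2.1 ((A.r1 u.2.1).1 k), Frame.vec]
          abel
        · have k' : Commute c (u : H) := (A.r0 u.2.1).1 ((LineData.zero_or_one _).resolve_right k)
          rw [k'.eq, mul_assoc, cc, mul_one, add_zero, Frame.vec]
      · have hab' : Commute (a : H) b := (hz0 a b).1 hab
        have hab2 : Commute (c * (a : H) * c) (c * (b : H) * c) := by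
          simpa [inv_eq_of_mul_eq_one_right cc, mul_assoc] using hab'.map (MulAut.conj c).toMonoidHom
        set a' : A.X := ⟨c * (a : H) * c, A.conj_X cS cx cy a⟩
        set b' : A.X := ⟨c * (b : H) * c, A.conj_X cS cx cy b⟩
        set n' : A.X := ⟨c * (A.n a b : H) * c, A.conj_X cS cx cy (A.n a b)⟩
        have fy : c * A.y * c = A.y := by rw [cy.eq, mul_assoc, cc, mul_one]
        have fz : c * A.z * c = A.z := by rw [cz.eq, mul_assoc, cc, mul_one]
        have hn : A.n a' b' = n' := Subtype.ext (by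
          rw [A.n_val hab2, Frame.third]
          show _ = c * (A.n a b : H) * c
          rw [A.n_val hab', Frame.third]
          rw [show c * (A.y * ((a : H) * (A.z * (b : H) * A.z) * a) * A.y) * c =
            (c * A.y * c) * ((c * a * c) * ((c * A.z * c) * (c * b * c) * (c * A.z * c)) * (c * a * c)) *
              (c * A.y * c) by simp only [mul_assoc, ThreeTrans.mul_self_mul A.cls.1 (A.sub cS)], fy, fz])
        obtain ⟨e1, e2⟩ := A.s0_spec cS cx
        obtain ⟨z1, z2⟩ := A.dz_spec C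
        have fy' : A.s0 c * A.dy * A.s0 c = A.dy := lift_fix C e1 A.hdy e2 A.hdy' cy
        have fz' : A.s0 c * A.dz * A.s0 c = A.dz := lift_fix C e1 z1 e2 z2 cz
        refine congrArg Additive.ofMul (A.defect_eq C cu hd0 hmv hab2 hn ?_)
        show _ = A.s0 (c * (A.n a b : H) * c) * tr mv (c * (A.n a b : H) * c) (A.defect mv d0 a b : G)
        have et : tr mv (c * (A.n a b : H) * c) (A.defect mv d0 a b : G) =
            A.s0 c * tr mv (A.n a b : H) (A.defect mv d0 a b : G) * A.s0 c := by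
          rw [tr_conj_mem C cu A.radd hd0 hmv e1 (A.sub (A.n a b).2.1) (A.defect mv d0 a b).2, e2]
        rw [et, ← A.s0_conj C cS (A.n a b).2.1 cx (A.n a b).2.2.1]
        simp only [Frame.lift, a', b']
        rw [← A.s0_conj C cS a.2.1 cx a.2.2.1, ← A.s0_conj C cS b.2.1 cx b.2.2.1]
        have sp := A.defect_spec C cu hd0 hmv hab'
        rw [show A.s0 c * A.s0 (A.n a b) * A.s0 c * (A.s0 c * tr mv (A.n a b : H) (A.defect mv d0 a b : G) * A.s0 c) =
          A.s0 c * (A.s0 (A.n a b) * tr mv (A.n a b : H) (A.defect mv d0 a b : G)) * A.s0 c by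
          simp only [mul_assoc, ThreeTrans.mul_self_mul C.cls.1 e1], ← sp]
        conv_lhs => rw [← fy', ← fz']
        simp only [Frame.lift, mul_assoc, ThreeTrans.mul_self_mul C.cls.1 e1]
    F_symm := fun p q h => by
      have h' := (hz0 p q).1 h
      exact congrArg Additive.ofMul (A.defect_swap C cu hd0 hmv h' (nsymm h')).symm
    F_move := fun p q h => by
      have h' := (hz0 p q).1 h
      exact congrArg Additive.ofMul (A.defect_move C cu hd0 hmv h' (ncq h') (nback h')).symm
    F_plane := fun e p q hep heq hpq => by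
      have kep := (hz0 e p).1 hep
      have keq := (hz0 e q).1 heq
      have kpq := (hz0 p q).1 hpq
      set M := A.n e q
      set M' := A.n p q
      have kpM : Commute (p : H) M := by
        refine ((hz0 M p).1 ?_).symm
        rw [nv keq, (hz0 e p).2 kep, (hz0 q p).2 kpq.symm, add_zero]
      have keM : Commute (e : H) M' := by
        refine ((hz0 M' e).1 ?_).symm
        rw [nv kpq, (hz0 p e).2 kep.symm, (hz0 q e).2 keq.symm, add_zero]
      set k := A.n p M
      have hk' : A.n e M' = k := hinj (by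
        rw [A.vec_n keM, A.vec_n kpq, A.vec_n kpM, A.vec_n keq]; abel)
      have kpk : Commute (p : H) k := by
        refine ((hz0 k p).1 ?_).symm
        rw [nv kpM, (hz0 p p).2 (Commute.refl _), (hz0 M p).2 kpM.symm, add_zero]
      have kek : Commute (e : H) k := by
        refine ((hz0 k e).1 ?_).symm
        rw [← hk', nv keM, (hz0 e e).2 (Commute.refl _), (hz0 M' e).2 keM.symm, add_zero]
      have hnp : A.n p k = M := hinj (by rw [A.vec_n kpk, A.vec_n kpM, ← add_assoc, dbl, zero_add])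
      have hne : A.n e k = M' := hinj (by rw [A.vec_n kek, ← hk', A.vec_n keM, ← add_assoc, dbl, zero_add])
      have mk : ∀ {r m j : A.X}, Commute (r : H) m → Commute (r : H) j → A.n r m = j →
          A.defect mv d0 r j = A.defect mv d0 r m := fun {r m j} krm krj e' => by
        have e1 := A.defect_move C cu hd0 hmv krm.symm (ncq krm.symm) (nback krm.symm)
        rw [nsymm krm, e'] at e1
        rw [A.defect_swap C cu hd0 hmv krj.symm (nsymm krj.symm), e1, A.defect_swap C cu hd0 hmv krm (nsymm krm)]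
      obtain ⟨e1, e2⟩ := A.s0_spec e.2.1 e.2.2.1
      obtain ⟨p1, p2⟩ := A.s0_spec p.2.1 p.2.2.1
      obtain ⟨z1, z2⟩ := A.dz_spec C
      have hc : Commute (A.s0 p) (A.s0 e) := lift_commute C p1 e1 p2 e2 kep.symm
      have lf : ∀ {r s : A.X}, Commute (r : H) s →
          A.dy * (A.s0 (A.n r s) * tr mv (A.n r s : H) (A.defect mv d0 r s : G)) * A.dy = A.lift r s := fun {r s} hrs => by
        rw [← A.defect_spec C cu hd0 hmv hrs]
        simp only [mul_assoc, ThreeTrans.mul_self_mul C.cls.1 A.hdy, ThreeTrans.mul_self C.cls.1 A.hdy, mul_one]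
      have s1 := A.step C cu hd0 hmv kpk hnp (a := (A.defect mv d0 e q : G)) (A.defect mv d0 e q).2
      have s2 := A.step C cu hd0 hmv kek hne (a := (A.defect mv d0 p q : G)) (A.defect mv d0 p q).2
      have hcomm : A.s0 p * A.lift e q * A.s0 p = A.s0 e * A.lift p q * A.s0 e := by
        simp only [Frame.lift, ← mul_assoc, hc.eq]
        simp only [mul_assoc, hc.eq]
      have s3 : A.s0 p * A.lift e q * A.s0 p =
          A.dz * (A.s0 k * tr mv (k : H) (A.defect mv d0 p k * A.defect mv d0 e q : G)) * A.dz := by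
        rw [← lf keq]; exact s1
      have s4 : A.s0 e * A.lift p q * A.s0 e =
          A.dz * (A.s0 k * tr mv (k : H) (A.defect mv d0 e k * A.defect mv d0 p q : G)) * A.dz := by
        rw [← lf kpq]; exact s2
      rw [hcomm, s4] at s3
      have s5 := tr_inj _ (mul_left_cancel (mul_left_cancel (mul_right_cancel s3)))
      rw [mk kpM kpk rfl, mk keM kek hk'] at s5
      refine congrArg Additive.ofMul (?_ : A.defect mv d0 e q * A.defect mv d0 p M =
        A.defect mv d0 p q * A.defect mv d0 e M')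
      rw [mul_comm, mul_comm (A.defect mv d0 p q)]
      exact Subtype.ext s5.symm }
  obtain ⟨g, hg1, hg2⟩ := L.split
  let o : A.X := ⟨A.x, A.hx, Commute.refl _, A.hxy⟩
  obtain ⟨x1, x2⟩ := A.dx_spec
  obtain ⟨z1, z2⟩ := A.dz_spec C
  have hgo : g o = 0 := by
    have hoo : A.n o o = o := hinj (by
      rw [A.vec_n (Commute.refl _), show A.vec o = 0 from dbl _, add_zero])
    have hdef : A.defect mv d0 o o = 1 := by
      refine A.defect_eq C cu hd0 hmv (Commute.refl _) hoo ?_
      have eA : A.dy * A.dx * A.dy = A.dz := (A.dz_eq C).symm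
      have eB : A.dx * A.dz * A.dx = A.dy := by
        simp only [Frame.dz, mul_assoc, ThreeTrans.mul_self_mul C.cls.1 x1, ThreeTrans.mul_self C.cls.1 x1, mul_one]
      show A.dy * (A.dx * (A.dz * A.dx * A.dz) * A.dx) * A.dy = A.dx * tr mv A.x ((1 : U0) : G)
      have eC : A.dz * A.dx * A.dz = A.dy := by
        have hn : ¬ Commute A.dz A.dx := fun k => A.hxy (by
          have k' := k.map π
          rw [z2, x2] at k'
          exact ((conj_comm A.xx (Commute.refl _)).1 k').symm)
        rw [ThreeTrans.braid C.cls.1 z1 x1 hn, eB]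
      rw [eC, ← Frame.dz, ← eA]
      simp only [tr, mul_assoc, ThreeTrans.mul_self_mul C.cls.1 A.hdy, ThreeTrans.mul_self C.cls.1 A.hdy, mul_one,
        OneMemClass.coe_one, mul_inv_cancel]
    have e : Additive.ofMul (A.defect mv d0 o o) = g o + g o + g (A.n o o) := hg2 o o (L.self o)
    rw [hdef, hoo, L.two, zero_add] at e
    exact e.symm
  let sh : A.X → G := fun p => ((Additive.toMul (g p) : U0) : G)
  have hsh : ∀ p, sh p ∈ U0 := fun p => (Additive.toMul (g p) : U0).2
  let s1 : H → G := fun u =>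
    if hu : u ∈ A.S ∧ Commute u A.x ∧ ¬ Commute u A.y then A.s0 u * tr mv u (sh ⟨u, hu⟩) else A.s0 u
  have s1X : ∀ p : A.X, s1 p = A.s0 p * tr mv (p : H) (sh p) := fun p => dif_pos p.2
  have s1C : ∀ u, Commute u A.y → s1 u = A.s0 u := fun u k => dif_neg fun hu => hu.2.2 k
  obtain ⟨fy1, fy2⟩ : A.dy ∈ D ∧ π A.dy = A.y := ⟨A.hdy, A.hdy'⟩
  have spec1 : ∀ u ∈ {u | u ∈ A.S ∧ Commute u A.x}, s1 u ∈ D ∧ π (s1 u) = u := fun u hu => by
    by_cases k : Commute u A.y
    · rw [s1C u k]; exact A.s0_spec hu.1 hu.2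
    let p : A.X := ⟨u, hu.1, hu.2, k⟩
    obtain ⟨p1, p2⟩ := A.s0_spec hu.1 hu.2
    have hb := tr_mem C cu A.radd hd0 hmv (A.sub hu.1) (hsh p)
    rw [s1X p]
    refine ⟨lift_mul C cu A.radd hd0 hmv p1 fy1 (fun c => k (by simpa only [p2, fy2] using c.map π))
      (p2.symm ▸ hb), ?_⟩
    rw [map_mul, p2, U_ker C.hyp hb, mul_one]
  have hab1 : ∀ a ∈ {u | u ∈ A.S ∧ Commute u A.x}, ∀ b ∈ {u | u ∈ A.S ∧ Commute u A.x}, ¬ Commute a b →
      s1 a * s1 b * s1 a = s1 (a * b * a) := by
    intro a ha b hb hab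
    obtain ⟨a1, a2⟩ := A.s0_spec ha.1 ha.2
    obtain ⟨b1, b2⟩ := A.s0_spec hb.1 hb.2
    have hn : ¬ Commute (A.s0 a) (A.s0 b) := fun k => hab (by simpa only [a2, b2] using k.map π)
    have hpi : π (A.s0 a * A.s0 b * A.s0 a) = a * b * a := by rw [map_mul, map_mul, a2, b2]
    have hrow := A.r_conj ha.1 hb.1 hab
    -- the shifts are equal on apart members
    have sh_eq : ∀ {p q : A.X}, ¬ Commute (p : H) q → sh p = sh q := fun {p q} k => by
      show ((Additive.toMul (g p) : U0) : G) = _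
      rw [hg1 p q ((A.vec_one_iff p q).2 k)]
    have shift : ∀ {sa sb : G}, sa ∈ U0 → sb ∈ U0 →
        A.s0 a * tr mv a sa * (A.s0 b * tr mv b sb) * (A.s0 a * tr mv a sa) =
          A.s0 (a * b * a) * tr mv (a * b * a) (sa * sb) := fun {sa sb} hsa hsb => by
      have := line_shift C cu A.radd hd0 hmv a1 b1 hn hsa hsb
      rwa [a2, b2, hpi, A.sec.2 a ha b hb hab] at this
    have one : ∀ {u : H}, A.s0 u * tr mv u 1 = A.s0 u := fun {u} => by simp [tr]
    by_cases ka : Commute a A.y <;> by_cases kb : Commute b A.y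
    · rw [s1C a ka, s1C b kb, s1C _ ((ka.mul_left kb).mul_left ka)]
      exact A.sec.2 a ha b hb hab
    · let q : A.X := ⟨b, hb.1, hb.2, kb⟩
      let r : A.X := ⟨a * b * a, A.conj_X ha.1 ha.2 ka q⟩
      have hr : ¬ Commute (q : H) r := fun k => hab ((ThreeTrans.braid A.cls.1 (A.sub ha.1) (A.sub hb.1) hab ▸ k :
        Commute b (b * a * b)) |> fun k' =>
          ((conj_comm (ThreeTrans.mul_self A.cls.1 (A.sub hb.1)) (Commute.refl b)).1 k'.symm))
      rw [s1C a ka, s1X q, s1X r]
      have := shift (one_mem _) (hsh q)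
      rw [one, one_mul] at this
      rw [this, ← sh_eq hr]
    · let p : A.X := ⟨a, ha.1, ha.2, ka⟩
      let r : A.X := ⟨a * b * a, (A.cl _ ha.1 _ hb.1), (ha.2.mul_left hb.2).mul_left ha.2, fun k => ka (by
        refine (A.r0 A.hy).1 ?_
        have := (row_zero_iff (E := π '' D) (A.sub A.hy)).2 k
        rwa [hrow, Pi.add_apply, row_comm kb, add_zero] at this)⟩
      have hr : ¬ Commute (p : H) r := fun k => hab
        ((conj_comm (ThreeTrans.mul_self A.cls.1 (A.sub ha.1)) (Commute.refl a)).1 k.symm).symm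
      rw [s1X p, s1C b kb, s1X r]
      have := shift (hsh p) (one_mem _)
      rw [one, mul_one] at this
      rw [this, ← sh_eq hr]
    · let p : A.X := ⟨a, ha.1, ha.2, ka⟩
      let q : A.X := ⟨b, hb.1, hb.2, kb⟩
      rw [s1X p, s1X q, s1C _ (A.line_mem (p := p) (q := q) hab).2.2.1, shift (hsh p) (hsh q),
        sh_eq (p := p) (q := q) hab, U_sq C.hyp (hsh q), one]
  let A' : Frame π D := { A with s0 := s1, sec := ⟨spec1, hab1⟩ }
  have hdx : A'.dx = A.dx := by
    show s1 A.x = A.s0 A.x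
    rw [show s1 A.x = A.s0 A.x * tr mv A.x (sh o) from s1X o,
      show sh o = 1 by show ((Additive.toMul (g o) : U0) : G) = 1; rw [hgo]; rfl]
    simp [tr]
  refine A'.glue C fun p q hpq => ?_
  let p' : A.X := p
  let q' : A.X := q
  have hn' : ((A'.n p q : A'.X) : H) = (A.n p' q' : H) := by rw [A'.n_val hpq, A.n_val hpq]; rfl
  show A.dy * (s1 p * (A'.dz * s1 q * A'.dz) * s1 p) * A.dy = s1 (A'.n p q : H)
  rw [hn', show A'.dz = A.dz from by show A'.dx * A.dy * A'.dx = _; rw [hdx]; rfl, s1X p', s1X q', s1X (A.n p' q')]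
  have e0 : Additive.ofMul (A.defect mv d0 p' q') = g p' + g q' + g (A.n p' q') := hg2 p' q' ((hz0 p' q').2 hpq)
  have e' : (A.defect mv d0 p' q' : G) = sh p' * sh q' * sh (A.n p' q') := congrArg Subtype.val e0
  obtain ⟨p1, p2⟩ := A.s0_spec p'.2.1 p'.2.2.1
  obtain ⟨q1, q2⟩ := A.s0_spec q'.2.1 q'.2.2.1
  have bD : A.dz * A.s0 q' * A.dz ∈ D := conj_mem' C.hyp q1 z1
  have pb : π (A.dz * A.s0 q' * A.dz) = A.z * (q' : H) * A.z := by rw [map_mul, map_mul, q2, z2]
  have hb' : A.dz * (A.s0 q' * tr mv (q' : H) (sh q')) * A.dz =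
      A.dz * A.s0 q' * A.dz * tr mv (π (A.dz * A.s0 q' * A.dz)) (sh q') := by
    rw [pb, ← z2, ← tr_conj_mem C cu A.radd hd0 hmv z1 (A.sub q'.2.1) (hsh q')]
    simp only [mul_assoc, ThreeTrans.mul_self_mul C.cls.1 z1]
  have hnp : ¬ Commute (A.s0 p') (A.dz * A.s0 q' * A.dz) := fun k => (A.mid hpq).1 (by
    simpa only [p2, pb] using k.map π)
  have hls := line_shift C cu A.radd hd0 hmv p1 bD hnp (hsh p') (hsh q')
  rw [p2] at hls
  obtain ⟨l1, l2⟩ := A.lift_spec C p' q'
  set N := A.n p' q'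
  have hw : π (A.dy) * π (A.lift p' q') * π A.dy = (N : H) := by rw [l2, A.hdy', A.n_val hpq]; rfl
  rw [hb', hls]
  show A.dy * (A.lift p' q' * tr mv (π (A.lift p' q')) (sh p' * sh q')) * A.dy = _
  rw [show A.dy * (A.lift p' q' * tr mv (π (A.lift p' q')) (sh p' * sh q')) * A.dy =
      (A.dy * A.lift p' q' * A.dy) * (A.dy * tr mv (π (A.lift p' q')) (sh p' * sh q') * A.dy) by
    simp only [mul_assoc, ThreeTrans.mul_self_mul C.cls.1 A.hdy],
    tr_conj_mem C cu A.radd hd0 hmv A.hdy ⟨_, l1, rfl⟩ (mul_mem (hsh p') (hsh q')), hw,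
    A.defect_spec C cu hd0 hmv hpq, e', mul_assoc, ← tr_mul]
  have hcm : sh p' * sh q' * sh N * (sh p' * sh q') = sh N := by
    have hc := (U_comm C.hyp (hsh N) (mul_mem (hsh p') (hsh q'))).eq
    rw [mul_assoc _ (sh N), hc, ← mul_assoc, U_sq C.hyp (mul_mem (hsh p') (hsh q')), one_mul]
  rw [hcm]

end Frame

variable {G : Type u} [Group G] [Finite G] {H : Type v} [Group H] [Finite H] {π : G →* H} {D : Set G}
  (C : Ctx π D) (cu : ∀ x ∈ π '' D, ∀ y ∈ π '' D, CU π D x y) (hR : RowAdd (π '' D)) (h2 : pCore 2 H = ⊥)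
  (hne : ∀ d ∈ D, π d ≠ 1)

include C cu hR h2 hne

/-- Every closed set of points has a section. -/
theorem exists_sec {d0 : G} (hd0 : d0 ∈ D) {mv : H → G}
    (hmv : ∀ u ∈ π '' D, π (mv u) * π d0 * (π (mv u))⁻¹ = u) :
    ∀ N : ℕ, ∀ S : Set H, S.ncard ≤ N → S ⊆ π '' D → (∀ a ∈ S, ∀ b ∈ S, a * b * a ∈ S) →
      ∃ s, Sec π D S s := by
  classical
  have hE := C.cls' hne
  have base : ∀ S : Set H, S ⊆ π '' D → (∀ a ∈ S, ∀ b ∈ S, Commute a b) → ∃ s, Sec π D S s := fun S hS hc =>
    ⟨fun u => if h : u ∈ π '' D then h.choose else 1, fun u hu => by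
      simp only [dif_pos (hS hu)]; exact (hS hu).choose_spec, fun a ha b hb k => absurd (hc a ha b hb) k⟩
  intro N
  induction N with
  | zero =>
    intro S hS hsub hcl
    refine base S hsub fun a ha => absurd ((Set.ncard_pos (Set.toFinite _)).2 ⟨a, ha⟩) (by omega)
  | succ N ih =>
    intro S hS hsub hcl
    by_cases hc : ∀ a ∈ S, ∀ b ∈ S, Commute a b
    · exact base S hsub hc
    push Not at hc
    obtain ⟨x, hx, y, hy, hxy⟩ := hc
    obtain ⟨s0, hs0⟩ := ih {u | u ∈ S ∧ Commute u x} (by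
      have : {u | u ∈ S ∧ Commute u x}.ncard < S.ncard :=
        Set.ncard_lt_ncard ⟨fun u hu => hu.1, fun k => hxy (k hy).2.symm⟩ (Set.toFinite _)
      omega) (fun u hu => hsub hu.1) (fun a ha b hb => ⟨hcl a ha.1 b hb.1, (ha.2.mul_left hb.2).mul_left ha.2⟩)
    obtain ⟨dy, hdy, hdy'⟩ := hsub hy
    exact Frame.extend ⟨hE, hR, S, hsub, hcl, x, y, hx, hy, hxy, s0, hs0, dy, hdy, hdy'⟩ C cu hd0 hmv h2

/-- Points with additive rows give the radical a complement. -/
theorem complement_of_rowAdd (hel : IsElementaryAbelian 2 (pCore 2 G)) :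
    ∃ K : Subgroup G, (pCore 2 G).IsComplement' K := by
  classical
  haveI : (pCore 2 G).Normal := Grp.pCore_isNormal
  have h := C.hyp
  have hE := C.cls' hne
  obtain ⟨d0, hd0, -⟩ := C.cls.2.1
  have hex : ∀ u ∈ π '' D, ∃ g : G, π g * π d0 * (π g)⁻¹ = u := by
    rintro _ ⟨d, hd, rfl⟩
    obtain ⟨g, rfl⟩ := ThreeTrans.transitive C.cls hd0 hd
    exact ⟨g, by simp⟩
  let mv : H → G := fun u => if hu : ∃ g : G, π g * π d0 * (π g)⁻¹ = u then hu.choose else 1
  have hmv : ∀ u ∈ π '' D, π (mv u) * π d0 * (π (mv u))⁻¹ = u := fun u hu => by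
    simp only [mv, dif_pos (hex u hu)]; exact (hex u hu).choose_spec
  obtain ⟨s, hs, hsec⟩ := exists_sec C cu hR h2 hne hd0 hmv _ (π '' D) le_rfl subset_rfl fun a ha b hb => by
    simpa [ThreeTrans.inv_eq hE.1 ha] using ThreeTrans.conj_mem hE a hb
  set L := s '' (π '' D)
  set K := Subgroup.closure L with hK
  have hgenL : ∀ a ∈ π '' D, ∀ u ∈ π '' D, s a * s u * s a = s (a * u * a) := by
    intro a ha u hu
    by_cases k : Commute a u
    · rw [Frame.lift_fix C (hs a ha).1 (hs u hu).1 (hs a ha).2 (hs u hu).2 k, k.eq, mul_assoc,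
        ThreeTrans.mul_self hE.1 ha, mul_one]
    · exact hsec a ha u hu k
  have hfix : ∀ k ∈ K, ∀ u ∈ π '' D, k * s u * k⁻¹ = s (π k * u * (π k)⁻¹) := by
    intro k hk
    induction hk using Subgroup.closure_induction_left with
    | one => intro u _; simp
    | mul_left e he t _ ih =>
      intro u hu
      obtain ⟨a, ha, rfl⟩ := he
      rw [show s a * t * s u * (s a * t)⁻¹ = s a * (t * s u * t⁻¹) * (s a)⁻¹ by group, ih u hu,
        ThreeTrans.inv_eq C.cls.1 (hs a ha).1, hgenL a ha _ (point_conj C t hu), map_mul, (hs a ha).2, mul_inv_rev,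
        ThreeTrans.inv_eq hE.1 ha]
      simp only [mul_assoc]
    | inv_mul_cancel e he t _ ih =>
      intro u hu
      obtain ⟨a, ha, rfl⟩ := he
      rw [ThreeTrans.inv_eq C.cls.1 (hs a ha).1,
        show s a * t * s u * (s a * t)⁻¹ = s a * (t * s u * t⁻¹) * (s a)⁻¹ by group, ih u hu,
        ThreeTrans.inv_eq C.cls.1 (hs a ha).1, hgenL a ha _ (point_conj C t hu), map_mul, (hs a ha).2, mul_inv_rev,
        ThreeTrans.inv_eq hE.1 ha]
      simp only [mul_assoc]
  refine ⟨K, Subgroup.isComplement'_of_disjoint_and_mul_eq_univ ?_ ?_⟩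
  · rw [disjoint_iff, eq_bot_iff]
    rintro q ⟨hq, hqK⟩
    have hq1 := (C.ker q).2 hq
    rw [← C.cen]
    refine Subgroup.mem_center_iff.2 fun g => ?_
    have hle : Subgroup.closure D ≤ Subgroup.centralizer {q} := (Subgroup.closure_le _).2 fun d hd => by
      rw [SetLike.mem_coe, Subgroup.mem_centralizer_singleton_iff]
      have hu : π d ∈ π '' D := ⟨d, hd, rfl⟩
      have h1 := hfix q hqK _ hu
      rw [hq1, one_mul, inv_one, mul_one] at h1
      have hc : Commute q (s (π d)) := mul_inv_eq_iff_eq_mul.1 h1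
      have hm := pair_mem (π := π) (hs _ hu).1 hd (hs _ hu).2
      have hc' : Commute q (s (π d) * d) := congrArg Subtype.val
        (hel.1.is_comm.comm (⟨q, hq⟩ : pCore 2 G) ⟨_, (C.ker _).1 (U_ker h hm)⟩)
      have := hc.mul_right hc'
      rw [ThreeTrans.mul_self_mul C.cls.1 (hs _ hu).1] at this
      exact this.eq.symm
    exact Subgroup.mem_centralizer_singleton_iff.1 (hle (C.cls.2.2 ▸ Subgroup.mem_top g))
  · rw [← Subgroup.normal_mul, Subgroup.coe_eq_univ, eq_top_iff]
    intro g _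
    have himg : (⊤ : Subgroup H) ≤ K.map π := by
      rw [← hE.2.2, Subgroup.closure_le]
      exact fun u hu => ⟨s u, Subgroup.subset_closure ⟨u, hu, rfl⟩, (hs u hu).2⟩
    obtain ⟨k, hk, e⟩ := himg (Subgroup.mem_top (π g))
    rw [show g = g * k⁻¹ * k by group]
    exact mul_mem (Subgroup.mem_sup_left ((C.ker _).1 (by rw [map_mul, map_inv, e, mul_inv_cancel])))
      (Subgroup.mem_sup_right hk)

end Cfsg.Agent.Fus.TwoRadical
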