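import Cfsg.Agent.Lib.Fus.TwoRadical.RowSplit

/-!
The points commuting with a point of a line carry the section over to the whole of a closed set.
-/

set_option autoImplicit false
set_option linter.style.haveILetI false
set_option linter.unusedSectionVars false

namespace Cfsg.Agent.Fus.TwoRadical

open Cfsg Cfsg.Agent.Spor Cfsg.Agent.Fus.SUTwoRadical Cfsg.Agent.Spor.FischerThm
open Cfsg.Agent.Grp.PolarRec (row row_comm row_nc)

universe u v

/-- A closed set with a line and a section on the members commuting with one of its points. -/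
structure Frame {G : Type u} {H : Type v} [Group G] [Group H] (π : G →* H) (D : Set G) where
  cls : IsThreeTranspositionClass (π '' D)
  radd : RowAdd (π '' D)
  S : Set H
  sub : S ⊆ π '' D
  cl : ∀ a ∈ S, ∀ b ∈ S, a * b * a ∈ S
  x : H
  y : H
  hx : x ∈ S
  hy : y ∈ S
  hxy : ¬ Commute x y
  s0 : H → G
  sec : Sec π D {u | u ∈ S ∧ Commute u x} s0
  dy : G
  hdy : dy ∈ D
  hdy' : π dy = y

namespace Frame

variable {G : Type u} [Group G] [Finite G] {H : Type v} [Group H] [Finite H] {π : G →* H} {D : Set G}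
  (A : Frame π D)

/-- The third point. -/
def z : H := A.x * A.y * A.x

/-- The lift of the first point. -/
def dx : G := A.s0 A.x

/-- The lift of the third point. -/
def dz : G := A.dx * A.dy * A.dx

/-- The members of the set commuting with the first point only. -/
abbrev X : Type v := {u : H // u ∈ A.S ∧ Commute u A.x ∧ ¬ Commute u A.y}

theorem xx : A.x * A.x = 1 := ThreeTrans.mul_self A.cls.1 (A.sub A.hx)

theorem yy : A.y * A.y = 1 := ThreeTrans.mul_self A.cls.1 (A.sub A.hy)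

theorem hz : A.z ∈ A.S := A.cl _ A.hx _ A.hy

theorem zz : A.z * A.z = 1 := ThreeTrans.mul_self A.cls.1 (A.sub A.hz)

theorem z_eq : A.z = A.y * A.x * A.y := ThreeTrans.braid A.cls.1 (A.sub A.hx) (A.sub A.hy) A.hxy

theorem r_z : row (π '' D) A.z = row (π '' D) A.x + row (π '' D) A.y :=
  row_add' A.cls A.radd (A.sub A.hx) (A.sub A.hy) A.hxy

theorem r_self {a : H} : row (π '' D) a a = 0 := row_comm (Commute.refl a)

theorem r_symm {a b : H} (ha : a ∈ A.S) (hb : b ∈ A.S) : row (π '' D) a b = row (π '' D) b a :=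
  Spor.FischerThm.row_symm (A.sub ha) (A.sub hb)

theorem r_conj {a b : H} (ha : a ∈ A.S) (hb : b ∈ A.S) (hab : ¬ Commute a b) :
    row (π '' D) (a * b * a) = row (π '' D) a + row (π '' D) b :=
  row_add' A.cls A.radd (A.sub ha) (A.sub hb) hab

theorem r0 {a b : H} (hb : b ∈ A.S) : row (π '' D) a b = 0 ↔ Commute a b := row_zero_iff (A.sub hb)

theorem r1 {a b : H} (hb : b ∈ A.S) : row (π '' D) a b = 1 ↔ ¬ Commute a b := row_one_iff (A.sub hb)

/-- The pattern of the members commuting with one point of the line. -/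
theorem pattern {u : H} (hu : u ∈ A.S) :
    row (π '' D) u A.z = row (π '' D) u A.x + row (π '' D) u A.y := by
  rw [A.r_symm hu A.hz, A.r_symm hu A.hx, A.r_symm hu A.hy, A.r_z]
  rfl

theorem X_x (p : A.X) : row (π '' D) (p : H) A.x = 0 := row_comm p.2.2.1

theorem X_y (p : A.X) : row (π '' D) (p : H) A.y = 1 := row_nc (A.sub A.hy) p.2.2.2

theorem X_z (p : A.X) : row (π '' D) (p : H) A.z = 1 := by
  rw [A.pattern p.2.1, A.X_x, A.X_y, zero_add]

theorem X_apart (p : A.X) : ¬ Commute A.z (p : H) := fun k => (A.r1 A.hz).1 (A.X_z p) k.symm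

theorem rzq (q : A.X) : row (π '' D) (A.z * q * A.z) = row (π '' D) A.z + row (π '' D) (q : H) :=
  A.r_conj A.hz q.2.1 (A.X_apart q)

/-- Orthogonal members of the first class give a point of the third. -/
theorem mid {p q : A.X} (h : Commute (p : H) q) :
    ¬ Commute (p : H) (A.z * q * A.z) ∧
      row (π '' D) ((p : H) * (A.z * q * A.z) * p) = row (π '' D) (p : H) + row (π '' D) A.z + row (π '' D) (q : H) ∧
      ¬ Commute A.y ((p : H) * (A.z * q * A.z) * p) ∧ Commute A.z ((p : H) * (A.z * q * A.z) * p) := by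
  have hq' : A.z * q * A.z ∈ A.S := A.cl _ A.hz _ q.2.1
  have h1 : ¬ Commute (p : H) (A.z * q * A.z) := (A.r1 hq').1 (by
    rw [A.r_symm p.2.1 hq', A.rzq, Pi.add_apply, A.r_symm A.hz p.2.1, A.X_z, row_comm h.symm, add_zero])
  have hc := A.cl _ p.2.1 _ hq'
  have h2 : row (π '' D) ((p : H) * (A.z * q * A.z) * p) =
      row (π '' D) (p : H) + row (π '' D) A.z + row (π '' D) (q : H) := by
    rw [A.r_conj p.2.1 hq' h1, A.rzq, add_assoc]
  refine ⟨h1, h2, fun k => (A.r1 A.hy).1 ?_ k.symm, ((A.r0 A.hz).1 ?_).symm⟩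
  · rw [h2, Pi.add_apply, Pi.add_apply, A.X_y, A.X_y, A.r_symm A.hz A.hy, A.pattern A.hy,
      r_self, row_nc (A.sub A.hx) fun k => A.hxy k.symm]
    decide
  · rw [h2, Pi.add_apply, Pi.add_apply, A.X_z, A.X_z, r_self]
    decide

/-- The sum of two orthogonal members. -/
def third (p q : A.X) : H := A.y * ((p : H) * (A.z * q * A.z) * p) * A.y

theorem third_row {p q : A.X} (h : Commute (p : H) q) :
    row (π '' D) (A.third p q) = row (π '' D) A.x + row (π '' D) (p : H) + row (π '' D) (q : H) := by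
  obtain ⟨-, h2, h3, -⟩ := A.mid h
  rw [third, A.r_conj A.hy (A.cl _ p.2.1 _ (A.cl _ A.hz _ q.2.1)) h3, h2, A.r_z]
  funext f
  simp only [Pi.add_apply]
  generalize row (π '' D) A.x f = a
  generalize row (π '' D) A.y f = b
  generalize row (π '' D) (p : H) f = c
  generalize row (π '' D) (q : H) f = d
  revert a b c d
  decide

theorem third_mem {p q : A.X} (h : Commute (p : H) q) :
    A.third p q ∈ A.S ∧ Commute (A.third p q) A.x ∧ ¬ Commute (A.third p q) A.y := by
  refine ⟨A.cl _ A.hy _ (A.cl _ p.2.1 _ (A.cl _ A.hz _ q.2.1)), (A.r0 A.hx).1 ?_, (A.r1 A.hy).1 ?_⟩ <;>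
    rw [A.third_row h, Pi.add_apply, Pi.add_apply]
  · rw [r_self, A.X_x, A.X_x]; decide
  · rw [row_nc (A.sub A.hy) A.hxy, A.X_y, A.X_y]; decide

/-- The sum as a member. -/
noncomputable def n (p q : A.X) : A.X := by
  classical exact if h : Commute (p : H) q then ⟨A.third p q, A.third_mem h⟩ else p

theorem n_val {p q : A.X} (h : Commute (p : H) q) : (A.n p q : H) = A.third p q := by simp [n, h]

/-- The vector of a member. -/
noncomputable def vec (p : A.X) : H → ZMod 2 := row (π '' D) (p : H) + row (π '' D) A.x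

theorem vec_apply (p q : A.X) : A.vec p (q : H) = row (π '' D) (p : H) q := by
  rw [vec, Pi.add_apply, row_comm (D := π '' D) q.2.2.1.symm, add_zero]

theorem vec_zero_iff (p q : A.X) : A.vec p (q : H) = 0 ↔ Commute (p : H) q := by
  rw [A.vec_apply, A.r0 q.2.1]

theorem vec_one_iff (p q : A.X) : A.vec p (q : H) = 1 ↔ ¬ Commute (p : H) q := by
  rw [A.vec_apply, A.r1 q.2.1]

theorem vec_n {p q : A.X} (h : Commute (p : H) q) : A.vec (A.n p q) = A.vec p + A.vec q := by
  rw [vec, A.n_val h, A.third_row h]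
  funext f
  simp only [vec, Pi.add_apply]
  generalize row (π '' D) A.x f = a
  generalize row (π '' D) (p : H) f = b
  generalize row (π '' D) (q : H) f = c
  revert a b c
  decide

theorem vec_inj (h2 : pCore 2 H = ⊥) : Function.Injective A.vec := fun p q k => by
  have k' : row (π '' D) (p : H) = row (π '' D) (q : H) := add_right_cancel k
  exact Subtype.ext (Block.FischerTypes.twinFree_of_core A.cls h2 _ _ ⟨A.sub p.2.1, A.sub q.2.1,
    fun f hf => row_iff hf hf (congrFun k' f)⟩)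

/-- An apart pair swaps the members. -/
theorem line_mem {p q : A.X} (h : ¬ Commute (p : H) q) :
    (p : H) * q * p ∈ A.S ∧ Commute ((p : H) * q * p) A.x ∧ Commute ((p : H) * q * p) A.y ∧
      Commute ((p : H) * q * p) A.z := by
  have hc := A.cl _ p.2.1 _ q.2.1
  have hr := A.r_conj p.2.1 q.2.1 h
  refine ⟨hc, (A.r0 A.hx).1 ?_, (A.r0 A.hy).1 ?_, (A.r0 A.hz).1 ?_⟩ <;> rw [hr, Pi.add_apply]
  · rw [A.X_x, A.X_x]; decide
  · rw [A.X_y, A.X_y]; decide
  · rw [A.X_z, A.X_z]; decide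

theorem conj_comm {c a b : H} (hc : c * c = 1) (h : Commute c b) : Commute (c * a * c) b ↔ Commute a b := by
  rw [comm_flip hc, show c * b * c = b by rw [h.eq, mul_assoc, hc, mul_one]]

/-- The conjugate of a member by a member commuting with the line. -/
theorem conj_X {c : H} (hc : c ∈ A.S) (cx : Commute c A.x) (cy : Commute c A.y) (u : A.X) :
    c * (u : H) * c ∈ A.S ∧ Commute (c * (u : H) * c) A.x ∧ ¬ Commute (c * (u : H) * c) A.y := by
  have cc := ThreeTrans.mul_self A.cls.1 (A.sub hc)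
  exact ⟨A.cl _ hc _ u.2.1, (conj_comm cc cx).2 u.2.2.1, fun k => u.2.2.2 ((conj_comm cc cy).1 k)⟩

variable (C : Ctx π D) (cu : ∀ x ∈ π '' D, ∀ y ∈ π '' D, CU π D x y) {d0 : G} (hd0 : d0 ∈ D) {mv : H → G}
  (hmv : ∀ u ∈ π '' D, π (mv u) * π d0 * (π (mv u))⁻¹ = u)

theorem s0_spec {u : H} (hu : u ∈ A.S) (h : Commute u A.x) : A.s0 u ∈ D ∧ π (A.s0 u) = u := A.sec.1 u ⟨hu, h⟩

theorem dx_spec : A.dx ∈ D ∧ π A.dx = A.x := A.s0_spec A.hx (Commute.refl _)

include C in
theorem dz_spec : A.dz ∈ D ∧ π A.dz = A.z :=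
  ⟨conj_mem' C.hyp A.hdy A.dx_spec.1, by rw [dz, map_mul, map_mul, A.dx_spec.2, A.hdy', z]⟩

include C in
theorem dz_eq : A.dz = A.dy * A.dx * A.dy :=
  ThreeTrans.braid C.cls.1 A.dx_spec.1 A.hdy fun k => A.hxy (by
    have := k.map π
    rwa [A.dx_spec.2, A.hdy'] at this)

include C in
/-- Lifts commute with lifts of commuting points. -/
theorem lift_commute {d e : G} {a b : H} (hd : d ∈ D) (he : e ∈ D) (ea : π d = a) (eb : π e = b)
    (h : Commute a b) : Commute d e := commute_image C.hyp hd he (ea ▸ eb ▸ h)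

include C in
theorem lift_fix {d e : G} {a b : H} (hd : d ∈ D) (he : e ∈ D) (ea : π d = a) (eb : π e = b)
    (h : Commute a b) : d * e * d = e := by
  rw [(lift_commute C hd he ea eb h).eq, mul_assoc, ThreeTrans.mul_self C.cls.1 hd, mul_one]

include C in
/-- The section commutes with conjugation by one of its members. -/
theorem s0_conj {a b : H} (ha : a ∈ A.S) (hb : b ∈ A.S) (ca : Commute a A.x) (cb : Commute b A.x) :
    A.s0 a * A.s0 b * A.s0 a = A.s0 (a * b * a) := by
  by_cases h : Commute a b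
  · rw [lift_fix C (A.s0_spec ha ca).1 (A.s0_spec hb cb).1 (A.s0_spec ha ca).2 (A.s0_spec hb cb).2 h,
      h.eq, mul_assoc, ThreeTrans.mul_self A.cls.1 (A.sub ha), mul_one]
  · exact A.sec.2 a ⟨ha, ca⟩ b ⟨hb, cb⟩ h

/-- The lift in the third class of an orthogonal pair. -/
def lift (p q : A.X) : G := A.s0 p * (A.dz * A.s0 q * A.dz) * A.s0 p

include C in
theorem lift_spec (p q : A.X) :
    A.lift p q ∈ D ∧ π (A.lift p q) = (p : H) * (A.z * q * A.z) * p := by
  obtain ⟨p1, p2⟩ := A.s0_spec p.2.1 p.2.2.1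
  obtain ⟨q1, q2⟩ := A.s0_spec q.2.1 q.2.2.1
  obtain ⟨z1, z2⟩ := A.dz_spec C
  exact ⟨conj_mem' C.hyp (conj_mem' C.hyp q1 z1) p1, by simp only [lift, map_mul, p2, q2, z2]⟩

include C cu hd0 hmv in
theorem exists_defect {p q : A.X} (h : Commute (p : H) q) :
    ∃ κ ∈ U π D (π d0), A.dy * A.lift p q * A.dy = A.s0 (A.n p q) * tr mv (A.n p q : H) κ := by
  obtain ⟨l1, l2⟩ := A.lift_spec C p q
  obtain ⟨n1, n2⟩ := A.s0_spec (A.n p q).2.1 (A.n p q).2.2.1
  have e : π (A.dy * A.lift p q * A.dy) = (A.n p q : H) := by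
    rw [map_mul, map_mul, l2, A.hdy', A.n_val h]; rfl
  have hm := pair_mem (π := π) n1 (conj_mem' C.hyp l1 A.hdy) (by rw [n2, e])
  rw [n2] at hm
  obtain ⟨κ, hκ, ek⟩ := tr_surj C cu A.radd hd0 hmv (A.sub (A.n p q).2.1) hm
  exact ⟨κ, hκ, by rw [ek, ThreeTrans.mul_self_mul C.cls.1 n1]⟩

/-- The defect of an orthogonal pair. -/
noncomputable def defect (mv : H → G) (d0 : G) (p q : A.X) : U π D (π d0) := by
  classical
  exact if h : ∃ κ ∈ U π D (π d0), A.dy * A.lift p q * A.dy = A.s0 (A.n p q) * tr mv (A.n p q : H) κ then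
    ⟨h.choose, h.choose_spec.1⟩ else 1

include C cu hd0 hmv

theorem defect_spec {p q : A.X} (h : Commute (p : H) q) :
    A.dy * A.lift p q * A.dy = A.s0 (A.n p q) * tr mv (A.n p q : H) (A.defect mv d0 p q) := by
  have he := A.exists_defect C cu hd0 hmv h
  rw [defect, dif_pos he]
  exact he.choose_spec.2

theorem defect_eq {p q m : A.X} (h : Commute (p : H) q) (hm : A.n p q = m) {κ : U π D (π d0)}
    (e : A.dy * A.lift p q * A.dy = A.s0 m * tr mv (m : H) κ) : A.defect mv d0 p q = κ := by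
  subst hm
  rw [A.defect_spec C cu hd0 hmv h] at e
  exact Subtype.ext (tr_inj _ (mul_left_cancel e))

theorem defect_swap {p q : A.X} (h : Commute (p : H) q) (hn : A.n q p = A.n p q) :
    A.defect mv d0 q p = A.defect mv d0 p q := by
  refine A.defect_eq C cu hd0 hmv h.symm hn ?_
  rw [← A.defect_spec C cu hd0 hmv h]
  congr 2
  obtain ⟨p1, p2⟩ := A.s0_spec p.2.1 p.2.2.1
  obtain ⟨q1, q2⟩ := A.s0_spec q.2.1 q.2.2.1
  obtain ⟨z1, z2⟩ := A.dz_spec C
  obtain ⟨l1, l2⟩ := A.lift_spec C p q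
  have fix : A.dz * A.lift p q * A.dz = A.lift p q := lift_fix C z1 l1 z2 l2 (A.mid h).2.2.2
  have hne : ¬ Commute (A.s0 q) (A.dz * A.s0 p * A.dz) := fun k => (A.mid h.symm).1 (by
    have := k.map π
    simpa only [map_mul, p2, q2, z2] using this)
  have hb := ThreeTrans.braid C.cls.1 q1 (conj_mem' C.hyp p1 z1) hne
  rw [← fix, lift, hb, lift]
  simp only [mul_assoc, ThreeTrans.mul_self_mul C.cls.1 z1]

theorem defect_move {p q : A.X} (h : Commute (p : H) q) (h' : Commute (A.n p q : H) q)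
    (hn : A.n (A.n p q) q = p) : A.defect mv d0 (A.n p q) q = A.defect mv d0 p q := by
  refine A.defect_eq C cu hd0 hmv h' hn ?_
  obtain ⟨p1, p2⟩ := A.s0_spec p.2.1 p.2.2.1
  obtain ⟨q1, q2⟩ := A.s0_spec q.2.1 q.2.2.1
  obtain ⟨z1, z2⟩ := A.dz_spec C
  set b := A.dz * A.s0 q * A.dz with hb
  set κ := (A.defect mv d0 p q : G)
  set N := A.n p q
  obtain ⟨n1, n2⟩ := A.s0_spec N.2.1 N.2.2.1
  have hκ : κ ∈ U π D (π d0) := (A.defect mv d0 p q).2
  have bD : b ∈ D := conj_mem' C.hyp q1 z1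
  have pb : π b = A.z * q * A.z := by simp only [hb, map_mul, q2, z2]
  have hyb : Commute A.y (A.z * (q : H) * A.z) := by
    refine ((A.r0 A.hy).1 ?_).symm
    rw [A.rzq, Pi.add_apply, A.r_symm A.hz A.hy, A.pattern A.hy, r_self, row_nc (A.sub A.hx) fun k => A.hxy k.symm,
      A.X_y]
    decide
  have fb : A.dy * b * A.dy = b := lift_fix C A.hdy bD A.hdy' pb hyb
  obtain ⟨l1, l2⟩ := A.lift_spec C p q
  have spec := A.defect_spec C cu hd0 hmv h
  have hcy : A.y * ((A.n p q : H)) * A.y = (p : H) * (A.z * q * A.z) * p := by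
    rw [A.n_val h, third]
    simp only [← mul_assoc, A.yy, one_mul]
    simp only [mul_assoc, A.yy, mul_one]
  set c := (p : H) * (A.z * q * A.z) * p
  have hcS : c ∈ A.S := A.cl _ p.2.1 _ (A.cl _ A.hz _ q.2.1)
  have J : A.dy * A.s0 N * A.dy = A.lift p q * tr mv c κ := by
    have e1 : A.s0 N = A.dy * A.lift p q * A.dy * tr mv (N : H) κ := by
      rw [spec, mul_assoc, ← tr_mul]
      show A.s0 N = A.s0 N * tr mv (N : H) (κ * κ)
      rw [U_sq C.hyp hκ]
      simp [tr]
    have ew : π A.dy * (N : H) * π A.dy = c := by rw [A.hdy']; exact hcy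
    rw [e1, ← ew, ← tr_conj_mem C cu A.radd hd0 hmv A.hdy (A.sub N.2.1) hκ]
    simp only [mul_assoc, ThreeTrans.mul_self_mul C.cls.1 A.hdy]
  have hI : π (A.lift p q) = c := l2
  have apI : ¬ Commute (A.lift p q) b := fun k => (A.mid h).1 (by
    have k' := k.map π
    rw [hI, pb] at k'
    by_contra hn'
    have hbS := A.sub (A.cl _ A.hz _ q.2.1)
    rw [show c = (A.z * (q : H) * A.z) * p * (A.z * q * A.z) from
      ThreeTrans.braid A.cls.1 (A.sub p.2.1) hbS hn'] at k'
    exact hn' ((conj_comm (ThreeTrans.mul_self A.cls.1 hbS) (Commute.refl _)).1 k'))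
  have hJD : A.lift p q * tr mv c κ ∈ D := J ▸ conj_mem' C.hyp n1 A.hdy
  have hJπ : π (A.lift p q * tr mv c κ) = c := by
    rw [map_mul, hI, U_ker C.hyp (tr_mem C cu A.radd hd0 hmv (A.sub hcS) hκ), mul_one]
  have apJ : ¬ Commute (A.lift p q * tr mv c κ) b := fun k => apI (by
    refine lift_commute C l1 bD hI pb ?_
    have k' := k.map π
    rwa [hJπ, pb] at k')
  have hbc : π b * c * π b = (p : H) := by
    rw [pb]
    set b' := A.z * (q : H) * A.z
    have hbS : b' ∈ π '' D := A.sub (A.cl _ A.hz _ q.2.1)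
    have hbb := ThreeTrans.braid A.cls.1 (A.sub p.2.1) hbS (A.mid h).1
    show b' * ((p : H) * b' * p) * b' = p
    rw [hbb]
    simp only [mul_assoc, ThreeTrans.mul_self_mul A.cls.1 hbS, ThreeTrans.mul_self A.cls.1 hbS, mul_one]
  calc A.dy * A.lift N q * A.dy = (A.dy * A.s0 N * A.dy) * (A.dy * b * A.dy) * (A.dy * A.s0 N * A.dy) := by
        simp only [lift, ← hb, mul_assoc, ThreeTrans.mul_self_mul C.cls.1 A.hdy]
    _ = b * (A.lift p q * tr mv c κ) * b := by rw [fb, J, ThreeTrans.braid C.cls.1 hJD bD apJ]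
    _ = (b * A.lift p q * b) * (b * tr mv c κ * b) := by
        simp only [mul_assoc, ThreeTrans.mul_self_mul C.cls.1 bD]
    _ = A.s0 p * tr mv (p : H) κ := by
        rw [tr_conj_mem C cu A.radd hd0 hmv bD (A.sub hcS) hκ, hbc]
        congr 1
        have hpb : ¬ Commute (A.s0 p) b := fun k => (A.mid h).1 (by
          have := k.map π
          rwa [p2, pb] at this)
        rw [lift, ← hb, ThreeTrans.braid C.cls.1 p1 bD hpb]
        simp only [mul_assoc, ThreeTrans.mul_self_mul C.cls.1 bD, ThreeTrans.mul_self C.cls.1 bD, mul_one]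

end Frame

end Cfsg.Agent.Fus.TwoRadical
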