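import Cfsg.Agent.Lib.Fus.TwoRadical.Cocycle
import Cfsg.Agent.Lib.Fus.TwoRadical.Closed
import Cfsg.Agent.Lib.Fus.TwoRadical.Flat
import Cfsg.Agent.Lib.Fus.TwoRadical.Act
import Cfsg.Agent.Lib.Fus.TwoRadical.Reduce
import Cfsg.Agent.Lib.Block.FischerTypes.Basic

/-!
Points with additive rows admit a section of lifts closed under conjugation, so the radical has a
complement.
-/

set_option autoImplicit false
set_option linter.style.haveILetI false
set_option linter.unusedSectionVars false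

namespace Cfsg.Agent.Fus.TwoRadical

open Cfsg Cfsg.Agent.Spor Cfsg.Agent.Fus.SUTwoRadical Cfsg.Agent.Spor.FischerThm
open Cfsg.Agent.Grp.PolarRec (row row_comm row_nc)

universe u v

section rows

variable {H : Type*} [Group H] {E : Set H}

theorem row_zero_iff {a f : H} (hf : f ∈ E) : row E a f = 0 ↔ Commute a f :=
  ⟨fun k => by_contra fun n => one_ne_zero ((row_nc hf n).symm.trans k), row_comm⟩

theorem row_one_iff {a f : H} (hf : f ∈ E) : row E a f = 1 ↔ ¬ Commute a f :=
  ⟨fun k c => zero_ne_one ((row_comm c).symm.trans k), row_nc hf⟩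

theorem row_add' (h : IsThreeTranspositionClass E) (hR : RowAdd E) {a b : H} (ha : a ∈ E) (hb : b ∈ E)
    (hab : ¬ Commute a b) : row E (a * b * a) = row E a + row E b := funext fun f => by
  by_cases hf : f ∈ E
  · exact Spor.FischerThm.row_add h hR ha hb hab hf
  · classical
    simp [Cfsg.Agent.Grp.PolarRec.row, hf]

theorem back_conj {m x u : H} (k : m * x * m⁻¹ = u) : m⁻¹ * u * m = x := by subst k; group

theorem comm_flip {i a b : H} (hi : i * i = 1) : Commute (i * a * i) b ↔ Commute a (i * b * i) := by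
  have key : ∀ {a b : H}, Commute a b → Commute (i * a * i) (i * b * i) := fun {a b} k => by
    simpa [inv_eq_of_mul_eq_one_right hi, mul_assoc] using k.map (MulAut.conj i).toMonoidHom
  have ii : ∀ c : H, i * (i * c * i) * i = c := fun c => by
    rw [show i * (i * c * i) * i = (i * i) * c * (i * i) by simp only [mul_assoc], hi, one_mul, mul_one]
  exact ⟨fun k => by simpa only [ii] using key k, fun k => by simpa only [ii] using key k⟩

end rows

/-- Transport of a fibre group by a chosen element. -/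
def tr {G H : Type*} [Group G] (mv : H → G) (u : H) (a : G) : G := mv u * a * (mv u)⁻¹

/-- A choice of lifts closed under conjugation along the apart pairs of a set. -/
def Sec {G H : Type*} [Group G] [Group H] (π : G →* H) (D : Set G) (S : Set H) (s : H → G) : Prop :=
  (∀ x ∈ S, s x ∈ D ∧ π (s x) = x) ∧ ∀ a ∈ S, ∀ b ∈ S, ¬ Commute a b → s a * s b * s a = s (a * b * a)

variable {G : Type u} [Group G] [Finite G] {H : Type v} [Group H] [Finite H] {π : G →* H} {D : Set G}
  (C : Ctx π D) (cu : ∀ x ∈ π '' D, ∀ y ∈ π '' D, CU π D x y) (hR : RowAdd (π '' D))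

include C cu hR

/-- The stabiliser of a point acts trivially on its group. -/
theorem fix_of_rowAdd {d : G} (hd : d ∈ D) {g : G} (hg : π g * π d * (π g)⁻¹ = π d) {a : G}
    (ha : a ∈ U π D (π d)) : g * a * g⁻¹ = a := by
  have h := C.hyp
  have hfix : ∀ m ∈ Mon D d, ∀ a ∈ U π D (π d), m * a * m⁻¹ = a := by
    intro m hm
    induction hm using Subgroup.closure_induction with
    | mem m hm =>
      obtain ⟨e, he, f, hf, a1, a2, a3, rfl⟩ := hm
      exact fun a ha => tri_trivial h cu hd he hf a1 a2 a3 (hR _ ⟨e, he, rfl⟩ _ ⟨d, hd, rfl⟩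
        (apart_image h he hd fun k => a1 k.symm) _ ⟨f, hf, rfl⟩ (apart_image h hf he fun k => a2 k.symm)
        (apart_image h hf hd fun k => a3 k.symm)) ha
    | one => simp
    | mul p q hp hq ihp ihq =>
      intro a ha
      rw [show p * q * a * (p * q)⁻¹ = p * (q * a * q⁻¹) * p⁻¹ by group, ihq a ha, ihp a ha]
    | inv p hp ih =>
      intro a ha
      conv_lhs => rw [← ih a ha]
      group
  obtain ⟨m, hm, k⟩ := exists_mon h cu C.cls.2.2 hd hg
  rw [k a ha, hfix m hm a ha]

section transport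

variable {d0 : G} (hd0 : d0 ∈ D) {mv : H → G}
  (hmv : ∀ u ∈ π '' D, π (mv u) * π d0 * (π (mv u))⁻¹ = u)

include hd0 hmv

theorem tr_mem {u : H} (hu : u ∈ π '' D) {a : G} (ha : a ∈ U π D (π d0)) : tr mv u a ∈ U π D u := by
  have := U_conj C.hyp (mv u) ha
  rwa [hmv u hu] at this

theorem tr_surj {u : H} (hu : u ∈ π '' D) {b : G} (hb : b ∈ U π D u) :
    ∃ a ∈ U π D (π d0), tr mv u a = b := by
  refine ⟨(mv u)⁻¹ * b * mv u, ?_, by rw [tr]; group⟩
  have := U_conj C.hyp (mv u)⁻¹ hb
  rw [inv_inv] at this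
  simpa only [map_inv, inv_inv, back_conj (hmv u hu)] using this

omit C cu hR hd0 hmv in
theorem tr_mul (u : H) (a b : G) : tr mv u (a * b) = tr mv u a * tr mv u b := by simp only [tr]; group

omit C cu hR hd0 hmv in
theorem tr_inj (u : H) {a b : G} (k : tr mv u a = tr mv u b) : a = b :=
  mul_left_cancel (mul_right_cancel k)

/-- Transport follows conjugation. -/
theorem tr_conj (g : G) {u w : H} (hu : u ∈ π '' D) (hw : π g * u * (π g)⁻¹ = w) {a : G}
    (ha : a ∈ U π D (π d0)) : g * tr mv u a * g⁻¹ = tr mv w a := by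
  have hwE : w ∈ π '' D := hw ▸ point_conj C g hu
  have k : π ((mv w)⁻¹ * g * mv u) * π d0 * (π ((mv w)⁻¹ * g * mv u))⁻¹ = π d0 := by
    simp only [map_mul, map_inv]
    calc _ = (π (mv w))⁻¹ * (π g * (π (mv u) * π d0 * (π (mv u))⁻¹) * (π g)⁻¹) * π (mv w) := by group
      _ = π d0 := by rw [hmv u hu, hw, back_conj (hmv w hwE)]
  have h1 := fix_of_rowAdd C cu hR hd0 k ha
  calc g * tr mv u a * g⁻¹ = mv w * (((mv w)⁻¹ * g * mv u) * a * ((mv w)⁻¹ * g * mv u)⁻¹) * (mv w)⁻¹ := by
        rw [tr]; group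
    _ = tr mv w a := by rw [h1]; rfl

theorem tr_conj_mem {e : G} (he : e ∈ D) {u : H} (hu : u ∈ π '' D) {a : G} (ha : a ∈ U π D (π d0)) :
    e * tr mv u a * e = tr mv (π e * u * π e) a := by
  have hee : (π e)⁻¹ = π e := by rw [← map_inv, ThreeTrans.inv_eq C.cls.1 he]
  have := tr_conj C cu hR hd0 hmv e hu (w := π e * u * π e) (by rw [hee]) ha
  rwa [ThreeTrans.inv_eq C.cls.1 he] at this

/-- Shifting the members of a line. -/
theorem line_shift {d e : G} (hd : d ∈ D) (he : e ∈ D) (hn : ¬ Commute d e) {a b : G}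
    (ha : a ∈ U π D (π d0)) (hb : b ∈ U π D (π d0)) :
    d * tr mv (π d) a * (e * tr mv (π e) b) * (d * tr mv (π d) a) =
      d * e * d * tr mv (π (d * e * d)) (a * b) := by
  have h := C.hyp
  set α := tr mv (π d) a
  set β := tr mv (π e) b
  have hα : α ∈ U π D (π d) := tr_mem C cu hR hd0 hmv ⟨d, hd, rfl⟩ ha
  have hβ : β ∈ U π D (π e) := tr_mem C cu hR hd0 hmv ⟨e, he, rfl⟩ hb
  have hdα : Commute d α := U_fix h hd (Commute.refl _) hα
  have dd := ThreeTrans.mul_self h.three hd
  set c := d * e * d with hcdef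
  have hc : c ∈ D := conj_mem' h he hd
  have hcd : c = e * d * e := ThreeTrans.braid h.three hd he hn
  have hdc : ¬ Commute d c := fun k => (apart_conj h he hd fun k' => hn k'.symm).2 k
  have hγ : d * β * d = tr mv (π c) b := by
    rw [tr_conj_mem C cu hR hd0 hmv hd ⟨e, he, rfl⟩ hb, ← map_mul, ← map_mul]
  have hψ : psi c α = tr mv (π c) a := by
    rw [psi_eq_conj h cu hd hc hdc hα]
    refine tr_conj C cu hR hd0 hmv _ ⟨d, hd, rfl⟩ ?_ ha
    rw [← map_mul, ← map_inv, ← map_mul, swap_conj h hd hc hdc]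
  have hcm : Commute α (tr mv (π c) b) :=
    CU_mem h cu hd hc α hα _ (tr_mem C cu hR hd0 hmv ⟨c, hc, rfl⟩ hb)
  calc d * α * (e * β) * (d * α) = α * (d * e * β * d) * α := by
        rw [hdα.eq]; simp only [mul_assoc]; rw [← hdα.eq]
    _ = α * (c * tr mv (π c) b) * α := by
        rw [← hγ, hcdef]; simp only [mul_assoc, ThreeTrans.mul_self_mul h.three hd]
    _ = α * c * α * tr mv (π c) b := by simp only [mul_assoc]; rw [← hcm.eq]
    _ = c * ((c * α * c) * α) * tr mv (π c) b := by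
        simp only [mul_assoc, ThreeTrans.mul_self_mul h.three hc]
    _ = c * psi c α * tr mv (π c) b := by
        congr 2
        rw [psi]
        refine (CU_mem h cu hd (conj_mem' h hd hc) α hα _ ?_).eq.symm
        simpa only [map_mul] using U_conj_D h hc hα
    _ = c * tr mv (π c) (a * b) := by rw [hψ, tr_mul, mul_assoc]

/-- Every shift of a member with an apart companion is a member. -/
theorem lift_mul {d e : G} (hd : d ∈ D) (he : e ∈ D) (hn : ¬ Commute d e) {a : G}
    (ha : a ∈ U π D (π d)) : d * a ∈ D := by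
  have h := C.hyp
  obtain ⟨a, ha', rfl⟩ := tr_surj C cu hR hd0 hmv ⟨d, hd, rfl⟩ ha
  let P : Set G := {b | b ∈ U π D (π d0) ∧ d * tr mv (π d) b ∈ D}
  have mul : ∀ {b b' : G}, b ∈ P → b' ∈ P → b * b' ∈ P := by
    intro b b' hb hb'
    refine ⟨mul_mem hb.1 hb'.1, ?_⟩
    have e1 : e * tr mv (π e) b' ∈ D := by
      have hm := C.conj (d * e) hb'.2
      rwa [show d * e * (d * tr mv (π d) b') * (d * e)⁻¹ =
        (d * e * d * (d * e)⁻¹) * (d * e * tr mv (π d) b' * (d * e)⁻¹) by group, swap_conj h hd he hn,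
        tr_conj C cu hR hd0 hmv (d * e) ⟨d, hd, rfl⟩
          (by rw [← map_mul, ← map_inv, ← map_mul, swap_conj h hd he hn]) hb'.1] at hm
    have hc := conj_mem' h he hd
    have hcd : ¬ Commute (d * e * d) d := fun k => (apart_conj h he hd fun k' => hn k'.symm).2 k.symm
    have e2 := conj_mem' h e1 hb.2
    rw [line_shift C cu hR hd0 hmv hd he hn hb.1 hb'.1] at e2
    have e3 := C.conj ((d * e * d) * d) e2
    rwa [show (d * e * d) * d * (d * e * d * tr mv (π (d * e * d)) (b * b')) * ((d * e * d) * d)⁻¹ =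
      ((d * e * d) * d * (d * e * d) * ((d * e * d) * d)⁻¹) *
        ((d * e * d) * d * tr mv (π (d * e * d)) (b * b') * ((d * e * d) * d)⁻¹) by group,
      swap_conj h hc hd hcd, tr_conj C cu hR hd0 hmv ((d * e * d) * d) ⟨_, hc, rfl⟩
        (by rw [← map_mul π ((d * e * d) * d) (d * e * d), ← map_inv, ← map_mul, swap_conj h hc hd hcd])
        (mul_mem hb.1 hb'.1)] at e3
  suffices key : ∀ t ∈ U π D (π d), ∃ b ∈ P, tr mv (π d) b = t by
    obtain ⟨b, hb, eb⟩ := key _ ha
    exact tr_inj (mv := mv) _ eb ▸ hb.2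
  intro t ht
  induction ht using Subgroup.closure_induction with
  | mem t ht =>
    obtain ⟨f, hf, f', hf', ef, ef', rfl⟩ := ht
    have gen : ∀ f ∈ D, π f = π d → ∃ b ∈ P, tr mv (π d) b = d * f := fun f hf ef => by
      obtain ⟨b, hb, eb⟩ := tr_surj C cu hR hd0 hmv ⟨d, hd, rfl⟩ (pair_mem hd hf ef.symm)
      exact ⟨b, ⟨hb, by rw [eb, ThreeTrans.mul_self_mul h.three hd]; exact hf⟩, eb⟩
    obtain ⟨b, hb, eb⟩ := gen f hf ef
    obtain ⟨b', hb', eb'⟩ := gen f' hf' ef'
    refine ⟨b * b', mul hb hb', ?_⟩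
    rw [tr_mul, eb, eb', (commute_image h hd hf (by rw [ef])).eq, mul_assoc, ThreeTrans.mul_self_mul h.three hd]
  | one => exact ⟨1, ⟨one_mem _, by simpa [tr] using hd⟩, by simp [tr]⟩
  | mul s t _ _ ihs iht =>
    obtain ⟨b, hb, rfl⟩ := ihs
    obtain ⟨b', hb', rfl⟩ := iht
    exact ⟨b * b', mul hb hb', tr_mul _ _ _⟩
  | inv s hs ih =>
    obtain ⟨b, hb, rfl⟩ := ih
    exact ⟨b, hb, (U_inv h hs).symm⟩

end transport

end Cfsg.Agent.Fus.TwoRadical

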