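import Cfsg.Agent.Lib.Fus.SUTwoRadical.Fibre
import Cfsg.Agent.Lib.Spor.FischerPrimitive
import Cfsg.Agent.Lib.Spor.ThreeTransSys

/-!
The groups spanned by two fibres commute as soon as the points commuting with one of the two
members generate; this property comes up from quotients.
-/

set_option autoImplicit false
set_option linter.unusedSectionVars false

namespace Cfsg.Agent.Fus.TwoRadical

open Cfsg Cfsg.Agent.Spor Cfsg.Agent.Fus.SUTwoRadical

variable {G H K : Type*} [Group G] [Group H] [Group K] {π : G →* H} {D : Set G}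

/-- The members commuting with one of a non-commuting pair generate. -/
def Spanning (E : Set H) : Prop :=
  ∀ x ∈ E, ∀ y ∈ E, ¬ Commute x y → Subgroup.closure {z | z ∈ E ∧ (Commute z x ∨ Commute z y)} = ⊤

/-- Every member has a second one commuting with it. -/
def Paired (E : Set H) : Prop :=
  ∀ x ∈ E, ∃ z ∈ E, z ≠ x ∧ Commute z x

theorem paired_of_class {E : Set H} (hE : IsThreeTranspositionClass E)
    (hw : ∃ a ∈ E, ∃ b ∈ E, a ≠ b ∧ Commute a b) : Paired E := by
  obtain ⟨a, ha, b, hb, hne, hab⟩ := hw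
  intro x hx
  obtain ⟨g, rfl⟩ := ThreeTrans.transitive hE ha hx
  refine ⟨g * b * g⁻¹, ThreeTrans.conj_mem hE g hb, fun e => hne ?_, (ThreeTrans.commute_conj_iff g b a).2 hab.symm⟩
  exact (mul_left_cancel (mul_right_cancel e)).symm

/-- Primitive classes are spanning. -/
theorem spanning_of_prim [Finite H] {E : Set H} (hE : IsThreeTranspositionClass E) (hp : IsPrimitiveUnderConj E)
    (hw : ∃ a ∈ E, ∃ b ∈ E, a ≠ b ∧ Commute a b) : Spanning E := by
  intro x hx y hy hxy
  obtain ⟨-, hmax⟩ := Spor.FischerStr.perp_maximal hE hp hw hx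
  set S := {z | z ∈ E ∧ (Commute z x ∨ Commute z y)} with hS
  have hd : IsDSubgroup E (Subgroup.closure S) := by
    refine le_antisymm ((Subgroup.closure_le _).2 fun z hz => hz.2) (Subgroup.closure_mono fun z hz => ?_)
    exact ⟨hz.1, Subgroup.subset_closure hz⟩
  refine (hmax _ hd (Subgroup.closure_mono fun z hz => ⟨hz.1, Or.inl hz.2.symm⟩)).resolve_left fun e => hxy ?_
  have hy' : y ∈ Subgroup.closure {z | z ∈ E ∧ Commute x z} :=
    e ▸ Subgroup.subset_closure ⟨hy, Or.inr (Commute.refl y)⟩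
  have hle : Subgroup.closure {z | z ∈ E ∧ Commute x z} ≤ Subgroup.centralizer {x} :=
    (Subgroup.closure_le _).2 fun z hz => Subgroup.mem_centralizer_singleton_iff.2 hz.2.eq.symm
  exact (Subgroup.mem_centralizer_singleton_iff.1 (hle hy')).symm

/-- A quotient map sees commuting of different images. -/
theorem commute_of_map {E : Set H} (hE : IsThreeTranspositionSet E) (f : H →* K) {x y : H}
    (hx : x ∈ E) (hy : y ∈ E) (hne : f x ≠ f y) (hc : Commute (f x) (f y)) : Commute x y := by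
  by_contra hn
  rcases hE.2 x hx y hy with h2 | h3
  · refine hn ?_
    have h' : x * y = (x * y)⁻¹ := eq_inv_of_mul_eq_one_left (by rwa [← pow_two])
    rwa [mul_inv_rev, ThreeTrans.inv_eq hE hx, ThreeTrans.inv_eq hE hy] at h'
  · have h2 : f (x * y) ^ 2 = 1 := by
      rw [map_mul, hc.mul_pow, ← map_pow, ← map_pow, pow_two, pow_two, ThreeTrans.mul_self hE hx,
        ThreeTrans.mul_self hE hy, map_one, one_mul]
    have h1 : f (x * y) = 1 := by
      have h3' : f (x * y) ^ 3 = 1 := by rw [← map_pow, h3, map_one]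
      rwa [pow_succ, h2, one_mul] at h3'
    refine hne ?_
    rw [map_mul] at h1
    rw [eq_inv_of_mul_eq_one_left h1, ← map_inv, ThreeTrans.inv_eq hE hy]

/-- The spanning property comes up from a quotient which keeps commuting pairs. -/
theorem closure_eq_top_of_map {E : Set H} (hE : IsThreeTranspositionClass E) (f : H →* K)
    (hS : Spanning (f '' E)) (hP : Paired (f '' E)) {x y : H} (hx : x ∈ E) (hy : y ∈ E)
    (hxy : ¬ Commute (f x) (f y)) :
    Subgroup.closure {z | z ∈ E ∧ (Commute z x ∨ Commute z y)} = ⊤ := by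
  set S := {z | z ∈ E ∧ (Commute z x ∨ Commute z y)} with hSdef
  set M := Subgroup.closure S
  have himg : Subgroup.map f M = Subgroup.map f ⊤ := by
    refine le_antisymm (Subgroup.map_mono le_top) ?_
    rintro _ ⟨g, -, rfl⟩
    have hg := hS (f x) ⟨x, hx, rfl⟩ (f y) ⟨y, hy, rfl⟩ hxy ▸ Subgroup.mem_top (f g)
    refine (Subgroup.closure_le _).2 ?_ hg
    rintro _ ⟨⟨z, hz, rfl⟩, hc⟩
    by_cases e : f z = f x
    · exact ⟨x, Subgroup.subset_closure ⟨hx, Or.inl (Commute.refl x)⟩, e.symm⟩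
    by_cases e' : f z = f y
    · exact ⟨y, Subgroup.subset_closure ⟨hy, Or.inr (Commute.refl y)⟩, e'.symm⟩
    refine ⟨z, Subgroup.subset_closure ⟨hz, ?_⟩, rfl⟩
    exact hc.imp (commute_of_map hE.1 f hz hx e) (commute_of_map hE.1 f hz hy e')
  obtain ⟨_, ⟨z0, hz0, rfl⟩, hne, hc⟩ := hP (f x) ⟨x, hx, rfl⟩
  have hfib : ∀ z ∈ E, f z = f z0 → z ∈ M := fun z hz he => Subgroup.subset_closure
    ⟨hz, Or.inl (commute_of_map hE.1 f hz hx (he ▸ hne) (he ▸ hc))⟩
  rw [eq_top_iff, ← hE.2.2, Subgroup.closure_le]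
  intro w hw
  obtain ⟨g, hg⟩ := ThreeTrans.transitive hE hz0 hw
  obtain ⟨m, hm, hfm⟩ := himg.ge ⟨g, Subgroup.mem_top g, rfl⟩
  have hmem := hfib (m⁻¹ * w * m) (by simpa using ThreeTrans.conj_mem hE m⁻¹ hw) (by
    rw [← hg]
    simp only [map_mul, map_inv, hfm]
    group)
  have := mul_mem (mul_mem hm hmem) (inv_mem hm)
  rwa [show m * (m⁻¹ * w * m) * m⁻¹ = w by group] at this

/-- Two fibre groups commute when the points commuting with one of them generate. -/
theorem CU_of_closure (h : Hyp π D) (hD : IsThreeTranspositionClass D) (hZ : Subgroup.center G = ⊥)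
    {x y : H} (hy : y ∈ π '' D)
    (hgen : Subgroup.closure {z | z ∈ π '' D ∧ (Commute z x ∨ Commute z y)} = ⊤) : CU π D x y := by
  refine CU_of_gen h hZ (r := fun k : {z | z ∈ π '' D ∧ (Commute z x ∨ Commute z y)} => (k : H))
    (fun T hT => ?_) fun k => k.2.2
  rw [eq_top_iff, ← hD.2.2, Subgroup.closure_le]
  intro d hd
  have himg : ∀ g : G, π g ∈ Subgroup.map π T := fun g => by
    have hg := hgen ▸ Subgroup.mem_top (π g)
    refine (Subgroup.closure_le _).2 ?_ hg
    rintro _ ⟨⟨z, hz, rfl⟩, hc⟩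
    exact ⟨z, hT ⟨π z, ⟨z, hz, rfl⟩, hc⟩ z hz rfl, rfl⟩
  obtain ⟨d0, hd0, he0⟩ := hy
  obtain ⟨g, hg⟩ := ThreeTrans.transitive hD hd0 hd
  obtain ⟨t, ht, htg⟩ := himg g
  have hmem := hT ⟨y, ⟨d0, hd0, he0⟩, Or.inr (Commute.refl y)⟩ (t⁻¹ * d * t)
    (by simpa using h.conj t⁻¹ d hd) (by
      show π (t⁻¹ * d * t) = y
      rw [← hg, ← he0]
      simp only [map_mul, map_inv, htg]
      group)
  have := mul_mem (mul_mem ht hmem) (inv_mem ht)
  rwa [show t * (t⁻¹ * d * t) * t⁻¹ = d by group] at this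

/-- A line through a third point carries the commuting. -/
theorem CU_of_line (h : Hyp π D) {x : H} {y v : G} (hy : y ∈ D) (hv : v ∈ D)
    (hyv : ¬ Commute (π y) (π v)) (cyv : CU π D (π y) (π v)) (c1 : CU π D x (π v))
    (c2 : CU π D x (π v * π y * π v)) : CU π D x (π y) := by
  intro a ha b hb
  have hψ := psi_mem h hy hv hyv cyv hb
  have h2 := U_conj_D h hv hb
  have hbb := U_sq h hb
  have e : b = (v * b * v) * psi v b := by
    have := conj_eq_psi v hbb
    rw [this, mul_assoc, U_sq h hψ, mul_one]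
  rw [e]
  exact (c2 a ha _ h2).mul_right (c1 a ha _ hψ)

/-- All pairs of fibre groups commute when a quotient is spanning and has commuting pairs. -/
theorem CU_all (h : Hyp π D) (hD : IsThreeTranspositionClass D) (hZ : Subgroup.center G = ⊥)
    (hE : IsThreeTranspositionClass (π '' D)) (f : H →* K) (hnc : ∃ a ∈ f '' (π '' D), ∃ b ∈ f '' (π '' D), ¬ Commute a b)
    (hS : Spanning (f '' (π '' D))) (hP : Paired (f '' (π '' D))) :
    ∀ x ∈ π '' D, ∀ y ∈ π '' D, CU π D x y := by
  have far : ∀ x ∈ π '' D, ∀ y ∈ π '' D, ¬ Commute (f x) (f y) → CU π D x y := fun x hx y hy hxy =>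
    CU_of_closure h hD hZ hy (closure_eq_top_of_map hE f hS hP hx hy hxy)
  intro x hx y hy
  by_cases hc : Commute x y
  · exact CU_of_commute h hc
  have hxy : ¬ Commute (f x) (f y) ∨ f x = f y := by
    by_cases e : f x = f y
    · exact Or.inr e
    · exact Or.inl fun k => hc (commute_of_map hE.1 f hx hy e k)
  rcases hxy with hxy | hxy
  · exact far x hx y hy hxy
  obtain ⟨v, hv, hvx⟩ : ∃ v ∈ π '' D, ¬ Commute (f x) (f v) := by
    obtain ⟨_, ⟨a, ha, rfl⟩, _, ⟨b, hb, rfl⟩, hab⟩ := hnc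
    obtain ⟨g, hg⟩ := ThreeTrans.transitive hE ha hx
    refine ⟨g * b * g⁻¹, ThreeTrans.conj_mem hE g hb, fun k => hab ?_⟩
    rw [← hg, map_mul, map_mul, map_mul, map_mul, map_inv] at k
    exact (ThreeTrans.commute_conj_iff (f g) (f a) (f b)).1 k
  obtain ⟨v, hv, rfl⟩ := hv
  obtain ⟨y, hy, rfl⟩ := hy
  have hyv : ¬ Commute (f (π y)) (f (π v)) := hxy ▸ hvx
  have hyv' : ¬ Commute (π y) (π v) := fun k => hyv (k.map f)
  refine CU_of_line h hy hv hyv' (far _ ⟨y, hy, rfl⟩ _ ⟨v, hv, rfl⟩ hyv) (far _ hx _ ⟨v, hv, rfl⟩ hvx) ?_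
  have hw : π v * π y * π v ∈ π '' D := ⟨v * y * v, by
    simpa [ThreeTrans.inv_eq h.three hv] using h.conj v y hy, by simp only [map_mul]⟩
  refine far _ hx _ hw fun k => hvx ?_
  rw [hxy, ← map_mul π, ← map_mul π,
    ← ThreeTrans.braid h.three hy hv fun k' => hyv' (k'.map π), map_mul π, map_mul π, map_mul f, map_mul f] at k
  have e : f (π y) * f (π y) = 1 := by
    rw [← map_mul, ← map_mul, ThreeTrans.mul_self h.three hy, map_one, map_one]
  set a := f (π y)
  set b := f (π v)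
  rw [hxy]
  show a * b = b * a
  have k' : a * (a * b * a) = a * b * a * a := k
  simp only [← mul_assoc, e, one_mul] at k'
  rw [mul_assoc (a * b) a a, e, mul_one] at k'
  exact k'.symm

end Cfsg.Agent.Fus.TwoRadical
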