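import Cfsg.Agent.Lib.Fus.TwoRadical.Act
import Cfsg.Agent.Lib.Fus.TwoRadical.Span
import Cfsg.Agent.Lib.Spor.ThreeTransPlanes

/-!
When the quotient by the radical has a noncentral 3-core, its quotient by that core has no affine
planes; so the radical is elementary abelian, and the normaliser of a Sylow 3-subgroup over the
core is a complement.
-/

set_option autoImplicit false
set_option linter.style.haveILetI false
set_option linter.unusedSectionVars false

namespace Cfsg.Agent.Fus.TwoRadical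

open Cfsg Cfsg.Agent.Spor Cfsg.Agent.Fus.SUTwoRadical

universe u v

/-- Three pairwise apart members off a line span nine pairwise apart members. -/
theorem plane_nine {X : Type*} [Group X] {E : Set X} (h : ThreeTransPlanes.Closed E) {a b c : X} (ha : a ∈ E)
    (hb : b ∈ E) (hc : c ∈ E) (hab : ¬ Commute a b) (hac : ¬ Commute a c) (hbc : ¬ Commute b c)
    (hxc : ¬ Commute c (a * b * a)) :
    ∃ S ⊆ E, S.ncard = 9 ∧ (∀ x ∈ S, ∀ y ∈ S, x ≠ y → ¬ Commute x y) ∧
      (∀ x ∈ S, ∀ y ∈ S, x * y * x ∈ S) ∧ a ∈ S := by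
  have aa := ThreeTrans.mul_self h.three ha
  have ai := ThreeTrans.inv_eq h.three ha
  have am := fun z => ThreeTrans.mul_self_mul h.three ha z
  have conjA : ∀ {p q : X}, Commute p q → Commute (a * p * a) (a * q * a) := fun {p q} k => by
    simpa [ai, mul_assoc] using k.map (MulAut.conj a).toMonoidHom
  have hby : ¬ Commute b (a * c * a) := fun k => hxc (by simpa [mul_assoc, aa, am] using (conjA k).symm)
  have hxy : ¬ Commute (a * b * a) (a * c * a) := fun k => hbc (by simpa [mul_assoc, aa, am] using conjA k)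
  have hm : b ≠ a * c * a := fun e => hxc (by
    rw [show a * b * a = c by rw [e]; simp [mul_assoc, aa, am]])
  have hiso := ThreeTransPlanes.span_affine h (a := ⟨a, ha⟩) (b := ⟨b, hb⟩) (c := ⟨c, hc⟩) hab hac hbc hby
    (fun k => hxc k.symm) hxy hm (fun k => hbc (by rw [show b = c from congrArg Subtype.val k]))
  dsimp only at hiso
  set P := LineSystem.span (threeTranspositionLines E)
    ({w : E | (w : X) = a ∨ (w : X) = b ∨ (w : X) = a * b * a} ∪
      {w : E | (w : X) = a ∨ (w : X) = c ∨ (w : X) = a * c * a}) with hP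
  obtain ⟨e, he⟩ := hiso
  have key : ∀ u w : P, u ≠ w → ¬ Commute ((u : E) : X) (w : E) ∧
      ∀ z : E, (z : X) = ((u : E) : X) * (w : E) * (u : E) → z ∈ P := by
    intro u w huw
    set m : Set (Fin 2 → ZMod 3) := {x | ∃ t : ZMod 3, x = e u + t • (e w - e u)}
    have hm' : m ∈ affinePlaneThree :=
      ⟨e u, e w - e u, sub_ne_zero.2 fun k => huw (e.injective k.symm), rfl⟩
    have hl := (he (e.symm '' m)).2 (by rwa [Equiv.image_symm_image])
    obtain ⟨l, hl, hsub, heq⟩ := hl
    have hu : (u : E) ∈ l := by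
      have : u ∈ e.symm '' m := ⟨e u, ⟨0, by simp⟩, e.symm_apply_apply u⟩
      rw [heq] at this; exact this
    have hw : (w : E) ∈ l := by
      have : w ∈ e.symm '' m := ⟨e w, ⟨1, by simp⟩, e.symm_apply_apply w⟩
      rw [heq] at this; exact this
    obtain ⟨hn, hle⟩ := ThreeTransPlanes.line_eq h hl hu hw fun k => huw (Subtype.ext k)
    exact ⟨hn, fun z hz => hsub (hle.symm ▸ Or.inr (Or.inr hz))⟩
  refine ⟨Subtype.val '' P, ?_, ?_, ?_, ?_, ?_⟩
  · rintro _ ⟨x, -, rfl⟩; exact x.2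
  · rw [Set.ncard_image_of_injective _ Subtype.val_injective, ← Nat.card_coe_set_eq, Nat.card_congr e,
      Nat.card_fun, Nat.card_zmod, Nat.card_fin]
    rfl
  · rintro _ ⟨x, hx, rfl⟩ _ ⟨y, hy, rfl⟩ hne
    exact (key ⟨x, hx⟩ ⟨y, hy⟩ fun k => hne (congrArg (fun t : P => ((t : E) : X)) k)).1
  · rintro _ ⟨x, hx, rfl⟩ _ ⟨y, hy, rfl⟩
    by_cases hne : x = y
    · subst hne
      exact ⟨x, hx, by rw [ThreeTrans.mul_self h.three x.2, one_mul]⟩
    · exact ⟨⟨_, ThreeTransPlanes.conj' h x.2 y.2⟩, (key ⟨x, hx⟩ ⟨y, hy⟩ fun k => hne (congrArg Subtype.val k)).2 _ rfl, rfl⟩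
  · exact ⟨⟨a, ha⟩, FischerPlanes.subset_span _ (Or.inl (Or.inl rfl)), rfl⟩

/-- A class in which a member apart from a pair commutes with the third of its line is spanning. -/
theorem spanning_of_rowAdd {X : Type*} [Group X] {E : Set X} (hE : IsThreeTranspositionClass E)
    (hR : Spor.FischerThm.RowAdd E) : Spanning E := by
  intro x hx y hy hxy
  set M := Subgroup.closure {z | z ∈ E ∧ (Commute z x ∨ Commute z y)}
  have hxM : x ∈ M := Subgroup.subset_closure ⟨hx, Or.inl (Commute.refl x)⟩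
  have hxx := ThreeTrans.mul_self hE.1 hx
  rw [eq_top_iff, ← hE.2.2, Subgroup.closure_le]
  intro u hu
  by_cases hux : Commute u x
  · exact Subgroup.subset_closure ⟨hu, Or.inl hux⟩
  by_cases huy : Commute u y
  · exact Subgroup.subset_closure ⟨hu, Or.inr huy⟩
  have hc := hR x hx y hy hxy u hu hux huy
  have hxu : x * u * x ∈ E := by simpa [ThreeTrans.inv_eq hE.1 hx] using ThreeTrans.conj_mem hE x hu
  have hc' : Commute (x * u * x) y := by
    simpa [ThreeTrans.inv_eq hE.1 hx, mul_assoc, hxx, ThreeTrans.mul_self_mul hE.1 hx] using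
      hc.map (MulAut.conj x).toMonoidHom
  have := mul_mem (mul_mem hxM (Subgroup.subset_closure (k := {z | z ∈ E ∧ (Commute z x ∨ Commute z y)})
    ⟨hxu, Or.inr hc'⟩)) hxM
  rwa [show x * (x * u * x) * x = u by simp [mul_assoc, hxx, ThreeTrans.mul_self_mul hE.1 hx]] at this

variable {G : Type u} [Group G] [Finite G] {H : Type v} [Group H] [Finite H] {π : G →* H} {D : Set G}
  (C : Ctx π D)

include C

/-- The points form a class of 3-transpositions. -/
theorem Ctx.cls' (hne : ∀ d ∈ D, π d ≠ 1) : IsThreeTranspositionClass (π '' D) := by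
  refine ⟨⟨?_, ?_⟩, ?_, ?_⟩
  · rintro _ ⟨d, hd, rfl⟩
    refine orderOf_eq_prime ?_ (hne d hd)
    rw [← map_pow, pow_two, ThreeTrans.mul_self C.cls.1 hd, map_one]
  · rintro _ ⟨d, hd, rfl⟩ _ ⟨e, he, rfl⟩
    rcases C.cls.1.2 d hd e he with k | k
    · left; rw [← map_mul, ← map_pow, k, map_one]
    · right; rw [← map_mul, ← map_pow, k, map_one]
  · obtain ⟨d0, hd0, -⟩ := C.cls.2.1
    refine ⟨π d0, ⟨d0, hd0, rfl⟩, Set.ext fun y => ⟨?_, fun hy => ?_⟩⟩
    · rintro ⟨d, hd, rfl⟩
      obtain ⟨g, rfl⟩ := ThreeTrans.transitive C.cls hd0 hd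
      exact _root_.isConj_iff.2 ⟨π g, by simp⟩
    · obtain ⟨y', rfl⟩ := _root_.isConj_iff.1 (show _root_.IsConj (π d0) y from hy)
      obtain ⟨g, rfl⟩ := C.surj y'
      exact ⟨g * d0 * g⁻¹, C.conj g hd0, by simp⟩
  · rw [← MonoidHom.map_closure, C.cls.2.2, Subgroup.map_top_of_surjective π C.surj]

/-- Monodromies with images in a normal 3-subgroup leave the radical elementary abelian. -/
theorem elementary_of_threeImage (cu : ∀ x ∈ π '' D, ∀ y ∈ π '' D, CU π D x y) (T : Subgroup H) [T.Normal]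
    (hT : IsPGroup 3 T) {d : G} (hd : d ∈ D)
    (himg : ∀ e ∈ D, ∀ f ∈ D, ¬ Commute d e → ¬ Commute e f → ¬ Commute d f →
      ¬ Commute (π f) (π e * π d * π e) → π ((f * d * e) ^ 2) ∈ T) : IsElementaryAbelian 2 (pCore 2 G) := by
  haveI : Fact (Nat.Prime 3) := ⟨Nat.prime_three⟩
  have h := C.hyp
  refine elementary_of_fix h C.cls C.cen C.ker hd fun c hc a ha => ?_
  set V := U π D (π d) with hV
  set N : Subgroup G := Subgroup.normalizer (V : Set G) with hN
  let ρ : N →* MulAut V := V.normalizerMonoidHom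
  have hρ : ∀ (g : N) (b : V), ((ρ g b : V) : G) = g * b * (g : G)⁻¹ := fun g b => rfl
  have hle := mon_le_normalizer h hd
  have hcN : c ∈ N := Subgroup.mem_normalizer_iff.2 fun b =>
    ⟨fun hb => by simpa [hc, hV] using U_conj h c hb, fun hb => by
      have := U_conj h c⁻¹ hb
      simpa [hc, hV, mul_assoc] using this⟩
  -- the part of the normaliser over `T`
  let P : Subgroup N := T.comap (π.comp N.subtype)
  let Y : Subgroup (MulAut V) := P.map ρ
  let f : P →* Y := (ρ.comp P.subtype).codRestrict Y fun p => ⟨p, p.2, rfl⟩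
  have hf : Function.Surjective f := fun y => by
    obtain ⟨p, hp, e⟩ := y.2
    exact ⟨⟨p, hp⟩, Subtype.ext e⟩
  haveI hYfin : Finite Y := Finite.of_surjective f hf
  haveI hYnil : Group.IsNilpotent Y := by
    have hQ : ∀ p : P, π ((p : N) : G) = 1 → f p ∈ Subgroup.center Y := fun p hp => by
      refine Subgroup.mem_center_iff.2 fun y => ?_
      obtain ⟨g, rfl⟩ := hf y
      refine Subtype.ext ?_
      show ρ g * ρ p = ρ p * ρ g
      rw [← map_mul, ← map_mul]
      exact MulEquiv.ext fun b => Subtype.ext (by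
        rw [hρ, hρ]; exact radical_central C cu hp _ ⟨d, hd, rfl⟩ b.2)
    haveI : Group.IsNilpotent (Y ⧸ Subgroup.center Y) := by
      let g := (QuotientGroup.mk' (Subgroup.center Y)).comp f
      have hg : Function.Surjective g := (QuotientGroup.mk'_surjective _).comp hf
      refine IsPGroup.isNilpotent (p := 3) fun y => ?_
      obtain ⟨p, rfl⟩ := hg y
      obtain ⟨k, hk⟩ := hT ⟨π ((p : N) : G), p.2⟩
      refine ⟨k, ?_⟩
      rw [← map_pow]
      show QuotientGroup.mk' _ (f (p ^ 3 ^ k)) = 1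
      exact (QuotientGroup.eq_one_iff _).2 (hQ _ (by simpa using congrArg Subtype.val hk))
    exact Group.of_quotient_center_nilpotent inferInstance
  obtain ⟨S, hS⟩ : ∃ S : Subgroup Y, S = Cfsg.pCore 3 Y := ⟨_, rfl⟩
  have hthree : ∀ y : Y, y ^ 3 = 1 → y ∈ S := fun y hy => by
    obtain ⟨Sy⟩ : Nonempty (Sylow 3 Y) := inferInstance
    haveI : (Sy : Subgroup Y).Normal := Grp.isNilpotent_iff_sylow_normal.1 hYnil 3 inferInstance Sy
    have hz : IsPGroup 3 (Subgroup.zpowers y) := by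
      intro z
      refine ⟨1, Subtype.ext ?_⟩
      obtain ⟨i, hi⟩ := Subgroup.mem_zpowers_iff.1 z.2
      rw [Subgroup.coe_pow, ← hi, pow_one, ← zpow_natCast, ← _root_.zpow_mul, mul_comm, _root_.zpow_mul,
        zpow_natCast, hy, one_zpow]
      rfl
    obtain ⟨S', hS'⟩ := hz.exists_le_sylow
    haveI := Sylow.unique_of_normal Sy inferInstance
    rw [show S' = Sy from Subsingleton.elim _ _] at hS'
    exact hS ▸ Grp.le_pCore inferInstance Sy.isPGroup' (hS' (Subgroup.mem_zpowers y))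
  have hmon : ∀ m, (hm : m ∈ Mon D d) → ∃ y ∈ S, (y : MulAut V) = ρ ⟨m, hle hm⟩ := by
    intro m hm
    induction hm using Subgroup.closure_induction with
    | mem m hm =>
      obtain ⟨e, he, g, hg, a1, a2, a3, rfl⟩ := id hm
      by_cases hcc : Commute (π g) (π e * π d * π e)
      · refine ⟨1, one_mem _, ?_⟩
        exact MulEquiv.ext fun b => Subtype.ext (((hρ _ _).trans (tri_trivial h cu hd he hg a1 a2 a3 hcc b.2)).symm)
      · refine ⟨f ⟨⟨_, hle (Subgroup.subset_closure hm)⟩, himg e he g hg a1 a2 a3 hcc⟩, hthree _ (Subtype.ext ?_), rfl⟩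
        show (ρ ⟨_, hle (Subgroup.subset_closure hm)⟩) ^ 3 = 1
        rw [← map_pow]
        exact MulEquiv.ext fun b => Subtype.ext ((hρ _ _).trans (by
          simpa using tri_cube h cu hd he hg a1 a2 a3 b.2))
    | one => exact ⟨1, one_mem _, (map_one ρ).symm⟩
    | mul x y hx hy ihx ihy =>
      obtain ⟨p, hp, ep⟩ := ihx
      obtain ⟨q, hq, eq⟩ := ihy
      exact ⟨p * q, mul_mem hp hq, by rw [Subgroup.coe_mul, ep, eq, ← map_mul]; rfl⟩
    | inv x hx ihx =>
      obtain ⟨p, hp, ep⟩ := ihx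
      exact ⟨p⁻¹, inv_mem hp, by rw [Subgroup.coe_inv, ep, ← map_inv]; rfl⟩
  obtain ⟨m, hm, hact⟩ := exists_mon h cu C.cls.2.2 hd (g := c) (by rw [hc, one_mul, inv_one, mul_one])
  obtain ⟨y, hy, ey⟩ := hmon m hm
  have e : ρ ⟨c, hcN⟩ = ρ ⟨m, hle hm⟩ := MulEquiv.ext fun b => Subtype.ext (by rw [hρ, hρ]; exact hact b b.2)
  obtain ⟨k, hk⟩ := h.two c hc
  obtain ⟨j, hj⟩ := Transfer.pCore_isPGroup 3 Y ⟨y, hS ▸ hy⟩
  have e2 : ρ ⟨c, hcN⟩ ^ (2 ^ k) = 1 := by
    rw [← map_pow, show (⟨c, hcN⟩ : N) ^ (2 ^ k) = 1 from Subtype.ext (by simpa using hk), map_one]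
  have e3 : ρ ⟨c, hcN⟩ ^ (3 ^ j) = 1 := by
    rw [e, ← ey]
    simpa using congrArg (fun z : Y => (z : MulAut V)) (congrArg Subtype.val hj)
  have e1 : ρ ⟨c, hcN⟩ = 1 := by
    have := pow_gcd_eq_one.2 ⟨e2, e3⟩
    rwa [(Nat.Coprime.pow k j (by decide : Nat.Coprime 2 3)).gcd_eq_one, pow_one] at this
  have := congrArg Subtype.val (DFunLike.congr_fun e1 (⟨a, ha⟩ : V))
  rw [hρ] at this
  exact mul_inv_eq_iff_eq_mul.1 this

/-- A normal 3-subgroup without fixed elements in the fibre groups gives a complement. -/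
theorem complement_of_fixed (hab : IsElementaryAbelian 2 (pCore 2 G))
    (T : Subgroup H) [T.Normal] (hT : IsPGroup 3 T) (hfix : ∀ x ∈ π '' D, ∀ a ∈ U π D x, (∀ m, π m ∈ T → m * a * m⁻¹ = a) → a = 1) :
    ∃ K : Subgroup G, (pCore 2 G).IsComplement' K := by
  classical
  haveI : Fact (Nat.Prime 3) := ⟨Nat.prime_three⟩
  haveI : (pCore 2 G).Normal := Grp.pCore_isNormal
  have h := C.hyp
  let M : Subgroup G := T.comap π
  haveI : M.Normal := inferInstanceAs (T.comap π).Normal
  obtain ⟨P⟩ : Nonempty (Sylow 3 M) := inferInstance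
  set R : Subgroup G := (P : Subgroup M).map M.subtype with hR
  set K := Subgroup.normalizer (R : Set G)
  have hMK : K ⊔ M = ⊤ := Sylow.normalizer_sup_eq_top P
  have hP2 : IsPGroup 3 R := P.isPGroup'.map _
  -- the core is the radical times the Sylow subgroup
  have hMle : M ≤ pCore 2 G ⊔ R := by
    intro m hm
    let πM : M →* T := (π.comp M.subtype).codRestrict T fun x => x.2
    have hπM : Function.Surjective πM := fun t => by
      obtain ⟨g, hg⟩ := C.surj t
      exact ⟨⟨g, show π g ∈ T by rw [hg]; exact t.2⟩, Subtype.ext hg⟩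
    have hPtop : (P : Subgroup M).map πM = ⊤ := by
      have := (P.mapSurjective hπM).is_maximal' (IsPGroup.of_equiv hT Subgroup.topEquiv.symm) le_top
      rwa [eq_comm, Sylow.coe_mapSurjective] at this
    obtain ⟨p, hp, e⟩ := hPtop.ge (Subgroup.mem_top (πM ⟨m, hm⟩))
    have e' : π (p : G) = π m := congrArg Subtype.val e
    rw [show m = m * (p : G)⁻¹ * p by group]
    exact mul_mem (Subgroup.mem_sup_left ((C.ker _).1 (by rw [map_mul, map_inv, e', mul_inv_cancel])))
      (Subgroup.mem_sup_right ⟨p, hp, rfl⟩)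
  have hsup : pCore 2 G ⊔ K = ⊤ := by
    rw [eq_top_iff, ← hMK]
    exact sup_le le_sup_right (hMle.trans (sup_le le_sup_left (Subgroup.le_normalizer.trans le_sup_right)))
  refine ⟨K, Subgroup.isComplement'_of_disjoint_and_mul_eq_univ ?_ ?_⟩
  · rw [disjoint_iff, eq_bot_iff]
    rintro q ⟨hq, hqK⟩
    have hq1 := (C.ker q).2 hq
    -- `q` centralises the Sylow subgroup
    have hcent : ∀ r ∈ R, Commute q r := fun r hr => by
      have h1 : q * r * q⁻¹ * r⁻¹ ∈ R := mul_mem ((Subgroup.mem_normalizer_iff.1 hqK r).1 hr) (inv_mem hr)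
      obtain ⟨k, hk⟩ := hP2 ⟨_, h1⟩
      obtain ⟨j, hj⟩ := h.two (q * r * q⁻¹ * r⁻¹) (by simp [hq1])
      have h0 := pow_gcd_eq_one.2 ⟨(congrArg Subtype.val hk : (q * r * q⁻¹ * r⁻¹) ^ 3 ^ k = 1), hj⟩
      rw [(Nat.Coprime.pow k j (by decide : Nat.Coprime 3 2)).gcd_eq_one, pow_one, mul_inv_eq_one,
        mul_inv_eq_iff_eq_mul] at h0
      exact h0
    have habc : ∀ p, p ∈ pCore 2 G → Commute q p := fun p hp =>
      congrArg Subtype.val ((hab.1.is_comm).comm (⟨q, hq⟩ : pCore 2 G) ⟨p, hp⟩)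
    have hqM : ∀ m ∈ M, Commute q m := fun m hm => by
      have hmM : m ∈ ((pCore 2 G ⊔ R : Subgroup G) : Set G) := hMle hm
      rw [Subgroup.normal_mul] at hmM
      obtain ⟨p, hp, r, hr, rfl⟩ := hmM
      exact (habc p hp).mul_right (hcent r hr)
    rw [← C.cen]
    refine Subgroup.mem_center_iff.2 fun g => ?_
    have hle : Subgroup.closure D ≤ Subgroup.centralizer {q} := (Subgroup.closure_le _).2 fun d hd => by
      rw [SetLike.mem_coe, Subgroup.mem_centralizer_singleton_iff]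
      have dd := ThreeTrans.mul_self C.cls.1 hd
      have hqd : π (q * d * q⁻¹) = π d := by simp [hq1]
      set a := q * d * q⁻¹ * d with ha
      have ha1 : a ∈ U π D (π d) := by
        have := pair_mem (π := π) (C.conj q hd) hd hqd
        rwa [hqd] at this
      -- commutators with `q` are fixed by the core
      have ham : ∀ m, π m ∈ T → m * a * m⁻¹ = a := by
        intro m ht
        have hdm : d * m * d ∈ M := by
          have := Subgroup.Normal.conj_mem (inferInstance : M.Normal) m ht d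
          rwa [ThreeTrans.inv_eq C.cls.1 hd] at this
        have hcm : Commute (d * q⁻¹ * d) m := by
          have := (hqM _ hdm).inv_left.map (MulAut.conj d).toMonoidHom
          simpa [ThreeTrans.inv_eq C.cls.1 hd, mul_assoc, ThreeTrans.mul_self_mul C.cls.1 hd, dd] using this
        have : Commute a m := by
          rw [show a = q * (d * q⁻¹ * d) by simp only [a, mul_assoc]]
          exact (hqM m ht).mul_left hcm
        rw [← this.eq, mul_inv_cancel_right]
      have h0 : a = 1 := hfix _ ⟨d, hd, rfl⟩ a ha1 ham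
      have h00 : q * d * q⁻¹ = d := by
        rw [eq_inv_of_mul_eq_one_left (h0 : q * d * q⁻¹ * d = 1), ThreeTrans.inv_eq C.cls.1 hd]
      exact (mul_inv_eq_iff_eq_mul.1 h00).symm
    exact Subgroup.mem_centralizer_singleton_iff.1 (hle (C.cls.2.2 ▸ Subgroup.mem_top g))
  · rw [← Subgroup.normal_mul, hsup, Subgroup.coe_top]


/-- A normal 3-subgroup moving every point yields a complement. -/
theorem complement_of_three (cu : ∀ x ∈ π '' D, ∀ y ∈ π '' D, CU π D x y) (hab : IsElementaryAbelian 2 (pCore 2 G))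
    (T : Subgroup H) [T.Normal] (hT : IsPGroup 3 T) (hmv : ∀ x ∈ π '' D, ∃ t ∈ T, ¬ Commute t x) :
    ∃ K : Subgroup G, (pCore 2 G).IsComplement' K := by
  refine complement_of_fixed C hab T hT fun x hx a ha1 ham' => ?_
  obtain ⟨d, hd, rfl⟩ := hx
  have h := C.hyp
  obtain ⟨t, ht, hn⟩ := hmv _ ⟨d, hd, rfl⟩
  obtain ⟨m, rfl⟩ := C.surj t
  have hd'D := C.conj m hd
  have dd := ThreeTrans.mul_self C.cls.1 hd
  have ham := ham' m ht
  have hne : π (m * d * m⁻¹) ≠ π d := fun k => hn (by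
    rw [map_mul, map_mul, map_inv, mul_inv_eq_iff_eq_mul] at k
    exact k)
  have hap : ¬ Commute d (m * d * m⁻¹) := fun k => hne (by
    have hT' : π (m * d * m⁻¹) * π d ∈ T := by
      have h2 := mul_mem ht (Subgroup.Normal.conj_mem (inferInstance : T.Normal) _ (inv_mem ht) (π d))
      rw [← map_inv π d, ThreeTrans.inv_eq C.cls.1 hd] at h2
      simpa [mul_assoc] using h2
    obtain ⟨j, hj⟩ := hT ⟨_, hT'⟩
    have h2 : (π (m * d * m⁻¹) * π d) ^ 2 = 1 := by
      rw [(k.symm.map π).mul_pow, ← map_pow, ← map_pow, pow_two, pow_two, ThreeTrans.mul_self C.cls.1 hd'D, dd,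
        map_one, one_mul]
    have h1 := Spor.FischerStr.eq_one_of_coprime (Nat.Coprime.pow_right j (by norm_num : Nat.Coprime 2 3)) h2
      (congrArg Subtype.val hj)
    rw [eq_inv_of_mul_eq_one_left h1, ← map_inv, ThreeTrans.inv_eq C.cls.1 hd])
  have ha2 : a ∈ U π D (π (m * d * m⁻¹)) := by
    rw [← ham]
    simpa using U_conj h m ha1
  have hfix : psi (m * d * m⁻¹) a = 1 :=
    psi_of_commute h hd'D (U_fix h hd'D (Commute.refl _) ha2) (U_sq h ha1)
  have h0 := psi_back h cu hd hd'D hap ha1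
  rw [hfix, psi_one h hd] at h0
  exact h0.symm

/-- A noncentral 3-core gives the first alternative, unless all points are pairwise apart. -/
theorem twins_case (hne : ∀ d ∈ D, π d ≠ 1) (hT : ¬ pCore 3 H ≤ Subgroup.center H)
    (hw : ∃ a ∈ π '' D, ∃ b ∈ π '' D, a ≠ b ∧ Commute a b) :
    IsElementaryAbelian 2 (pCore 2 G) ∧ ∃ K : Subgroup G, (pCore 2 G).IsComplement' K := by
  classical
  haveI : Fact (Nat.Prime 3) := ⟨Nat.prime_three⟩
  haveI : (pCore 3 H).Normal := Grp.pCore_isNormal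
  have hE := C.cls' hne
  let f := QuotientGroup.mk' (pCore 3 H)
  have hf1 : ∀ x, f x = 1 ↔ x ∈ pCore 3 H := fun x => QuotientGroup.eq_one_iff x
  have htw : ∀ x ∈ π '' D, ∀ y ∈ π '' D, f x = f y → Commute x y → x = y := fun x hx y hy e hc =>
    ThreeTrans.eq_of_commute_core hE hx hy ((hf1 _).1 (by
      rw [map_mul, e, ← map_mul, ThreeTrans.mul_self hE.1 hy, map_one])) hc
  have hmv : ∀ x ∈ π '' D, ∃ t ∈ pCore 3 H, ¬ Commute t x := by
    intro x hx
    by_contra hno
    push Not at hno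
    refine hT fun t ht => Subgroup.mem_center_iff.2 fun g => ?_
    have hle : Subgroup.closure (π '' D) ≤ Subgroup.centralizer {t} := (Subgroup.closure_le _).2 fun y hy => by
      obtain ⟨k, rfl⟩ := ThreeTrans.transitive hE hx hy
      rw [SetLike.mem_coe, Subgroup.mem_centralizer_singleton_iff]
      have := (hno _ (Subgroup.Normal.conj_mem (inferInstance : (pCore 3 H).Normal) t ht k⁻¹)).symm.map (MulAut.conj k).toMonoidHom
      simp only [MulEquiv.coe_toMonoidHom, MulAut.conj_apply, inv_inv] at this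
      rw [show k * (k⁻¹ * t * k) * k⁻¹ = t by group] at this
      exact this.eq
    exact Subgroup.mem_centralizer_singleton_iff.1 (hle (hE.2.2 ▸ Subgroup.mem_top g))
  -- the class of the quotient
  have hE1 : IsThreeTranspositionClass (f '' (π '' D)) := by
    have hord : ∀ x ∈ π '' D, f x ≠ 1 := by
      intro x hx e
      obtain ⟨j, hj⟩ := Transfer.pCore_isPGroup 3 H ⟨x, (hf1 x).1 e⟩
      exact ThreeTrans.ne_one hE.1 hx (Spor.FischerStr.eq_one_of_coprime (Nat.Coprime.pow_right j (by norm_num : Nat.Coprime 2 3))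
        (by rw [pow_two]; exact ThreeTrans.mul_self hE.1 hx) (congrArg Subtype.val hj))
    refine ⟨⟨?_, ?_⟩, ?_, ?_⟩
    · rintro _ ⟨x, hx, rfl⟩
      refine orderOf_eq_prime ?_ (hord x hx)
      rw [← map_pow, pow_two, ThreeTrans.mul_self hE.1 hx, map_one]
    · rintro _ ⟨x, hx, rfl⟩ _ ⟨y, hy, rfl⟩
      rcases hE.1.2 x hx y hy with k | k
      · left; rw [← map_mul, ← map_pow, k, map_one]
      · right; rw [← map_mul, ← map_pow, k, map_one]
    · obtain ⟨x, hx, -⟩ := hE.2.1
      refine ⟨f x, ⟨x, hx, rfl⟩, Set.ext fun y => ⟨?_, fun hy => ?_⟩⟩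
      · rintro ⟨z, hz, rfl⟩
        obtain ⟨g, rfl⟩ := ThreeTrans.transitive hE hx hz
        exact _root_.isConj_iff.2 ⟨f g, by simp⟩
      · obtain ⟨g', rfl⟩ := _root_.isConj_iff.1 (show _root_.IsConj (f x) y from hy)
        obtain ⟨g, rfl⟩ := QuotientGroup.mk'_surjective _ g'
        exact ⟨g * x * g⁻¹, ThreeTrans.conj_mem hE g hx, by simp [f]⟩
    · rw [← MonoidHom.map_closure, hE.2.2, Subgroup.map_top_of_surjective f (QuotientGroup.mk'_surjective _)]
  -- no planes below
  have hR : Spor.FischerThm.RowAdd (f '' (π '' D)) := by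
    rintro a ha b hb hab c hc hca hcb
    by_contra hn
    obtain ⟨S, hS, h9, hap, hcl, -⟩ := plane_nine ⟨hE1.1, fun g _ hd => ThreeTrans.conj_mem hE1 g hd⟩ ha hb hc hab
      (fun k => hca k.symm) (fun k => hcb k.symm) hn
    let S' := {x | x ∈ π '' D ∧ f x ∈ S}
    have himg : f '' S' = S := Set.ext fun s => ⟨fun ⟨x, hx, e⟩ => e ▸ hx.2, fun hs => by
      obtain ⟨x, hx, rfl⟩ := hS hs
      exact ⟨x, ⟨hx, hs⟩, rfl⟩⟩
    obtain ⟨s, hs⟩ : S.Nonempty := Set.nonempty_of_ncard_ne_zero (by rw [h9]; norm_num)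
    obtain ⟨x, hx, rfl⟩ := hS hs
    obtain ⟨t, ht, hn'⟩ := hmv x hx
    have hx' : t * x * t⁻¹ ∈ S' := ⟨ThreeTrans.conj_mem hE t hx, by
      simpa [(hf1 t).2 ht] using hs⟩
    have hxx : t * x * t⁻¹ ≠ x := fun k => hn' (mul_inv_eq_iff_eq_mul.1 k)
    obtain ⟨-, hsmall⟩ := closed_small C (S := S') (fun _ hy => hy.1)
      (fun y hy z hz hne k => by
        by_cases e : f y = f z
        · exact hne (htw y hy.1 z hz.1 e k)
        · exact hap _ hy.2 _ hz.2 e (k.map f))
      (fun y hy z hz => ⟨by simpa [ThreeTrans.inv_eq hE.1 hy.1] using ThreeTrans.conj_mem hE y hz.1, by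
        rw [map_mul, map_mul]; exact hcl _ hy.2 _ hz.2⟩)
      ⟨_, hx', x, ⟨hx, hs⟩, hxx⟩
    have hlt : (f '' S').ncard < S'.ncard := lt_of_le_of_ne (Set.ncard_image_le (Set.toFinite _)) fun e =>
      hxx (Set.ncard_image_iff (Set.toFinite _) |>.1 e hx' ⟨hx, hs⟩ (by simp [(hf1 t).2 ht]))
    rw [himg, h9] at hlt
    omega
  have hP : Paired (f '' (π '' D)) := by
    obtain ⟨a, ha, b, hb, hab, hc⟩ := hw
    exact paired_of_class hE1 ⟨_, ⟨a, ha, rfl⟩, _, ⟨b, hb, rfl⟩, fun e => hab (htw a ha b hb e hc), hc.map f⟩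
  have hnc : ∃ a ∈ f '' (π '' D), ∃ b ∈ f '' (π '' D), ¬ Commute a b := by
    by_contra hno
    push Not at hno
    -- then everything commutes modulo the core, so the group is the core times one member
    obtain ⟨a, ha, b, hb, hab, hc⟩ := hw
    obtain ⟨z, hz, -⟩ := hE1.2.1
    have hall : ∀ y ∈ f '' (π '' D), y = z := fun y hy => by
      obtain ⟨g, rfl⟩ := ThreeTrans.transitive hE1 hz hy
      have hg : g ∈ Subgroup.centralizer {z} := by
        refine (Subgroup.closure_le _).2 (fun w hw => ?_) (hE1.2.2 ▸ Subgroup.mem_top g : g ∈ Subgroup.closure (f '' (π '' D)))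
        exact Subgroup.mem_centralizer_singleton_iff.2 (hno w hw z hz).eq
      rw [Subgroup.mem_centralizer_singleton_iff.1 hg, mul_inv_cancel_right]
    exact hab (htw a ha b hb ((hall _ ⟨a, ha, rfl⟩).trans (hall _ ⟨b, hb, rfl⟩).symm) hc)
  have cu := CU_all C.hyp C.cls C.cen hE f hnc (spanning_of_rowAdd hE1 hR) hP
  obtain ⟨d, hd, -⟩ := C.cls.2.1
  have hel : IsElementaryAbelian 2 (pCore 2 G) := by
    refine elementary_of_threeImage C cu (pCore 3 H) (Transfer.pCore_isPGroup 3 H) hd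
      fun e he g hg a1 a2 a3 hturn => (hf1 _).1 ?_
    have hA : π d ∈ π '' D := ⟨d, hd, rfl⟩
    have hB : π e ∈ π '' D := ⟨e, he, rfl⟩
    have hC : π g ∈ π '' D := ⟨g, hg, rfl⟩
    have n1 := apart_image C.hyp hd he a1
    have n2 := apart_image C.hyp he hg a2
    have n3 := apart_image C.hyp hd hg a3
    rw [map_pow, map_mul, map_mul, map_pow, map_mul, map_mul]
    set a := f (π d) with hadef
    set b := f (π e) with hbdef
    set c := f (π g) with hcdef
    have aa : a * a = 1 := by rw [hadef, ← map_mul, ThreeTrans.mul_self hE.1 hA, map_one]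
    have bb : b * b = 1 := by rw [hbdef, ← map_mul, ThreeTrans.mul_self hE.1 hB, map_one]
    have cc : c * c = 1 := by rw [hcdef, ← map_mul, ThreeTrans.mul_self hE.1 hC, map_one]
    by_cases eab : a = b
    · rw [eab, mul_assoc, bb, mul_one, pow_two, cc]
    by_cases eac : a = c
    · rw [← eac, aa, one_mul, pow_two, bb]
    by_cases ebc : b = c
    · rw [ebc, show (c * a * c) ^ 2 = c * (a * (c * c) * a) * c by rw [pow_two]; simp only [mul_assoc], cc,
        mul_one, aa, mul_one, cc]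
    have nab : ¬ Commute a b := fun k => n1 (commute_of_map hE.1 f hA hB eab k)
    have nac : ¬ Commute a c := fun k => n3 (commute_of_map hE.1 f hA hC eac k)
    have nbc : ¬ Commute b c := fun k => n2 (commute_of_map hE.1 f hB hC ebc k)
    have hbab : b * a * b ∈ f '' (π '' D) := ⟨π e * π d * π e, by
      simpa [ThreeTrans.inv_eq hE.1 hB] using ThreeTrans.conj_mem hE (π e) hA, by simp only [a, b, map_mul]⟩
    have hcb : Commute c (b * a * b) := hR b ⟨_, hB, rfl⟩ a ⟨_, hA, rfl⟩ (fun k => nab k.symm) c ⟨_, hC, rfl⟩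
      (fun k => nbc k.symm) fun k => nac k.symm
    by_cases e3 : c = b * a * b
    · rw [e3, show b * a * b * a * b = (b * a * b) * (a * b) by simp only [mul_assoc],
        ← ThreeTrans.braid hE1.1 ⟨_, hA, rfl⟩ ⟨_, hB, rfl⟩ nab,
        show a * b * a * (a * b) = a by rw [mul_assoc (a * b) a, ← mul_assoc a a b, aa, one_mul, mul_assoc, bb, mul_one],
        pow_two, aa]
    · refine absurd (commute_of_map hE.1 f hC ?_ ?_ ?_) hturn
      · simpa [ThreeTrans.inv_eq hE.1 hB] using ThreeTrans.conj_mem hE (π e) hA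
      · rw [map_mul f, map_mul f]; exact e3
      · rw [map_mul f, map_mul f]; exact hcb
  exact ⟨hel, complement_of_three C cu hel (pCore 3 H) (Transfer.pCore_isPGroup 3 H) hmv⟩

end Cfsg.Agent.Fus.TwoRadical
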