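import Cfsg.Agent.Lib.Fus.TwoRadical.UnitPoint

/-!
Unit vectors of a Hermitian space over four elements and the elements of order three with a point and its
orthogonal hyperplane as eigenspaces.
-/

set_option autoImplicit false
set_option linter.style.haveILetI false
set_option linter.unusedSectionVars false

namespace Cfsg.Agent.Fus.TwoRadical.Unit

open Matrix Cfsg Cfsg.Agent.Classical Cfsg.Agent.Classical.PSUAut Cfsg.Agent.Spor.UnitTwo
open Cfsg.Agent.Block.FischerTypes Cfsg.Agent.Spor

variable {F : Type} [Field F] [Fintype F] {m k n : ℕ} (h4 : Fintype.card F = 4)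

local notation "hF" => card_sq h4

include h4

/-- Three vectors of a space of dimension at least seven are orthogonal to a unit vector. -/
theorem exists_unit_perp (hm : 7 ≤ m) (p : Fin 3 → Fin m → F) :
    ∃ u : Fin m → F, hermForm m F 2 u u = 1 ∧ ∀ i, hermForm m F 2 u (p i) = 0 := by
  classical
  let T : Matrix (Fin 3) (Fin m) F := fun i j => p i j ^ 2
  have hT : ∀ x i, (T *ᵥ x) i = hermForm m F 2 x (p i) := fun x i => by
    simp [T, Matrix.mulVec, dotProduct, hermForm, mul_comm]
  set W := LinearMap.ker T.mulVecLin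
  have hWmem : ∀ {x}, x ∈ W → ∀ i, hermForm m F 2 x (p i) = 0 := fun {x} hx i => by
    rw [← hT]; exact congrFun (show T *ᵥ x = 0 from hx) i
  by_contra hno
  push Not at hno
  have hiso : ∀ x ∈ W, hermForm m F 2 x x = 0 := fun x hx => by
    rcases U6.real_zero_or_one h4 (cj_h_self hF x) with e | e
    · exact e
    · exact absurd (hWmem hx) (fun k => by obtain ⟨i, hi⟩ := hno x e; exact hi (k i))
  obtain ⟨w, hw0, hw1, hww, hwc, -⟩ := U6.exists_omega h4
  have htot : ∀ x ∈ W, ∀ y ∈ W, hermForm m F 2 x y = 0 := fun x hx y hy => by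
    set a := hermForm m F 2 x y with ha
    have hyx : hermForm m F 2 y x = qFrob hF a := by rw [ha, cj_h hF]
    have h1 := hiso _ (add_mem hx hy)
    have h2 := hiso _ (add_mem hx (W.smul_mem w hy))
    simp only [h_add_left, h_add_right hF, h_smul_left, h_smul_right hF, hiso x hx, hiso y hy, mul_zero,
      zero_add, add_zero, hyx, ← ha, hwc] at h1 h2
    linear_combination h2 - w * h1
  have hker : m ≤ Module.finrank F W + 3 := by
    have h1 := LinearMap.finrank_range_add_finrank_ker T.mulVecLin
    have h2 := Submodule.finrank_le (LinearMap.range T.mulVecLin)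
    rw [Module.finrank_fin_fun] at h1 h2
    have : Module.finrank F W = Module.finrank F ↥(LinearMap.ker T.mulVecLin) := rfl
    omega
  set b := Module.finBasis F W
  let A : Matrix (Fin (Module.finrank F W)) (Fin m) F := fun i j => (b i : Fin m → F) j ^ 2
  have hA : LinearIndependent F A.row := by
    rw [Fintype.linearIndependent_iff]
    intro c hc i
    have e : ∑ i, qFrob hF (c i) • b i = 0 := by
      refine Subtype.ext (funext fun j => ?_)
      have h := congrArg (qFrob hF) (congrFun hc j)
      simp only [Finset.sum_apply, Pi.smul_apply, smul_eq_mul, map_sum, map_mul, Pi.zero_apply, map_zero] at h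
      rw [Submodule.coe_sum, Finset.sum_apply]
      simp only [Submodule.coe_smul, Pi.smul_apply, smul_eq_mul]
      refine Eq.trans (Finset.sum_congr rfl fun i _ => ?_) h
      show _ = qFrob hF (c i) * qFrob hF ((b i : Fin m → F) j ^ 2)
      rw [← qFrob_apply hF, qFrob_qFrob]
    have := Fintype.linearIndependent_iff.1 b.linearIndependent _ e i
    exact (qFrob hF).injective (this.trans (map_zero _).symm)
  have hrank := hA.rank_matrix
  rw [Fintype.card_fin] at hrank
  have hle : W ≤ LinearMap.ker A.mulVecLin := fun x hx => by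
    rw [LinearMap.mem_ker, Matrix.mulVecLin_apply]
    funext i
    have := htot x hx _ (b i).2
    simpa [A, Matrix.mulVec, dotProduct, hermForm, mul_comm] using this
  have h3 := LinearMap.finrank_range_add_finrank_ker A.mulVecLin
  rw [Module.finrank_fin_fun, ← Matrix.rank, hrank] at h3
  have := Submodule.finrank_mono hle
  omega

/-- The coefficient of the second eigenvalue. -/
def coef (w : F) (n : ℕ) : F := w ^ (2 * n) + 1

/-- The matrix with eigenvalues on a unit vector and on its orthogonal space. -/
def gMat (w : F) (u : Fin n → F) : Matrix (Fin n) (Fin n) F :=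
  w • (1 + Matrix.vecMulVec (coef w n • u) (fun i => u i ^ 2))

theorem gMat_mulVec (w : F) (u x : Fin n → F) :
    gMat w u *ᵥ x = w • (x + (coef w n * hermForm n F 2 x u) • u) := by
  rw [gMat, Matrix.smul_mulVec, Matrix.add_mulVec, Matrix.one_mulVec, Matrix.vecMulVec_mulVec, op_smul_eq_smul]
  congr 2
  rw [smul_smul, mul_comm (coef w n)]
  congr 1
  congr 1
  simp [hermForm, dotProduct, mul_comm]

/-- The element of order three of a unit vector. -/
noncomputable def gU {w : F} (hw : w * w = w + 1) {u : Fin n → F} (hu : hermForm n F 2 u u = 1) : SU n F 2 :=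
  ⟨⟨gMat w u, by
    have hw0 : w ≠ 0 := fun e => one_ne_zero (α := F) (by rw [e, zero_mul, zero_add] at hw; exact hw.symm)
    have h3 : w ^ 3 = 1 := by
      have := FiniteField.pow_card_sub_one_eq_one w hw0; rwa [h4] at this
    have hdot : (fun i => u i ^ 2) ⬝ᵥ (coef w n • u) = coef w n := by
      rw [dotProduct_smul, smul_eq_mul, show (fun i => u i ^ 2) ⬝ᵥ u = hermForm n F 2 u u by
        simp [hermForm, dotProduct, mul_comm], hu, mul_one]
    rw [gMat, Matrix.det_smul, Fintype.card_fin, Matrix.vecMulVec_eq Unit,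
      Matrix.det_one_add_replicateCol_mul_replicateRow, hdot, coef,
      show w ^ n * (1 + (w ^ (2 * n) + 1)) = (w ^ 3) ^ n + w ^ n * (1 + 1) by ring, h3, one_pow,
      add_self h4, mul_zero, add_zero]⟩, fun x y => by
    show hermForm n F 2 (gMat w u *ᵥ x) (gMat w u *ᵥ y) = _
    have hw0 : w ≠ 0 := fun e => one_ne_zero (α := F) (by rw [e, zero_mul, zero_add] at hw; exact hw.symm)
    have hn1 : (coef w n + 1) * qFrob hF (coef w n + 1) = 1 := by
      refine UnitTwo.norm_one h4 ?_
      rw [coef, add_assoc, add_self h4, add_zero]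
      exact pow_ne_zero _ hw0
    rw [map_add, map_one] at hn1
    have hk : coef w n + qFrob hF (coef w n) + coef w n * qFrob hF (coef w n) = 0 := by linear_combination hn1
    rw [gMat_mulVec h4, gMat_mulVec h4]
    simp only [h_smul_left, h_smul_right hF, h_add_left, h_add_right hF, map_mul, hu, mul_one]
    rw [cj_h hF y u]
    linear_combination (hermForm n F 2 x y + (coef w n + qFrob hF (coef w n) + coef w n * qFrob hF (coef w n)) *
      (hermForm n F 2 x u * hermForm n F 2 u y)) * UnitTwo.norm_one h4 hw0 + (hermForm n F 2 x u * hermForm n F 2 u y) * hk⟩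

variable {w : F} (hw : w * w = w + 1)

theorem gU_apply {u : Fin n → F} (hu : hermForm n F 2 u u = 1) (x : Fin n → F) :
    suVal (gU h4 hw hu) *ᵥ x = w • (x + (coef w n * hermForm n F 2 x u) • u) := gMat_mulVec h4 w u x

theorem gU_perp {u : Fin n → F} (hu : hermForm n F 2 u u = 1) {x : Fin n → F} (hx : hermForm n F 2 x u = 0) :
    suVal (gU h4 hw hu) *ᵥ x = w • x := by
  rw [gU_apply, hx, mul_zero, zero_smul, add_zero]

theorem gU_self {u : Fin n → F} (hu : hermForm n F 2 u u = 1) :
    suVal (gU h4 hw hu) *ᵥ u = (w * (1 + coef w n)) • u := by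
  rw [gU_apply, hu, mul_one, mul_smul, add_smul, one_smul]

theorem gU_comm {u v : Fin n → F} (hu : hermForm n F 2 u u = 1) (hv : hermForm n F 2 v v = 1)
    (huv : hermForm n F 2 u v = 0) : Commute (gU h4 hw hu) (gU h4 hw hv) := by
  refine suVal_ext (Matrix.ext_iff_mulVec.2 fun x => ?_)
  have hvu := h_comm_zero hF huv
  rw [suVal_mul, suVal_mul, ← Matrix.mulVec_mulVec, ← Matrix.mulVec_mulVec]
  simp only [gU_apply, h_smul_left, h_add_left, huv, hvu, mul_zero, add_zero, smul_add, smul_smul]
  module

/-- Fixing a singular point means being orthogonal to it. -/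
theorem gU_fix {u : Fin n → F} (hu : hermForm n F 2 u u = 1) (hw0 : w ≠ 0) {x : Fin n → F}
    (hxx : hermForm n F 2 x x = 0) (hc : coef w n ≠ 0) {a : F} (e : suVal (gU h4 hw hu) *ᵥ x = a • x) :
    hermForm n F 2 x u = 0 := by
  by_contra hxu
  rw [gU_apply, smul_add, smul_smul] at e
  set b := w * (coef w n * hermForm n F 2 x u)
  have hb : b ≠ 0 := mul_ne_zero hw0 (mul_ne_zero hc hxu)
  have e' : b • u = (a - w) • x := by rw [sub_smul, ← e]; abel
  have e2 : u = (b⁻¹ * (a - w)) • x := by rw [← smul_smul, ← e', inv_smul_smul₀ hb]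
  rw [e2, h_smul_left, h_smul_right hF, hxx] at hu
  simp at hu

end Cfsg.Agent.Fus.TwoRadical.Unit
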