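import Cfsg.Agent.Lib.Fus.TwoRadical.UnitCase

/-!
The unitary quotients of degree four or at least six prime to three: the radical is elementary abelian, and the
elements of order three of unit vectors orthogonal to the first coordinates are anchors.
-/

set_option autoImplicit false
set_option linter.style.haveILetI false
set_option linter.unusedSectionVars false

namespace Cfsg.Agent.Fus.TwoRadical

open Matrix Cfsg Cfsg.Agent.Spor Cfsg.Agent.Fus.SUTwoRadical Cfsg.Agent.Classical Cfsg.Agent.Classical.PSUAut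
open Cfsg.Agent.Spor.UnitTwo Cfsg.Agent.Block.FischerTypes Cfsg.Agent.Fus.TwoRadical.Unit

universe u v

variable {G : Type u} [Group G] [Finite G] {H : Type v} [Group H] [Finite H] {π : G →* H} {D : Set G}
  (C : Ctx π D) (cu : ∀ x ∈ π '' D, ∀ y ∈ π '' D, CU π D x y)
  {F : Type} [Field F] [Fintype F] (h4 : Fintype.card F = 4) {n : ℕ} (h6 : 6 ≤ n ∨ n = 4) (h3 : n % 3 ≠ 0)
  (ψ : H ≃* SU n F 2)
  (hψ : ∀ d ∈ D, ∃ v : Fin n → F, v ≠ 0 ∧ ∃ hv : hermForm n F 2 v v = 0, ψ (π d) = tv h4 hv)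
  (hψ' : ∀ v : Fin n → F, v ≠ 0 → ∀ hv : hermForm n F 2 v v = 0, ∃ d ∈ D, ψ (π d) = tv h4 hv)
  (hR : ThreeTrans.Hyp (U6.roots h4 n))

include C h6 h3 hψ hψ' hR

/-- A fixed point has an eigenvalue. -/
theorem exists_scalar {d g : G} {v : Fin n → F} (hv0 : v ≠ 0) (hv : hermForm n F 2 v v = 0)
    (ev : ψ (π d) = tv h4 hv) (hg : π g * π d * (π g)⁻¹ = π d) :
    ∃ a : F, a ≠ 0 ∧ suVal (ψ (π g)) *ᵥ v = a • v := by
  have e : U6.root h4 (v := suVal (ψ (π g)) *ᵥ v) (by rw [su_form]; exact hv) = U6.root h4 hv := by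
    rw [← root_conj h4 (ψ (π g)) hv]
    show suToPSU n F 2 _ * suToPSU n F 2 (tv h4 hv) * _ = suToPSU n F 2 (tv h4 hv)
    rw [← map_inv, ← map_mul, ← map_mul, ← ev, ← map_inv, ← map_mul, ← map_mul, hg]
  exact U6.root_eq h4 (by omega) (by rw [su_form]; exact hv) hv (mulVec_ne hv0) e

/-- An eigenvector gives a fixed point. -/
theorem fix_of_scalar {x g : H} {v : Fin n → F} (hv : hermForm n F 2 v v = 0) (ev : ψ x = tv h4 hv) {a : F}
    (ha : a ≠ 0) (e : suVal (ψ g) *ᵥ v = a • v) : g * x * g⁻¹ = x := ψ.injective (by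
  rw [map_mul, map_mul, map_inv, ev, suVal_conj h4]
  refine suVal_ext ?_
  rw [suVal_tv h4, suVal_tv h4, e, T_smul h4 ha])

/-- Eigenvalue one means acting as an element fixing the fibre. -/
theorem exists_fix_one {d g : G} (hd : d ∈ D) {v : Fin n → F} (hv0 : v ≠ 0) (hv : hermForm n F 2 v v = 0)
    (ev : ψ (π d) = tv h4 hv) (e : suVal (ψ (π g)) *ᵥ v = v) : ∃ t ∈ Fix π D (π d), π t = π g := by
  obtain ⟨k, rfl⟩ : ∃ k, n = 2 + k := ⟨n - 2, by omega⟩
  have hinj := suToPSU_inj (F := F) h4 (n := 2 + k) h3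
  let φ : H →* PSU (2 + k) F 2 := (suToPSU (2 + k) F 2).comp ψ.toMonoidHom
  have hφ : Function.Injective φ := hinj.comp ψ.injective
  have hcom : ∀ x ∈ π '' D, ∀ y ∈ π '' D, Commute (φ x) (φ y) → Commute x y := fun x _ y _ k' =>
    hφ (by rw [map_mul, map_mul]; exact k'.eq)
  have himg : φ '' (π '' D) = U6.roots h4 (2 + k) := by
    refine Set.ext fun y => ⟨?_, ?_⟩
    · rintro ⟨_, ⟨e, he, rfl⟩, rfl⟩
      obtain ⟨w, hw0, hw, ew⟩ := hψ e he
      exact ⟨w, hw0, hw, (congrArg (suToPSU (2 + k) F 2) ew).symm⟩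
    · rintro ⟨w, hw0, hw, rfl⟩
      obtain ⟨e, he, ee⟩ := hψ' w hw0 hw
      exact ⟨π e, ⟨e, he, rfl⟩, congrArg (suToPSU (2 + k) F 2) ee⟩
  obtain ⟨t, ht, et⟩ := exists_fix C h4 φ hcom himg hd (g := g) (by
    rw [show φ (π d) = U6.root h4 hv from congrArg (suToPSU (2 + k) F 2) ev]
    exact stab_mem h4 (by omega) hR hv0 hv e)
  exact ⟨t, ht, hφ et⟩

include cu

/-- The radical is elementary abelian. -/
theorem elementary_unit : IsElementaryAbelian 2 (pCore 2 G) := by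
  have h := C.hyp
  obtain ⟨d, hd, -⟩ := C.cls.2.1
  refine elementary_of_image C cu hd fun e he f hf e' he' f' hf' a1 a2 a3 b1 b2 b3 _ _ => ?_
  obtain ⟨v, hv0, hv, ev⟩ := hψ d hd
  set m := (f * d * e) ^ 2
  set m' := (f' * d * e') ^ 2
  have fx : ∀ {g : G}, Commute g d → π g * π d * (π g)⁻¹ = π d := fun {g} k => by
    rw [(k.map π).eq, mul_inv_cancel_right]
  have c := mon_commute h hd (tri_mem he hf a1 a2 a3)
  have c' := mon_commute h hd (tri_mem he' hf' b1 b2 b3)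
  obtain ⟨a, ha, ea⟩ := exists_scalar C h4 h6 h3 ψ hψ hψ' hR hv0 hv ev (g := m) (fx c)
  obtain ⟨a', ha', ea'⟩ := exists_scalar C h4 h6 h3 ψ hψ hψ' hR hv0 hv ev (g := m') (fx c')
  have hinv : ∀ {s : SU n F 2} {b : F}, b ≠ 0 → suVal s *ᵥ v = b • v → suVal s⁻¹ *ᵥ v = b⁻¹ • v := by
    intro s b hb es
    have e1 := congrArg (suVal s⁻¹ *ᵥ ·) es
    simp only [Matrix.mulVec_mulVec, ← suVal_mul, inv_mul_cancel, Matrix.mulVec_smul] at e1
    rw [show suVal (1 : SU n F 2) = 1 from rfl, Matrix.one_mulVec] at e1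
    rw [eq_inv_smul_iff₀ hb]
    exact e1.symm
  obtain ⟨t, ht, et⟩ := exists_fix_one C h4 h6 h3 ψ hψ hψ' hR hd hv0 hv ev (g := m * m' * m⁻¹ * m'⁻¹) (by
    simp only [map_mul, map_inv, suVal_mul, ← Matrix.mulVec_mulVec, hinv ha' ea', Matrix.mulVec_smul,
      hinv ha ea, ea', ea, smul_smul]
    rw [show a'⁻¹ * (a⁻¹ * (a' * a)) = 1 by field_simp, one_smul])
  exact ⟨t, ht, by rw [et, map_mul, map_mul, map_mul, map_inv, map_inv]⟩

variable (hel : IsElementaryAbelian 2 (pCore 2 G)) (hRA : ¬ Spor.FischerThm.RowAdd (π '' D))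
include hel hRA

omit cu in
/-- Equal eigenvalues act alike. -/
theorem scalar_act {d g g' : G} (hd : d ∈ D) {v : Fin n → F} (hv0 : v ≠ 0) (hv : hermForm n F 2 v v = 0)
    (ev : ψ (π d) = tv h4 hv) {a : F} (e : suVal (ψ (π g)) *ᵥ v = a • v)
    (e' : suVal (ψ (π g')) *ᵥ v = a • v) {b : G} (hb : b ∈ U π D (π d)) : g * b * g⁻¹ = g' * b * g'⁻¹ := by
  obtain ⟨t, ht, et⟩ := exists_fix_one C h4 h6 h3 ψ hψ hψ' hR hd hv0 hv ev (g := g⁻¹ * g') (by
    rw [map_mul, map_mul, map_inv, map_inv, suVal_mul, ← Matrix.mulVec_mulVec, e', ← e, Matrix.mulVec_mulVec,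
      ← suVal_mul, inv_mul_cancel]
    exact Matrix.one_mulVec v)
  have hq : t⁻¹ * (g⁻¹ * g') ∈ pCore 2 G := (C.ker _).1 (by rw [map_mul, map_inv, et, inv_mul_cancel])
  have hc : Commute (t⁻¹ * (g⁻¹ * g')) b := congrArg Subtype.val
    (hel.1.is_comm.comm (⟨_, hq⟩ : pCore 2 G) ⟨b, (C.ker _).1 (U_ker C.hyp hb)⟩)
  symm
  calc g' * b * g'⁻¹ = g * (t * ((t⁻¹ * (g⁻¹ * g')) * b * (t⁻¹ * (g⁻¹ * g'))⁻¹) * t⁻¹) * g⁻¹ := by group
    _ = g * (t * b * t⁻¹) * g⁻¹ := by rw [hc.eq, mul_inv_cancel_right]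
    _ = _ := by rw [ht b hb]

/-- An eigenvalue other than one has no fixed point in the fibre group. -/
theorem fpf {d g : G} (hd : d ∈ D) {v : Fin n → F} (hv0 : v ≠ 0) (hv : hermForm n F 2 v v = 0)
    (ev : ψ (π d) = tv h4 hv) {a : F} (ha : a ≠ 1) (ha0 : a ≠ 0) (ea : suVal (ψ (π g)) *ᵥ v = a • v)
    {b : G} (hb : b ∈ U π D (π d)) (hfix : g * b * g⁻¹ = b) : b = 1 := by
  have h := C.hyp
  have hR' := hRA
  simp only [Spor.FischerThm.RowAdd, not_forall] at hR'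
  obtain ⟨_, ⟨e0, he0, rfl⟩, _, ⟨d0, hd0, rfl⟩, hab, _, ⟨f0, hf0, rfl⟩, hfa, hfb, hfc⟩ := hR'
  obtain ⟨c, ec⟩ := ThreeTrans.transitive C.cls hd0 hd
  have key : ∀ {x y : G}, ¬ Commute (π x) (π y) → ¬ Commute (c * x * c⁻¹) (c * y * c⁻¹) := fun {x y} hn k' =>
    hn (((ThreeTrans.commute_conj_iff c x y).1 k').map π)
  have he : c * e0 * c⁻¹ ∈ D := C.conj c he0
  have hf : c * f0 * c⁻¹ ∈ D := C.conj c hf0
  have a1 : ¬ Commute d (c * e0 * c⁻¹) := ec ▸ key (fun k => hab k.symm)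
  have a2 : ¬ Commute (c * e0 * c⁻¹) (c * f0 * c⁻¹) := key (fun k => hfa k.symm)
  have a3 : ¬ Commute d (c * f0 * c⁻¹) := ec ▸ key (fun k => hfb k.symm)
  have hc : ¬ Commute (π (c * f0 * c⁻¹)) (π (c * e0 * c⁻¹) * π d * π (c * e0 * c⁻¹)) := fun k' =>
    hfc ((ThreeTrans.commute_conj_iff (π c) _ _).1 (by simpa [← ec, mul_assoc] using k'))
  have hm := tri_mem he hf a1 a2 a3
  have hq := tri_quad h cu hd he hf a1 a2 a3 hc hb
  set m := (c * f0 * c⁻¹ * d * (c * e0 * c⁻¹)) ^ 2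
  suffices hmb : m * b * m⁻¹ = b by
    rw [hmb, hmb, U_sq h hb] at hq
    exact hq.symm
  obtain ⟨θ, hθ0, eθ⟩ := exists_scalar C h4 h6 h3 ψ hψ hψ' hR hv0 hv ev (g := m) (by
    rw [((mon_commute h hd hm).map π).eq, mul_inv_cancel_right])
  have one : suVal (ψ (π (1 : G))) *ᵥ v = (1 : F) • v := by
    rw [map_one, map_one, one_smul]; exact Matrix.one_mulVec v
  by_cases hθ : θ = 1
  · have := scalar_act C h4 h6 h3 ψ hψ hψ' hR hel hRA hd hv0 hv ev (hθ ▸ eθ) one hb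
    simpa using this
  obtain ⟨w, hw0, hw1, -, -, hall⟩ := U6.exists_omega h4
  have hcases : θ = a ∨ θ * a = 1 := by
    rcases hall θ with r | r | r | r <;> rcases hall a with r' | r' | r' | r'
    all_goals first
      | exact absurd r hθ0
      | exact absurd r hθ
      | exact absurd r' ha0
      | exact absurd r' ha
      | exact Or.inl (r.trans r'.symm)
      | (right
         have := FiniteField.pow_card_sub_one_eq_one w hw0
         rw [h4] at this
         have e2 : w * w = w + 1 := by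
           have : (w - 1) * (w * w + w + 1) = 0 := by linear_combination this
           rcases mul_eq_zero.mp this with q | q
           · exact absurd (sub_eq_zero.mp q) hw1
           · linear_combination q - add_self h4 w - add_self h4 (1 : F)
         rw [r, r']
         linear_combination e2 + add_self h4 w)
  rcases hcases with r | r
  · rw [scalar_act C h4 h6 h3 ψ hψ hψ' hR hel hRA hd hv0 hv ev (r ▸ eθ) ea hb]
    exact hfix
  · have e2 : suVal (ψ (π (g * m))) *ᵥ v = (1 : F) • v := by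
      rw [map_mul, map_mul, suVal_mul, ← Matrix.mulVec_mulVec, eθ, Matrix.mulVec_smul, ea, smul_smul, r]
    have := scalar_act C h4 h6 h3 ψ hψ hψ' hR hel hRA hd hv0 hv ev e2 one hb
    calc m * b * m⁻¹ = g⁻¹ * (g * m * b * (g * m)⁻¹) * g := by group
      _ = g⁻¹ * b * g := by rw [this]; simp
      _ = g⁻¹ * (g * b * g⁻¹) * g := by rw [hfix]
      _ = b := by group

/-- An element fixing a point with eigenvalue other than one and commuting with `q` makes `q` fix the members. -/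
theorem commute_member {d g q : G} (hd : d ∈ D) {v : Fin n → F} (hv0 : v ≠ 0) (hv : hermForm n F 2 v v = 0)
    (ev : ψ (π d) = tv h4 hv) {a : F} (ha : a ≠ 1) (ha0 : a ≠ 0) (ea : suVal (ψ (π g)) *ᵥ v = a • v)
    (hq : q ∈ pCore 2 G) (hgq : Commute g q) : Commute q d := by
  have h := C.hyp
  have cm : ∀ {b : G}, b ∈ U π D (π d) → Commute q b := fun hb => congrArg Subtype.val
    (hel.1.is_comm.comm (⟨q, hq⟩ : pCore 2 G) ⟨_, (C.ker _).1 (U_ker h hb)⟩)
  have hqd : π (q * d * q⁻¹) = π d := by simp [(C.ker q).2 hq]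
  have hc : d * (q * d * q⁻¹) ∈ U π D (π d) := pair_mem hd (C.conj q hd) hqd.symm
  have hgd : π (g * d * g⁻¹) = π d := by
    rw [map_mul, map_mul, map_inv]
    exact fix_of_scalar C h4 h6 h3 ψ hψ hψ' hR hv ev ha0 ea
  obtain ⟨b, hb, eb⟩ : ∃ b ∈ U π D (π d), g * d * g⁻¹ = d * b :=
    ⟨d * (g * d * g⁻¹), pair_mem hd (C.conj g hd) hgd.symm, (ThreeTrans.mul_self_mul C.cls.1 hd _).symm⟩
  have h1 : d * (q * d * q⁻¹) = 1 := by
    refine fpf C cu h4 h6 h3 ψ hψ hψ' hR hel hRA hd hv0 hv ev ha ha0 ea hc ?_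
    set c := d * (q * d * q⁻¹)
    have hbd : b * d = d * b := (U_fix h hd (Commute.refl _) hb).symm.eq
    calc g * c * g⁻¹ = (g * d * g⁻¹) * ((g * q) * d * (g * q)⁻¹) := by simp only [c]; group
      _ = (g * d * g⁻¹) * (q * (g * d * g⁻¹) * q⁻¹) := by rw [hgq.eq]; group
      _ = d * b * (q * d * q⁻¹) * (q * b * q⁻¹) := by rw [eb]; group
      _ = b * c * b := by rw [(cm hb).eq, mul_inv_cancel_right, ← hbd]; simp only [c, mul_assoc]
      _ = c := by rw [(U_comm h hb hc).eq, mul_assoc, U_sq h hb, mul_one]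
  exact mul_inv_eq_iff_eq_mul.1
    ((eq_inv_of_mul_eq_one_right h1).trans (ThreeTrans.inv_eq C.cls.1 hd))

end Cfsg.Agent.Fus.TwoRadical
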