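import Cfsg.Agent.Lib.Fus.TwoRadical.UnitAlg
import Cfsg.Agent.Lib.Fus.TwoRadical.Anchor
import Cfsg.Agent.Lib.Fus.TwoRadical.PerpCentral
import Cfsg.Agent.Lib.Classical.UnitMultMain

/-!
The unitary quotients: for a degree divisible by three turning triangles have central images; for the other
degrees the quotient is the special unitary group, and from degree eight on anchors give a complement.
-/

set_option autoImplicit false
set_option linter.style.haveILetI false
set_option linter.unusedSectionVars false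

namespace Cfsg.Agent.Fus.TwoRadical

open Matrix Cfsg Cfsg.Agent.Spor Cfsg.Agent.Fus.SUTwoRadical Cfsg.Agent.Classical Cfsg.Agent.Classical.PSUAut
open Cfsg.Agent.Spor.UnitTwo Cfsg.Agent.Block.FischerTypes Cfsg.Agent.Fus.TwoRadical.Unit

universe u v

/-- For degrees prime to three the centre of `SU_n(2)` is trivial. -/
theorem suToPSU_inj {F : Type} [Field F] [Fintype F] (h4 : Fintype.card F = 4) {n : ℕ} (h3 : n % 3 ≠ 0) :
    Function.Injective (suToPSU n F 2) := by
  rw [injective_iff_map_eq_one]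
  intro s hs
  obtain ⟨l, hl⟩ := (pi_eq_one_iff (card_sq h4)).1 hs
  have hd : (suVal s).det = 1 := s.1.2
  rw [hl, Matrix.det_smul, Matrix.det_one, mul_one, Fintype.card_fin] at hd
  have hl0 : l ≠ 0 := by rintro rfl; rw [zero_pow (by rintro rfl; simp at h3)] at hd; exact zero_ne_one hd
  have hl3 : l ^ 3 = 1 := by simpa [h4] using FiniteField.pow_card_sub_one_eq_one l hl0
  have hl1 : l = 1 := by
    have := pow_gcd_eq_one.2 ⟨hd, hl3⟩
    rwa [show Nat.gcd n 3 = 1 by
      rw [Nat.gcd_comm]; exact (Nat.prime_three.coprime_iff_not_dvd).2 fun k => h3 (Nat.mod_eq_zero_of_dvd k),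
      pow_one] at this
  exact suVal_ext (hl.trans (by rw [hl1, one_smul]; rfl))

section

variable {G : Type u} [Group G] [Finite G] {D : Set G}

/-- A central element of a group generated by the class lies in the commutator subgroup. -/
theorem central_mem_commutator {H' : Type*} [Group H'] [Finite H'] {π' : G →* H'} (C : Ctx π' D)
    (hne : ∀ d ∈ D, π' d ≠ 1) (h2 : pCore 2 H' = ⊥) {z : H'} (hzc : z ∈ Subgroup.center H') :
    z ∈ commutator H' ∧ Odd (orderOf z) := by
  haveI : Fact (Nat.Prime 2) := ⟨Nat.prime_two⟩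
  have hE := C.cls' hne
  obtain ⟨d0, hd0, -⟩ := C.cls.2.1
  have hsq : ∀ g : H', g ^ 2 ∈ commutator H' := by
    have himgq : ∀ g : H', Abelianization.of g = 1 ∨ Abelianization.of g = Abelianization.of (π' d0) := by
      intro g
      have hg : g ∈ Subgroup.closure (π' '' D) := hE.2.2 ▸ Subgroup.mem_top g
      have hone : Abelianization.of (π' d0) * Abelianization.of (π' d0) = 1 := by
        rw [← map_mul, ← map_mul, ThreeTrans.mul_self C.cls.1 hd0, map_one, map_one]
      have hd : ∀ x ∈ π' '' D, Abelianization.of x = Abelianization.of (π' d0) := fun x hx => by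
        obtain ⟨c, rfl⟩ := ThreeTrans.transitive hE ⟨d0, hd0, rfl⟩ hx
        rw [map_mul, map_mul, map_inv, mul_comm (Abelianization.of c), mul_inv_cancel_right]
      induction hg using Subgroup.closure_induction with
      | mem x hx => exact Or.inr (hd x hx)
      | one => exact Or.inl (map_one _)
      | mul x y _ _ ihx ihy => rcases ihx with e | e <;> rcases ihy with e' | e' <;> simp [e, e', hone]
      | inv x _ ih => rcases ih with e | e <;> simp [e, inv_eq_of_mul_eq_one_right hone]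
    intro g
    rw [← QuotientGroup.eq_one_iff]
    show Abelianization.of (g ^ 2) = 1
    rcases himgq g with e | e <;> rw [map_pow, e]
    · exact one_pow 2
    · rw [pow_two, ← map_mul, ← map_mul, ThreeTrans.mul_self C.cls.1 hd0, map_one, map_one]
  obtain ⟨i, r, hr, hzr⟩ := Nat.exists_eq_pow_mul_and_not_dvd (orderOf_pos z).ne' 2 (by norm_num)
  have h1 : z ^ r = 1 := by
    rw [← Subgroup.mem_bot, ← h2]
    have hN : (Subgroup.zpowers (z ^ r)).Normal := ⟨fun w hw g' => by
      rw [Subgroup.mem_center_iff.1 (Subgroup.zpowers_le.2 (pow_mem hzc r) hw) g', mul_inv_cancel_right]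
      exact hw⟩
    refine Grp.le_pCore hN (fun w => ⟨i, Subtype.ext ?_⟩) (Subgroup.mem_zpowers _)
    obtain ⟨j, hj⟩ := Subgroup.mem_zpowers_iff.1 w.2
    rw [Subgroup.coe_pow, ← hj, Subgroup.coe_one, ← zpow_natCast, ← _root_.zpow_mul, mul_comm, _root_.zpow_mul,
      zpow_natCast, ← pow_mul, mul_comm, ← hzr, pow_orderOf_eq_one, _root_.one_zpow]
  obtain ⟨j, hj⟩ : ∃ j, r = 2 * j + 1 := ⟨r / 2, by omega⟩
  refine ⟨?_, ?_⟩
  swap
  · exact Odd.of_dvd_nat ⟨j, hj⟩ (orderOf_dvd_of_pow_eq_one h1)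
  rw [show z = ((z ^ 2) ^ j)⁻¹ by
    rw [eq_inv_iff_mul_eq_one, ← pow_mul, ← pow_succ', ← hj, h1]]
  exact inv_mem (pow_mem (hsq z) j)

end

variable {G : Type u} [Group G] [Finite G] {H : Type v} [Group H] [Finite H] {π : G →* H} {D : Set G}
  (C : Ctx π D) {F : Type} [Field F] [Fintype F] (h4 : Fintype.card F = 4) {n : ℕ} (φ : H →* PSU n F 2)
  (hcom : ∀ x ∈ π '' D, ∀ y ∈ π '' D, Commute (φ x) (φ y) → Commute x y)
  (himg : φ '' (π '' D) = U6.roots h4 n)

include C hcom himg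

/-- An element in the group of the orthogonal roots acts as one fixing the fibre. -/
theorem exists_fix {d : G} (hd : d ∈ D) {g : G} (hg : φ (π g) ∈ NR h4 (φ (π d))) :
    ∃ t ∈ Fix π D (π d), φ (π t) = φ (π g) := by
  have hle : NR h4 (φ (π d)) ≤ (Fix π D (π d)).map (φ.comp π) := (Subgroup.closure_le _).2 fun z hz => by
    obtain ⟨_, ⟨e, he, rfl⟩, rfl⟩ := himg.symm ▸ hz.1
    refine ⟨e, fun a ha => ?_, rfl⟩
    rw [(U_fix C.hyp he (hcom _ ⟨e, he, rfl⟩ _ ⟨d, hd, rfl⟩ hz.2) ha).eq, mul_inv_cancel_right]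
  exact hle hg

/-- For degrees divisible by three every stabiliser is the group of the orthogonal roots. -/
theorem imgCentral_three (hn : 6 ≤ n) (h3 : n % 3 = 0) (hR : ThreeTrans.Hyp (U6.roots h4 n))
    (hker : ∀ z, φ z = 1 → z ∈ Subgroup.center H) : ImgCentral π D := by
  obtain ⟨k, rfl⟩ : ∃ k, n = 2 + k := ⟨n - 2, by omega⟩
  have h := C.hyp
  refine imgCentral_of_sup fun d hd e he f hf a1 a2 a3 _ => ?_
  set m := (f * d * e) ^ 2
  obtain ⟨v, hv0, hv, ev⟩ : φ (π d) ∈ U6.roots h4 (2 + k) := himg ▸ ⟨_, ⟨d, hd, rfl⟩, rfl⟩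
  obtain ⟨s, hs⟩ := pi_surjective (n := 2 + k) (F := F) (q := 2) (φ (π m))
  have hc : Commute (φ (π m)) (φ (π d)) := ((mon_commute h hd (tri_mem he hf a1 a2 a3)).map π).map φ
  have e1 : U6.root h4 (v := suVal s *ᵥ v) (by rw [su_form]; exact hv) = U6.root h4 hv := by
    rw [← root_conj h4 s hv, hs, ev, hc.eq, mul_inv_cancel_right]
  obtain ⟨a, ha, ea⟩ := U6.root_eq h4 (by omega) (by rw [su_form]; exact hv) hv (mulVec_ne hv0) e1
  have hb : a⁻¹ ≠ 0 := inv_ne_zero ha
  have hb3 : a⁻¹ ^ 3 = 1 := by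
    have := FiniteField.pow_card_sub_one_eq_one a⁻¹ hb; rwa [h4] at this
  obtain ⟨j, hj⟩ : 3 ∣ 2 + k := Nat.dvd_of_mod_eq_zero h3
  have hd1 : (a⁻¹ • suVal s).det = 1 := by
    rw [Matrix.det_smul, show (suVal s).det = 1 from s.1.2, mul_one, Fintype.card_fin, hj, pow_mul, hb3, one_pow]
  let s' : SU (2 + k) F 2 := ⟨⟨a⁻¹ • suVal s, hd1⟩, fun x y => by
    show hermForm (2 + k) F 2 ((a⁻¹ • suVal s) *ᵥ x) ((a⁻¹ • suVal s) *ᵥ y) = _
    rw [Matrix.smul_mulVec, Matrix.smul_mulVec, h_smul_left, h_smul_right (card_sq h4), su_form, ← mul_assoc,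
      UnitTwo.norm_one h4 hb, one_mul]⟩
  have hfix : suVal s' *ᵥ v = v := by
    show (a⁻¹ • suVal s) *ᵥ v = v
    rw [Matrix.smul_mulVec, ea, inv_smul_smul₀ ha]
  have hmem := stab_mem h4 (by omega) hR hv0 hv hfix
  rw [show suToPSU (2 + k) F 2 s' = φ (π m) from hs ▸ (pi_eq_iff (card_sq h4)).2 ⟨a⁻¹, rfl⟩, ev] at hmem
  obtain ⟨t, ht, et⟩ := exists_fix C h4 φ hcom himg hd hmem
  rw [show m = t * (t⁻¹ * m) by group]
  exact Subgroup.mul_mem_sup ht (hker _ (by rw [map_mul, map_inv, map_mul, map_inv, et, inv_mul_cancel]))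

/-- For degrees prime to three the quotient is the special unitary group. -/
theorem injective_of_coprime (hn : 5 ≤ n) (h3 : n % 3 ≠ 0) (h2 : pCore 2 H = ⊥)
    (hker : ∀ z, φ z = 1 → z ∈ Subgroup.center H) (hsurj : Function.Surjective φ) (hne : ∀ d ∈ D, π d ≠ 1) :
    Function.Injective φ := by
  classical
  haveI : Fact (Nat.Prime 2) := ⟨Nat.prime_two⟩
  have hE := C.cls' hne
  have hinj := suToPSU_inj (F := F) h4 (n := n) h3
  let σ : SU n F 2 ≃* PSU n F 2 := MulEquiv.ofBijective (suToPSU n F 2) ⟨hinj, pi_surjective⟩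
  let ψ : H →* SU n F 2 := σ.symm.toMonoidHom.comp φ
  have hψ : ∀ z, ψ z = 1 ↔ φ z = 1 := fun z => MulEquiv.map_eq_one_iff σ.symm
  have hcen : ψ.ker ≤ Subgroup.center H := fun z hz => hker z ((hψ z).1 hz)
  have hstem : ψ.ker ≤ commutator H := fun z hz => (central_mem_commutator C hne h2 (hcen hz)).1
  have hk := UnitMult.stem_ker_eq_bot (card_sq h4) (by omega) (by omega) ⟨by omega, by omega⟩ ψ
    (fun y => by obtain ⟨g, hg⟩ := hsurj (σ y); exact ⟨g, by simp [ψ, hg]⟩) hcen hstem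
  exact (injective_iff_map_eq_one φ).2 fun z hz => by
    rw [← Subgroup.mem_bot, ← hk]; exact (hψ z).2 hz

end Cfsg.Agent.Fus.TwoRadical
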