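import Cfsg.Agent.Lib.Fus.TwoRadical.UnitAlg

/-!
Vectors of the four-dimensional Hermitian space over four elements: singular vectors have two or four
nonzero coordinates, and transvections of the former are monomial.
-/

set_option autoImplicit false
set_option linter.style.haveILetI false
set_option linter.unusedSectionVars false
set_option linter.unusedSimpArgs false

namespace Cfsg.Agent.Fus.TwoRadical.Unit

open Matrix Cfsg Cfsg.Agent.Classical Cfsg.Agent.Classical.PSUAut Cfsg.Agent.Spor.UnitTwo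
open Cfsg.Agent.Block.FischerTypes Cfsg.Agent.Spor

variable {F : Type} [Field F] [Fintype F] (h4 : Fintype.card F = 4)

local notation "hF" => card_sq h4
local notation "hh" => hermForm 4 F 2
local notation "TT" v => eMat 2 v (0 : Fin 4 → F) (1 : F)

/-- The vector with the coordinates one and `a` at two places. -/
def pv (i j : Fin 4) (a : F) : Fin 4 → F := Pi.single i 1 + Pi.single j a

/-- The vector of ones. -/
def v0 (F : Type) [Field F] : Fin 4 → F := fun _ => 1

omit [Fintype F] in
theorem hh_eq (x y : Fin 4 → F) :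
    hh x y = x 0 * y 0 ^ 2 + x 1 * y 1 ^ 2 + x 2 * y 2 ^ 2 + x 3 * y 3 ^ 2 := by
  simp [hermForm, Fin.sum_univ_four]

omit [Fintype F] in
theorem pv_apply (i j : Fin 4) (a : F) (k : Fin 4) :
    pv i j a k = (if k = i then 1 else 0) + if k = j then a else 0 := by
  simp [pv, Pi.single_apply]

omit [Fintype F] in
theorem hh_pv {i j : Fin 4} (hij : i ≠ j) (x : Fin 4 → F) (a : F) : hh x (pv i j a) = x i + x j * a ^ 2 := by
  simp only [hermForm]
  rw [Fintype.sum_eq_add i j hij fun k hk => by simp [pv_apply, hk.1, hk.2]]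
  simp [pv_apply, hij, hij.symm]

include h4

theorem cube {a : F} (ha : a ≠ 0) : a ^ 3 = 1 := by
  have := FiniteField.pow_card_sub_one_eq_one a ha; rwa [h4] at this

theorem pv_iso {i j : Fin 4} (hij : i ≠ j) {a : F} (ha : a ≠ 0) : hh (pv i j a) (pv i j a) = 0 := by
  rw [hh_pv hij, pv_apply, pv_apply]
  simp [hij, hij.symm]
  linear_combination cube h4 ha + add_self h4 (1 : F)

omit h4 in
theorem pv_ne (i j : Fin 4) (hij : i ≠ j) (a : F) : pv i j a ≠ 0 := fun e => one_ne_zero (α := F) (by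
  have := congrFun e i
  simpa [pv_apply, hij] using this)

omit h4 in
theorem v0_ne : v0 F ≠ 0 := fun e => one_ne_zero (α := F) (congrFun e 0)

theorem v0_iso : hh (v0 F) (v0 F) = 0 := by
  rw [hh_eq]
  simp [v0]
  linear_combination add_self h4 (1 : F) + add_self h4 (1 : F)

theorem v0_pv {i j : Fin 4} (hij : i ≠ j) : hh (v0 F) (pv i j 1) = 0 := by
  rw [hh_pv hij]
  simp [v0]
  linear_combination add_self h4 (1 : F)

/-- The nonzero coordinates of a singular vector are even in number. -/
theorem supp_even {v : Fin 4 → F} (hv : hh v v = 0) [DecidablePred fun k => v k = 0] :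
    (∑ k, if v k = 0 then 0 else 1 : ℕ) % 2 = 0 := by
  have hterm : ∀ k, v k * v k ^ 2 = ((if v k = 0 then 0 else 1 : ℕ) : F) := fun k => by
    split_ifs with e
    · simp [e]
    · rw [← pow_succ', cube h4 e]; simp
  simp only [hermForm, hterm, ← Nat.cast_sum] at hv
  by_contra k
  rw [← Nat.div_add_mod (∑ k, if v k = 0 then 0 else 1) 2, Nat.cast_add, Nat.cast_mul,
    show (∑ k, if v k = 0 then 0 else 1 : ℕ) % 2 = 1 by omega] at hv
  exact one_ne_zero (α := F) (by
    push_cast at hv
    linear_combination hv - ((((∑ k, if v k = 0 then 0 else 1 : ℕ) / 2 : ℕ)) : F) * add_self h4 (1 : F))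

omit h4 in
set_option synthInstance.maxSize 2000 in
set_option synthInstance.maxHeartbeats 200000 in
theorem two_of_even : ∀ b : Fin 4 → Bool, (∑ k, if b k then 0 else 1 : ℕ) % 2 = 0 → (∃ l, b l = true) →
    (∃ k, b k = false) → ∃ i j, i ≠ j ∧ b i = false ∧ b j = false ∧ ∀ k, k ≠ i → k ≠ j → b k = true := by
  decide

/-- A singular vector with a zero coordinate is a multiple of a standard one. -/
theorem eq_smul_pv {v : Fin 4 → F} (hv0 : v ≠ 0) (hv : hh v v = 0) {l : Fin 4} (hl : v l = 0) :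
    ∃ (i j : Fin 4) (a c : F), i ≠ j ∧ a ≠ 0 ∧ c ≠ 0 ∧ v = c • pv i j a := by
  classical
  obtain ⟨k0, hk0⟩ : ∃ k, v k ≠ 0 := Function.ne_iff.1 hv0
  obtain ⟨i, j, hij, hi, hj, hrest⟩ := two_of_even (fun k => decide (v k = 0))
    (by simpa using supp_even h4 hv) ⟨l, by simpa using hl⟩ ⟨k0, by simpa using hk0⟩
  simp only [decide_eq_false_iff_not, decide_eq_true_eq] at hi hj hrest
  refine ⟨i, j, v j / v i, v i, hij, div_ne_zero hj hi, hi, funext fun k => ?_⟩
  rw [Pi.smul_apply, pv_apply, smul_eq_mul]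
  by_cases ki : k = i
  · subst ki; simp [hij]
  by_cases kj : k = j
  · subst kj; simp [ki, mul_div_cancel₀ _ hi]
  simp [ki, kj, hrest k ki kj]

omit h4 in
theorem common_zero : ∀ i j i' j' : Fin 4, (i = i' ∨ i = j' ∨ j = i' ∨ j = j') →
    ∃ l, l ≠ i ∧ l ≠ j ∧ l ≠ i' ∧ l ≠ j' := by
  decide

/-- Two points with a zero coordinate which are not orthogonal have one in common. -/
theorem exists_common {u v : Fin 4 → F} (hu0 : u ≠ 0) (hu : hh u u = 0) (hv0 : v ≠ 0) (hv : hh v v = 0)
    {l m : Fin 4} (hl : u l = 0) (hm : v m = 0) (hn : hh u v ≠ 0) : ∃ k, u k = 0 ∧ v k = 0 := by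
  obtain ⟨i, j, a, c, hij, -, -, rfl⟩ := eq_smul_pv h4 hu0 hu hl
  obtain ⟨i', j', b, d, hij', -, -, rfl⟩ := eq_smul_pv h4 hv0 hv hm
  have hmeet : i = i' ∨ i = j' ∨ j = i' ∨ j = j' := by
    by_contra hno
    push Not at hno
    refine hn ?_
    rw [h_smul_left, h_smul_right hF, hh_pv hij', pv_apply, pv_apply]
    simp [hno.1.symm, hno.2.1.symm, hno.2.2.1.symm, hno.2.2.2.symm]
  obtain ⟨k, k1, k2, k3, k4⟩ := common_zero i j i' j' hmeet
  exact ⟨k, by simp [pv_apply, k1, k2], by simp [pv_apply, k3, k4]⟩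

/-- A transvection of a standard vector swaps two coordinates up to factors. -/
theorem T_pv {i j : Fin 4} (hij : i ≠ j) {a : F} (ha : a ≠ 0) (x : Fin 4 → F) (k : Fin 4) :
    ((TT (pv i j a)) *ᵥ x) k = if k = i then a ^ 2 * x j else if k = j then a * x i else x k := by
  rw [T_apply h4, hh_pv hij, Pi.add_apply, Pi.smul_apply, pv_apply, smul_eq_mul]
  by_cases ki : k = i
  · subst ki
    simp [hij]
    linear_combination add_self h4 (x k)
  by_cases kj : k = j
  · subst kj
    simp [ki]
    linear_combination x k * cube h4 ha + add_self h4 (x k)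
  simp [ki, kj]

/-- Transvections of standard vectors carry the vectors of one pair linearly to those of another. -/
theorem T_pv_pv {k l : Fin 4} (hkl : k ≠ l) {b : F} (hb : b ≠ 0) {i j : Fin 4} (hij : i ≠ j) :
    ∃ (i' j' : Fin 4) (r : F), i' ≠ j' ∧ r ≠ 0 ∧ ∀ a : F, ∃ c : F, c ≠ 0 ∧ (TT (pv k l b)) *ᵥ pv i j a = c • pv i' j' (r * a) := by
  let σ := Equiv.swap k l
  let f : Fin 4 → F := fun m => if m = k then b ^ 2 else if m = l then b else 1
  have hf : ∀ m, f m ≠ 0 := fun m => by
    simp only [f]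
    split_ifs
    exacts [pow_ne_zero 2 hb, hb, one_ne_zero]
  have hT : ∀ x m, ((TT (pv k l b)) *ᵥ x) m = f m * x (σ m) := fun x m => by
    rw [T_pv h4 hkl hb]
    by_cases m1 : m = k
    · subst m1; simp [f, σ]
    by_cases m2 : m = l
    · subst m2; simp [f, σ, m1]
    simp [f, σ, m1, m2, Equiv.swap_apply_of_ne_of_ne]
  refine ⟨σ i, σ j, f (σ j) / f (σ i), σ.injective.ne hij, div_ne_zero (hf _) (hf _), fun a => ?_⟩
  refine ⟨f (σ i), hf _, funext fun m => ?_⟩
  have e : ∀ t, (σ m = t) = (m = σ t) := fun t => propext ⟨fun e => by rw [← e]; simp [σ],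
    fun e => by rw [e]; simp [σ]⟩
  rw [hT, Pi.smul_apply, smul_eq_mul, pv_apply, pv_apply]
  simp only [e]
  by_cases m1 : m = σ i
  · subst m1; simp [σ.injective.ne hij]
  by_cases m2 : m = σ j
  · subst m2
    simp only [if_neg m1, if_true, zero_add]
    rw [← mul_assoc, mul_div_cancel₀ _ (hf _)]
  simp [m1, m2]

/-- The third nonzero element. -/
theorem third_elem {a b : F} (ha : a ≠ 0) (hb : b ≠ 0) (hab : a ≠ b) : a ^ 2 * b ^ 2 = a + b := by
  have h0 : a * a + a * b + b * b = 0 := by
    refine (mul_eq_zero.1 (show (a - b) * (a * a + a * b + b * b) = 0 by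
      linear_combination cube h4 ha - cube h4 hb)).resolve_left (sub_ne_zero.2 hab)
  have hx : (a + b) ^ 4 = a + b := by
    have := FiniteField.pow_card (a + b); rwa [h4] at this
  rw [← hx, show (a + b) ^ 4 = ((a * a + a * b + b * b) + a * b) ^ 2 by ring, h0, zero_add]
  ring

/-- The third point of a pair. -/
theorem T_pv_same {i j : Fin 4} (hij : i ≠ j) {a b : F} (ha : a ≠ 0) (hb : b ≠ 0) (hab : a ≠ b) :
    (TT (pv i j a)) *ᵥ pv i j b = (a ^ 2 * b) • pv i j (a + b) := funext fun k => by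
  rw [T_pv h4 hij ha, Pi.smul_apply, pv_apply, smul_eq_mul]
  by_cases ki : k = i
  · subst ki; simp [pv_apply, hij, hij.symm]
  by_cases kj : k = j
  · subst kj
    simp [pv_apply, ki, hij, hij.symm]
    linear_combination -(a ^ 2 * b) * (third_elem h4 ha hb hab).symm - (a ^ 4) * cube h4 hb - a * cube h4 ha
  simp [pv_apply, ki, kj]

/-- The factor of a shift in a pair. -/
theorem shift_cases {v a b : F} (hv : v ≠ 0) (ha : a ≠ 0) (hb : b ≠ 0) (hab : a ≠ b) :
    v = 1 ∨ (v * a = b ∧ v * b = a + b) ∨ (v * a = a + b ∧ v * b = a) := by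
  by_cases h1 : v = 1
  · exact Or.inl h1
  have q : v * v + v + 1 = 0 := by
    refine (mul_eq_zero.1 (show (v - 1) * (v * v + v + 1) = 0 by
      linear_combination cube h4 hv)).resolve_left (sub_ne_zero.2 h1)
  have q' : a * a + a * b + b * b = 0 := by
    refine (mul_eq_zero.1 (show (a - b) * (a * a + a * b + b * b) = 0 by
      linear_combination cube h4 ha - cube h4 hb)).resolve_left (sub_ne_zero.2 hab)
  have key : (v * a - b) * (v * a - (a + b)) = 0 := by
    linear_combination (a * a) * q + q' - (v * a * a) * add_self h4 1 - (v * a * b) * add_self h4 1 - a * a * add_self h4 1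
  rcases mul_eq_zero.1 key with k | k
  · refine Or.inr (Or.inl ⟨sub_eq_zero.1 k, mul_left_cancel₀ ha ?_⟩)
    linear_combination b * k - q' + a * a * add_self h4 0 + (b * b) * add_self h4 1
  · refine Or.inr (Or.inr ⟨sub_eq_zero.1 k, mul_left_cancel₀ ha ?_⟩)
    linear_combination b * k + q' - (a * a) * add_self h4 1

omit h4 in
theorem odd_pattern : ∀ b : Fin 4 → ZMod 2, b 0 + b 1 + b 2 + b 3 = 1 → ∃ j, ∀ i, i ≠ j → b i = b j + 1 := by
  decide

/-- A point whose line with the point of ones has full support is of the form three equal and one other. -/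
theorem classify {v : Fin 4 → F} (hv : ∀ k, v k ≠ 0) (hn : hh v (v0 F) ≠ 0)
    (hthird : ∀ k, v k + hh v (v0 F) ≠ 0) :
    ∃ (j : Fin 4) (μ l : F), μ ≠ 0 ∧ l ≠ 0 ∧ l ≠ 1 ∧ v = μ • (fun k : Fin 4 => if k = j then l else 1) := by
  classical
  set c := hh v (v0 F) with hc
  have hc' : c = v 0 + v 1 + v 2 + v 3 := by rw [hc, hh_eq]; simp [v0]
  have hne : ∀ k, v k ≠ c := fun k e => hthird k (by rw [e]; exact add_self h4 c)
  set p := v 0 with hp
  have two : ∀ k, v k = p ∨ v k = p + c := fun k => by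
    by_contra hno
    push Not at hno
    have e1 := third_elem h4 (hv 0) hn (hne 0)
    rcases shift_cases h4 (div_ne_zero (hv k) (hv 0)) (hv 0) hn (hne 0) with r | ⟨r, -⟩ | ⟨r, -⟩
    · exact hno.1 (by rw [div_eq_one_iff_eq (hv 0)] at r; exact r)
    · exact hne k (by rwa [div_mul_cancel₀ _ (hv 0)] at r)
    · exact hno.2 (by rwa [div_mul_cancel₀ _ (hv 0)] at r)
  let b : Fin 4 → ZMod 2 := fun k => if v k = p then 0 else 1
  have hb : ∀ k, v k = p + (if b k = 0 then 0 else c) := fun k => by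
    by_cases e : v k = p
    · simp [b, e]
    · simp [b, e, (two k).resolve_left e]
  have hodd : b 0 + b 1 + b 2 + b 3 = 1 := by
    have hb01 : ∀ x : ZMod 2, x = 0 ∨ x = 1 := by decide
    have e := hc'
    rw [show p = v 0 from hp] at e
    rw [hb 0, hb 1, hb 2, hb 3] at e
    rcases hb01 (b 0) with r0 | r0 <;> rcases hb01 (b 1) with r1 | r1 <;> rcases hb01 (b 2) with r2 | r2 <;>
      rcases hb01 (b 3) with r3 | r3 <;> simp [r0, r1, r2, r3] at e ⊢
    all_goals first
      | rfl
      | decide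
      | exact absurd (show c = 0 by linear_combination e + add_self h4 p + add_self h4 p) hn
      | exact absurd (show c = 0 by linear_combination e + add_self h4 p + add_self h4 p + add_self h4 c) hn
      | exact absurd (show c = 0 by linear_combination e + add_self h4 p + add_self h4 p + add_self h4 c + add_self h4 c) hn
  obtain ⟨j, hj⟩ := odd_pattern b hodd
  obtain ⟨i, hi⟩ : ∃ i, i ≠ j := ⟨if j = 0 then 1 else 0, by split_ifs with e <;> [subst e; skip] <;> omega⟩
  have same : ∀ k, k ≠ j → v k = v i := fun k hk => by rw [hb k, hb i, hj k hk, hj i hi]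
  have diff : v j ≠ v i := fun e => by
    rw [hb j, hb i, hj i hi] at e
    have e := add_left_cancel e
    have hb01 : ∀ x : ZMod 2, x = 0 ∨ x = 1 := by decide
    rcases hb01 (b j) with r | r <;> simp [r] at e
    · exact hn e.symm
    · exact hn (e (by decide))
  refine ⟨j, v i, v j / v i, hv i, div_ne_zero (hv j) (hv i), fun e => diff (by
    rwa [div_eq_one_iff_eq (hv i)] at e), funext fun k => ?_⟩
  by_cases e : k = j
  · subst e; simp [mul_div_cancel₀ _ (hv i)]
  · simp [e, same k e]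

/-- Scaling a vector of full support to product one. -/
theorem normalize {v : Fin 4 → F} (hv : ∀ k, v k ≠ 0) :
    ∃ (c : F) (a : Fin 4 → F), c ≠ 0 ∧ (∀ k, a k ≠ 0) ∧ a 0 * a 1 * a 2 * a 3 = 1 ∧ v = c • a := by
  set c := v 0 * v 1 * v 2 * v 3 with hc
  have hc0 : c ≠ 0 := mul_ne_zero (mul_ne_zero (mul_ne_zero (hv 0) (hv 1)) (hv 2)) (hv 3)
  refine ⟨c, fun k => v k / c, hc0, fun k => div_ne_zero (hv k) hc0, ?_, funext fun k => by
    simp [mul_div_cancel₀ _ hc0]⟩
  field_simp
  rw [← hc]
  linear_combination (-c) * cube h4 hc0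

end Cfsg.Agent.Fus.TwoRadical.Unit
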