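import Cfsg.Agent.Lib.Fus.TwoRadical.Reduce

/-!
An elementary abelian 3-subgroup of the quotient lifts to a commutative subgroup through a given lift
of one of its elements.
-/

set_option autoImplicit false
set_option linter.style.haveILetI false
set_option linter.unusedSectionVars false

namespace Cfsg.Agent.Fus.TwoRadical

open Cfsg Cfsg.Agent.Spor Cfsg.Agent.Fus.SUTwoRadical

variable {G : Type*} [Group G] [Finite G] {H : Type*} [Group H] [Finite H] {π : G →* H} {D : Set G}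

/-- An element of the radical killed by the cube is trivial. -/
theorem eq_one_of_radical (C : Ctx π D) {g : G} (hg : π g = 1) {k : ℕ} (h3 : g ^ 3 ^ k = 1) : g = 1 := by
  haveI : Fact (Nat.Prime 2) := ⟨Nat.prime_two⟩
  obtain ⟨i, hi⟩ := Transfer.pCore_isPGroup 2 G ⟨g, (C.ker g).1 hg⟩
  have h2 : g ^ 2 ^ i = 1 := congrArg Subtype.val hi
  have hco : (2 ^ i).Coprime (3 ^ k) := Nat.Coprime.pow i k (by norm_num)
  simpa [hco.gcd_eq_one] using pow_gcd_eq_one.2 ⟨h2, h3⟩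

/-- Commutative lifts. -/
theorem exists_comm_lifts (C : Ctx π D) (A : Subgroup H) (hcomm : ∀ a ∈ A, ∀ b ∈ A, Commute a b)
    (h3 : ∀ a ∈ A, a ^ 3 = 1) {t : G} (ht : π t ∈ A) (ht3 : t ^ 3 = 1) :
    ∃ P : Subgroup G, t ∈ P ∧ (∀ a ∈ P, ∀ b ∈ P, Commute a b) ∧ (∀ a ∈ P, π a ∈ A) ∧ ∀ a ∈ A, ∃ g ∈ P, π g = a := by
  classical
  haveI : Fact (Nat.Prime 3) := ⟨Nat.prime_three⟩
  set R := A.comap π
  let t' : R := ⟨t, ht⟩
  have hp : IsPGroup 3 (Subgroup.zpowers t') := fun g => ⟨1, by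
    obtain ⟨i, hi⟩ := Subgroup.mem_zpowers_iff.1 g.2
    refine Subtype.ext ?_
    rw [Subgroup.coe_pow, ← hi, pow_one, ← zpow_natCast, ← _root_.zpow_mul, mul_comm, _root_.zpow_mul,
      zpow_natCast, show t' ^ 3 = 1 from Subtype.ext ht3, _root_.one_zpow]
    rfl⟩
  obtain ⟨S, hS⟩ := hp.exists_le_sylow
  refine ⟨(S : Subgroup R).map R.subtype, ⟨t', hS (Subgroup.mem_zpowers _), rfl⟩, ?_, ?_, fun a ha => ?_⟩
  · rintro _ ⟨a, ha, rfl⟩ _ ⟨b, hb, rfl⟩
    have hm : a * b * a⁻¹ * b⁻¹ ∈ (S : Subgroup R) := mul_mem (mul_mem (mul_mem ha hb) (inv_mem ha)) (inv_mem hb)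
    obtain ⟨k, hk⟩ := S.isPGroup' ⟨_, hm⟩
    have hπ : π ((a : G) * b * (a : G)⁻¹ * (b : G)⁻¹) = 1 := by
      simp only [map_mul, map_inv]
      rw [(hcomm _ a.2 _ b.2).eq]
      group
    have h1 := eq_one_of_radical C hπ (k := k) (by
      have := congrArg (fun z : (S : Subgroup R) => ((z : R) : G)) hk
      simpa using this)
    exact mul_inv_eq_iff_eq_mul.1 (mul_inv_eq_one.1 h1)
  · rintro _ ⟨a, -, rfl⟩
    exact a.2
  · let f : R →* A := (π.comp R.subtype).codRestrict A fun g => g.2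
    have hf : Function.Surjective f := fun y => by
      obtain ⟨g, hg⟩ := C.surj y
      exact ⟨⟨g, show π g ∈ A from hg ▸ y.2⟩, Subtype.ext hg⟩
    have hd1 : ((S : Subgroup R).map f).index ∣ (S : Subgroup R).index := Subgroup.index_map_dvd _ hf
    have hd2 : ((S : Subgroup R).map f).index ∣ Nat.card A := Subgroup.index_dvd_card _
    obtain ⟨j, hj⟩ := IsPGroup.iff_card.1 (show IsPGroup 3 A from fun g => ⟨1, Subtype.ext (by simpa using h3 _ g.2)⟩)
    have hco : Nat.Coprime (S : Subgroup R).index (3 ^ j) :=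
      Nat.Coprime.pow_right j ((Nat.prime_three.coprime_iff_not_dvd.2 S.not_dvd_index).symm)
    have htop : (S : Subgroup R).map f = ⊤ := Subgroup.index_eq_one.1
      (Nat.eq_one_of_dvd_coprimes hco hd1 (hj ▸ hd2))
    obtain ⟨g, hg, eg⟩ := htop.ge (Subgroup.mem_top (⟨a, ha⟩ : A))
    exact ⟨g, ⟨g, hg, rfl⟩, congrArg Subtype.val eg⟩

end Cfsg.Agent.Fus.TwoRadical
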