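import Cfsg.Agent.Lib.Fus.TwoRadical.UnitBig
import Cfsg.Agent.Lib.Fus.TwoRadical.UnitFourAlg
import Cfsg.Agent.Lib.Fus.TwoRadical.UnitFourLift

/-!
The quotient `U_4(2)`: anchors of the four coordinate vectors pick the members over the points with a zero
coordinate, compatibly with conjugation among these.
-/

set_option autoImplicit false
set_option linter.style.haveILetI false
set_option linter.unusedSectionVars false

namespace Cfsg.Agent.Fus.TwoRadical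

open Matrix Cfsg Cfsg.Agent.Spor Cfsg.Agent.Fus.SUTwoRadical Cfsg.Agent.Classical Cfsg.Agent.Classical.PSUAut
open Cfsg.Agent.Spor.UnitTwo Cfsg.Agent.Block.FischerTypes Cfsg.Agent.Fus.TwoRadical.Unit

universe u v

variable {G : Type u} [Group G] [Finite G] {H : Type v} [Group H] [Finite H] {π : G →* H} {D : Set G}
  {F : Type} [Field F] [Fintype F]

/-- The setting of the quotient `SU_4(2)`. -/
structure Four (π : G →* H) (D : Set G) (h4 : Fintype.card F = 4) (ψ : H ≃* SU 4 F 2) (w : F) : Prop where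
  C : Ctx π D
  cu : ∀ x ∈ π '' D, ∀ y ∈ π '' D, CU π D x y
  mem : ∀ d ∈ D, ∃ v : Fin 4 → F, v ≠ 0 ∧ ∃ hv : hermForm 4 F 2 v v = 0, ψ (π d) = tv h4 hv
  surj : ∀ v : Fin 4 → F, v ≠ 0 → ∀ hv : hermForm 4 F 2 v v = 0, ∃ d ∈ D, ψ (π d) = tv h4 hv
  hR : ThreeTrans.Hyp (U6.roots h4 4)
  hel : IsElementaryAbelian 2 (pCore 2 G)
  hRA : ¬ Spor.FischerThm.RowAdd (π '' D)
  hw : w * w = w + 1

variable {h4 : Fintype.card F = 4} {ψ : H ≃* SU 4 F 2} {w : F}

local notation "hh" => hermForm 4 F 2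

/-- A nonzero singular vector. -/
def Sing (v : Fin 4 → F) : Prop := v ≠ 0 ∧ hermForm 4 F 2 v v = 0

/-- A nonzero singular vector with a zero coordinate. -/
def Zp (v : Fin 4 → F) : Prop := Sing v ∧ ∃ l, v l = 0

/-- The point of a singular vector. -/
noncomputable def pt (h4 : Fintype.card F = 4) (ψ : H ≃* SU 4 F 2) (v : Fin 4 → F) : H := by
  classical exact if hv : hermForm 4 F 2 v v = 0 then ψ.symm (tv h4 hv) else 1

/-- The action on vectors. -/
def act (ψ : H ≃* SU 4 F 2) (g : H) (v : Fin 4 → F) : Fin 4 → F := suVal (ψ g) *ᵥ v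

namespace Four

omit [Finite H] [Finite G] in
theorem act_mul (a b : H) (x : Fin 4 → F) : act ψ (a * b) x = act ψ a (act ψ b x) := by
  rw [act, map_mul, suVal_mul, ← Matrix.mulVec_mulVec]; rfl

omit [Finite H] [Finite G] in
theorem act_one (x : Fin 4 → F) : act ψ (1 : H) x = x := by
  rw [act, map_one]; exact Matrix.one_mulVec x

omit [Finite H] [Finite G] in
theorem act_smul (a : H) (c : F) (x : Fin 4 → F) : act ψ a (c • x) = c • act ψ a x := Matrix.mulVec_smul _ _ _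

omit [Finite H] [Finite G] in
theorem sing_act (g : H) {v : Fin 4 → F} (hv : Sing v) : Sing (act ψ g v) :=
  ⟨mulVec_ne hv.1, by rw [act, su_form]; exact hv.2⟩

omit [Finite H] [Finite G] in
theorem sing_smul {v : Fin 4 → F} (hv : Sing v) {a : F} (ha : a ≠ 0) : Sing (a • v) :=
  ⟨smul_ne_zero ha hv.1, by
    have e : hermForm 4 F 2 (a • v) (a • v) = a * a ^ 2 * hermForm 4 F 2 v v := by
      simp [hermForm, mul_pow, Finset.mul_sum]
      exact Finset.sum_congr rfl fun i _ => by ring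
    rw [e, hv.2, mul_zero]⟩

omit [Finite H] [Finite G] in
theorem w_ne (hw : w * w = w + 1) : w ≠ 0 ∧ w ≠ 1 := by
  refine ⟨fun e => ?_, fun e => ?_⟩
  · rw [e, zero_mul, zero_add] at hw; exact one_ne_zero hw.symm
  · rw [e, one_mul] at hw; exact one_ne_zero (α := F) (by linear_combination -hw)

theorem pt_def {v : Fin 4 → F} (hv : hh v v = 0) : pt h4 ψ v = ψ.symm (tv h4 hv) := by
  rw [pt, dif_pos hv]

variable (K : Four π D h4 ψ w)

include K

theorem pt_mem {v : Fin 4 → F} (hv : Sing v) : pt h4 ψ v ∈ π '' D := by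
  obtain ⟨d, hd, e⟩ := K.surj v hv.1 hv.2
  exact ⟨d, hd, by rw [pt_def hv.2, ← e, ψ.symm_apply_apply]⟩

theorem exists_pt {x : H} (hx : x ∈ π '' D) : ∃ v, Sing v ∧ pt h4 ψ v = x := by
  obtain ⟨d, hd, rfl⟩ := hx
  obtain ⟨v, hv0, hv, e⟩ := K.mem d hd
  exact ⟨v, ⟨hv0, hv⟩, by rw [pt_def hv, ← e, ψ.symm_apply_apply]⟩

omit K in
theorem pt_eq {u v : Fin 4 → F} (hu : Sing u) (hv : Sing v) (e : pt h4 ψ u = pt h4 ψ v) :
    ∃ a : F, a ≠ 0 ∧ u = a • v := by
  rw [pt_def hu.2, pt_def hv.2] at e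
  exact U6.root_eq h4 (by norm_num) hu.2 hv.2 hu.1 (congrArg (suToPSU 4 F 2) (ψ.symm.injective e))

omit K in
theorem pt_smul {v : Fin 4 → F} (hv : Sing v) {a : F} (ha : a ≠ 0) : pt h4 ψ (a • v) = pt h4 ψ v := by
  rw [pt_def (sing_smul hv ha).2, pt_def hv.2]
  exact congrArg ψ.symm (suVal_ext (T_smul h4 ha v))

omit K in
theorem pt_conj (g : H) {v : Fin 4 → F} (hv : Sing v) : g * pt h4 ψ v * g⁻¹ = pt h4 ψ (act ψ g v) := by
  rw [pt_def hv.2, pt_def (sing_act g hv).2]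
  refine ψ.injective ?_
  rw [map_mul, map_mul, map_inv, ψ.apply_symm_apply, ψ.apply_symm_apply]
  exact suVal_conj h4 (ψ g) hv.2

omit K in
theorem pt_sq {v : Fin 4 → F} (hv : Sing v) : pt h4 ψ v * pt h4 ψ v = 1 := by
  rw [pt_def hv.2, ← map_mul, tv_mul_self, map_one]

omit K in
theorem act_pt {u : Fin 4 → F} (hu : Sing u) (x : Fin 4 → F) : act ψ (pt h4 ψ u) x = x + hh x u • u := by
  rw [act, pt_def hu.2, ψ.apply_symm_apply, suVal_tv h4, T_apply h4]

omit K in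
theorem pt_refl {u v : Fin 4 → F} (hu : Sing u) (hv : Sing v) :
    pt h4 ψ u * pt h4 ψ v * pt h4 ψ u = pt h4 ψ (v + hh v u • u) := by
  have e : (pt h4 ψ u)⁻¹ = pt h4 ψ u := inv_eq_of_mul_eq_one_right (pt_sq hu)
  have k := pt_conj (h4 := h4) (ψ := ψ) (pt h4 ψ u) hv
  rwa [e, act_pt hu] at k

omit K in
theorem pt_comm {u v : Fin 4 → F} (hu : Sing u) (hv : Sing v) :
    Commute (pt h4 ψ u) (pt h4 ψ v) ↔ hh u v = 0 := by
  rw [pt_def hu.2, pt_def hv.2, ← U6.root_commute h4 (by norm_num) hu.2 hv.2 hu.1 hv.1]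
  refine ⟨fun k => ?_, fun k => ?_⟩
  · have := (k.map ψ.toMonoidHom).map (suToPSU 4 F 2)
    simp only [MulEquiv.coe_toMonoidHom, MulEquiv.apply_symm_apply] at this
    exact this
  · refine Commute.map ?_ ψ.symm.toMonoidHom
    exact suToPSU_inj h4 (by norm_num) (by rw [map_mul, map_mul]; exact k.eq)

/-- An element with eigenvalue other than one fixes exactly one member. -/
theorem fixed {g : G} {v : Fin 4 → F} (hv : Sing v) {a : F} (ha : a ≠ 1) (ha0 : a ≠ 0)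
    (e : act ψ (π g) v = a • v) : ∃! s, (s ∈ D ∧ π s = pt h4 ψ v) ∧ g * s * g⁻¹ = s := by
  obtain ⟨d, hd, ed⟩ := K.surj v hv.1 hv.2
  have ep : pt h4 ψ v = π d := by rw [pt_def hv.2, ← ed, ψ.symm_apply_apply]
  have h6 : 6 ≤ 4 ∨ 4 = 4 := Or.inr rfl
  have hA : Anch π D (fun _ => g) (π g) (pt h4 ψ v) := by
    rw [ep]
    refine ⟨fix_of_scalar K.C h4 h6 (by norm_num) ψ K.mem K.surj K.hR hv.2 ed ha0 e, fun b hb hfix => ?_⟩
    exact fpf K.C K.cu h4 h6 (by norm_num) ψ K.mem K.surj K.hR K.hel K.hRA hd hv.1 hv.2 ed ha ha0 e hb hfix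
  exact fixed_member K.C K.cu (σ := fun _ => g) (g := π g) rfl (K.pt_mem hv) hA

/-- Members over orthogonal points commute. -/
theorem comm_of_orth {d e : G} (hd : d ∈ D) (he : e ∈ D) {u v : Fin 4 → F} (hu : Sing u) (hv : Sing v)
    (ed : π d = pt h4 ψ u) (ee : π e = pt h4 ψ v) (h0 : hh u v = 0) : Commute d e :=
  commute_image K.C.hyp hd he (by rw [ed, ee]; exact (pt_comm hu hv).2 h0)

/-- The torus. -/
def Diag (ψ : H ≃* SU 4 F 2) : Subgroup H where
  carrier := {g | ∃ d : Fin 4 → F, ∀ x k, act ψ g x k = d k * x k}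
  one_mem' := ⟨1, fun x k => by rw [act_one]; simp⟩
  mul_mem' := fun {a b} ⟨d, hd⟩ ⟨d', hd'⟩ => ⟨d * d', fun x k => by
    rw [act_mul, hd, hd', Pi.mul_apply, mul_assoc]⟩
  inv_mem' := fun {a} ⟨d, hd⟩ => ⟨fun k => (d k)⁻¹, fun x k => by
    have e := hd (act ψ a⁻¹ x) k
    rw [← act_mul, mul_inv_cancel, act_one] at e
    have hd0 : d k ≠ 0 := fun z => one_ne_zero (α := F) (by
      have := hd (act ψ a⁻¹ (fun _ => 1)) k
      rwa [← act_mul, mul_inv_cancel, act_one, z, zero_mul] at this)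
    show _ = (d k)⁻¹ * x k
    rw [e, inv_mul_cancel_left₀ hd0]⟩

omit K in
theorem diag_comm {a b : H} (ha : a ∈ Diag ψ) (hb : b ∈ Diag ψ) : Commute a b := by
  obtain ⟨d, hd⟩ := ha
  obtain ⟨d', hd'⟩ := hb
  refine ψ.injective (suVal_ext (Matrix.ext_iff_mulVec.2 fun x => funext fun k => ?_))
  show act ψ (a * b) x k = act ψ (b * a) x k
  rw [act_mul, act_mul, hd, hd', hd', hd]
  ring

omit K in
theorem diag_cube (h4 : Fintype.card F = 4) {a : H} (ha : a ∈ Diag ψ) : a ^ 3 = 1 := by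
  obtain ⟨d, hd⟩ := ha
  refine ψ.injective (suVal_ext (Matrix.ext_iff_mulVec.2 fun x => funext fun k => ?_))
  show act ψ (a ^ 3) x k = act ψ 1 x k
  rw [pow_succ, pow_two, act_mul, act_mul, hd, hd, hd, act_one]
  have hd0 : d k ≠ 0 := fun z => one_ne_zero (α := F) (by
    have := hd (act ψ a⁻¹ (fun _ => 1)) k
    rwa [← act_mul, mul_inv_cancel, act_one, z, zero_mul] at this)
  linear_combination x k * cube h4 hd0

omit K in
theorem unit_vec (l : Fin 4) : hh (Pi.single l (1 : F)) (Pi.single l 1) = 1 := by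
  simp [hermForm, Pi.single_apply, ite_pow]

omit K in
theorem hh_single (x : Fin 4 → F) (l : Fin 4) : hh x (Pi.single l 1) = x l := by
  simp [hermForm, Pi.single_apply, ite_pow]

/-- One member over every point with a zero coordinate. -/
theorem exists_sec : ∃ S : (Fin 4 → F) → G, (∀ v, Zp v → S v ∈ D ∧ π (S v) = pt h4 ψ v) ∧
    (∀ v (a : F), a ≠ 0 → Zp v → S (a • v) = S v) ∧
    ∀ u v, Zp u → Zp v → Zp (v + hh v u • u) ∧ S u * S v * S u = S (v + hh v u • u) := by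
  classical
  have hw := K.hw
  obtain ⟨hw0, hw1⟩ := w_ne hw
  let g : Fin 4 → H := fun l => ψ.symm (gU h4 hw (unit_vec (F := F) l))
  have hg : ∀ l x, act ψ (g l) x = w • (x + (coef w 4 * x l) • Pi.single l 1) := fun l x => by
    rw [act, ψ.apply_symm_apply, gU_apply, hh_single]
  have hdiag : ∀ l, g l ∈ Diag ψ := fun l => ⟨fun k => if k = l then w * (1 + coef w 4) else w, fun x k => by
    rw [hg]
    by_cases e : k = l
    · subst e; simp; ring
    · simp [e]⟩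
  obtain ⟨P, -, hPc, -, hP⟩ := exists_comm_lifts K.C (Diag ψ) (fun a ha b hb => diag_comm ha hb)
    (fun a ha => diag_cube h4 ha) (t := 1) (by rw [map_one]; exact one_mem _) (one_pow 3)
  choose σ hσP hσ using fun l => hP (g l) (hdiag l)
  have eig : ∀ {v : Fin 4 → F} {l}, v l = 0 → act ψ (π (σ l)) v = w • v := fun {v l} hl => by
    rw [hσ, hg, hl, mul_zero, zero_smul, add_zero]
  have uniq : ∀ {v : Fin 4 → F} {l}, Sing v → v l = 0 → ∀ {s s'}, s ∈ D → π s = pt h4 ψ v →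
      σ l * s * (σ l)⁻¹ = s → s' ∈ D → π s' = pt h4 ψ v → σ l * s' * (σ l)⁻¹ = s' → s = s' :=
    fun {v l} hv hl {s s'} a1 a2 a3 b1 b2 b3 =>
      (K.fixed hv hw1 hw0 (eig hl)).unique (y₁ := s) (y₂ := s') ⟨⟨a1, a2⟩, a3⟩ ⟨⟨b1, b2⟩, b3⟩
  have hex : ∀ v : Fin 4 → F, Zp v → ∃ s, (s ∈ D ∧ π s = pt h4 ψ v) ∧
      ∀ l, v l = 0 → σ l * s * (σ l)⁻¹ = s := by
    rintro v ⟨hv, l0, hl0⟩
    obtain ⟨s, ⟨hs, hfix⟩, -⟩ := K.fixed hv hw1 hw0 (eig hl0)
    refine ⟨s, hs, fun l hl => ?_⟩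
    refine uniq hv hl0 (K.C.conj _ hs.1) ?_ ?_ hs.1 hs.2 hfix
    · rw [map_mul, map_mul, map_inv, hs.2, pt_conj _ hv, eig hl, pt_smul hv hw0]
    · have hc := hPc _ (hσP l0) _ (hσP l)
      calc σ l0 * (σ l * s * (σ l)⁻¹) * (σ l0)⁻¹ = (σ l0 * σ l) * s * (σ l0 * σ l)⁻¹ := by group
        _ = σ l * (σ l0 * s * (σ l0)⁻¹) * (σ l)⁻¹ := by rw [hc.eq]; group
        _ = _ := by rw [hfix]
  choose! S hS hfix using hex
  have zero_conj : ∀ {u v : Fin 4 → F}, Zp u → Zp v → ∃ l, u l = 0 ∧ (v + hh v u • u) l = 0 ∧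
      v l = 0 ∨ hh v u = 0 := by
    intro u v hu hv
    by_cases e : hh v u = 0
    · exact ⟨0, Or.inr e⟩
    obtain ⟨l, hl, hm⟩ := exists_common h4 hv.1.1 hv.1.2 hu.1.1 hu.1.2 hv.2.choose_spec hu.2.choose_spec e
    exact ⟨l, Or.inl ⟨hm, by simp [hl, hm], hl⟩⟩
  refine ⟨S, hS, fun v a ha hv => ?_, fun u v hu hv => ?_⟩
  · obtain ⟨l, hl⟩ := hv.2
    have hav : Zp (a • v) := ⟨sing_smul hv.1 ha, l, by simp [hl]⟩
    exact uniq hv.1 hl (hS _ hav).1 ((hS _ hav).2.trans (pt_smul hv.1 ha))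
      (hfix _ hav l (by simp [hl])) (hS v hv).1 (hS v hv).2 (hfix v hv l hl)
  · obtain ⟨l, ⟨hl, hnew, hlv⟩ | e⟩ := zero_conj hu hv
    · have hns : Sing (v + hh v u • u) := by rw [← act_pt (h4 := h4) (ψ := ψ) hu.1]; exact sing_act _ hv.1
      have hz : Zp (v + hh v u • u) := ⟨hns, l, hnew⟩
      refine ⟨hz, uniq hns hnew (conj_mem' K.C.hyp (hS v hv).1 (hS u hu).1) ?_ ?_ (hS _ hz).1 (hS _ hz).2
        (hfix _ hz l hnew)⟩
      · rw [map_mul, map_mul, (hS v hv).2, (hS u hu).2, pt_refl hu.1 hv.1]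
      · have e1 := hfix u hu l hl
        have e2 := hfix v hv l hlv
        calc σ l * (S u * S v * S u) * (σ l)⁻¹ = (σ l * S u * (σ l)⁻¹) * (σ l * S v * (σ l)⁻¹) *
              (σ l * S u * (σ l)⁻¹) := by group
          _ = _ := by rw [e1, e2]
    · rw [e, zero_smul, add_zero]
      refine ⟨hv, ?_⟩
      have hc := K.comm_of_orth (hS u hu).1 (hS v hv).1 hu.1 hv.1 (hS u hu).2 (hS v hv).2
        (h_comm_zero (card_sq h4) e)
      rw [hc.eq, mul_assoc, ThreeTrans.mul_self K.C.cls.1 (hS u hu).1, mul_one]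

end Four

end Cfsg.Agent.Fus.TwoRadical
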