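import Cfsg.Agent.Lib.Fus.TwoRadical.UnitFourFrame

/-!
The members over the points with a zero coordinate generate a group of monomial type: an abelian group of
exponent three times the group of the coordinate swaps.
-/

set_option autoImplicit false
set_option linter.style.haveILetI false
set_option linter.unusedSectionVars false
set_option linter.unusedSimpArgs false

namespace Cfsg.Agent.Fus.TwoRadical.Four

open Matrix Cfsg Cfsg.Agent.Spor Cfsg.Agent.Fus.SUTwoRadical Cfsg.Agent.Classical Cfsg.Agent.Classical.PSUAut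
open Cfsg.Agent.Spor.UnitTwo Cfsg.Agent.Block.FischerTypes Cfsg.Agent.Fus.TwoRadical.Unit

universe u v

variable {G : Type u} [Group G] [Finite G] {H : Type v} [Group H] [Finite H] {π : G →* H} {D : Set G}
  {F : Type} [Field F] [Fintype F] {h4 : Fintype.card F = 4} {ψ : H ≃* SU 4 F 2} {w : F}

local notation "hh" => hermForm 4 F 2

/-- A compatible choice of members over the points with a zero coordinate. -/
structure Sec (π : G →* H) (D : Set G) (h4 : Fintype.card F = 4) (ψ : H ≃* SU 4 F 2)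
    (S : (Fin 4 → F) → G) : Prop where
  mem : ∀ v, Zp v → S v ∈ D ∧ π (S v) = pt h4 ψ v
  smul : ∀ v (a : F), a ≠ 0 → Zp v → S (a • v) = S v
  gen : ∀ u v, Zp u → Zp v → Zp (v + hh v u • u) ∧ S u * S v * S u = S (v + hh v u • u)

/-- The group of the chosen members. -/
def MM (S : (Fin 4 → F) → G) : Subgroup G := Subgroup.closure (S '' {v | Zp v})

/-- Products of two members of one pair. -/
def pairs (S : (Fin 4 → F) → G) : Set G :=
  {c | ∃ (i j : Fin 4) (a b : F), i ≠ j ∧ a ≠ 0 ∧ b ≠ 0 ∧ c = S (pv i j a) * S (pv i j b)}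

/-- The group of the pair products. -/
def T1 (S : (Fin 4 → F) → G) : Subgroup G := Subgroup.closure (pairs S)

/-- The group of the coordinate swaps. -/
def S4 (S : (Fin 4 → F) → G) : Subgroup G :=
  Subgroup.closure {c | ∃ i j : Fin 4, i ≠ j ∧ c = S (pv i j 1)}

theorem exists_other : ∀ i j : Fin 4, ∃ l, l ≠ i ∧ l ≠ j := by decide

include h4 in
theorem zp_pv {i j : Fin 4} (hij : i ≠ j) {a : F} (ha : a ≠ 0) : Zp (pv i j a) := by
  obtain ⟨l, h1, h2⟩ := exists_other i j
  exact ⟨⟨pv_ne i j hij a, pv_iso h4 hij ha⟩, l, by simp [pv_apply, h1, h2]⟩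

variable (K : Four π D h4 ψ w) {S : (Fin 4 → F) → G} (hS : Sec π D h4 ψ S)

include K hS

omit K in
theorem pairs_mem {c : G} (hc : c ∈ pairs S) : c ∈ MM S := by
  obtain ⟨i, j, a, b, hij, ha, hb, rfl⟩ := hc
  exact mul_mem (Subgroup.subset_closure ⟨_, zp_pv (h4 := h4) hij ha, rfl⟩)
    (Subgroup.subset_closure ⟨_, zp_pv (h4 := h4) hij hb, rfl⟩)

theorem sq {v : Fin 4 → F} (hv : Zp v) : S v * S v = 1 := ThreeTrans.mul_self K.C.cls.1 (hS.mem v hv).1

theorem inv {v : Fin 4 → F} (hv : Zp v) : (S v)⁻¹ = S v := inv_eq_of_mul_eq_one_right (sq K hS hv)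

omit K in
theorem act_S {u : Fin 4 → F} (hu : Zp u) (x : Fin 4 → F) : act ψ (π (S u)) x = x + hh x u • u := by
  rw [(hS.mem u hu).2, act_pt hu.1]

/-- Conjugation within the group follows the action. -/
theorem equiv {g : G} (hg : g ∈ MM S) {v : Fin 4 → F} (hv : Zp v) :
    Zp (act ψ (π g) v) ∧ g * S v * g⁻¹ = S (act ψ (π g) v) := by
  revert v
  induction hg using Subgroup.closure_induction_left with
  | one => intro v hv; rw [map_one, act_one]; exact ⟨hv, by simp⟩
  | mul_left e he t _ ih =>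
    intro v hv
    obtain ⟨u, hu, rfl⟩ := he
    obtain ⟨hz, e1⟩ := ih hv
    rw [map_mul, act_mul, act_S hS hu]
    refine ⟨(hS.gen u _ hu hz).1, ?_⟩
    rw [show S u * t * S v * (S u * t)⁻¹ = S u * (t * S v * t⁻¹) * (S u)⁻¹ by group, e1, inv K hS hu]
    exact (hS.gen u _ hu hz).2
  | inv_mul_cancel e he t _ ih =>
    intro v hv
    obtain ⟨u, hu, rfl⟩ := he
    obtain ⟨hz, e1⟩ := ih hv
    rw [inv K hS hu, map_mul, act_mul, act_S hS hu]
    refine ⟨(hS.gen u _ hu hz).1, ?_⟩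
    rw [show S u * t * S v * (S u * t)⁻¹ = S u * (t * S v * t⁻¹) * (S u)⁻¹ by group, e1, inv K hS hu]
    exact (hS.gen u _ hu hz).2

omit K in
theorem act_pv {i j : Fin 4} (hij : i ≠ j) {a : F} (ha : a ≠ 0) (x : Fin 4 → F) (k : Fin 4) :
    act ψ (π (S (pv i j a))) x k = if k = i then a ^ 2 * x j else if k = j then a * x i else x k := by
  rw [act_S hS (zp_pv (h4 := h4) hij ha), ← T_pv h4 hij ha x k, T_apply h4]

omit K in
theorem pair_act {i j : Fin 4} (hij : i ≠ j) {a b : F} (ha : a ≠ 0) (hb : b ≠ 0) (x : Fin 4 → F) (k : Fin 4) :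
    act ψ (π (S (pv i j a) * S (pv i j b))) x k =
      (if k = i then a ^ 2 * b else if k = j then a * b ^ 2 else 1) * x k := by
  rw [map_mul, act_mul, act_pv hS hij ha, act_pv hS hij hb, act_pv hS hij hb, act_pv hS hij hb]
  by_cases ki : k = i
  · subst ki; simp [hij, hij.symm]; ring
  by_cases kj : k = j
  · subst kj; simp [ki, hij, hij.symm]; ring
  simp [ki, kj]

omit K in
theorem T1_diag {t : G} (ht : t ∈ T1 S) : π t ∈ Diag ψ := by
  refine (Subgroup.closure_le ((Diag ψ).comap π)).2 ?_ ht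
  rintro _ ⟨i, j, a, b, hij, ha, hb, rfl⟩
  exact ⟨_, pair_act hS hij ha hb⟩

omit K in
theorem T1_le : T1 S ≤ MM S := (Subgroup.closure_le _).2 fun _ hc => pairs_mem hS hc

omit K in
theorem S_pv {v : Fin 4 → F} {i j : Fin 4} {a c : F} (hij : i ≠ j) (ha : a ≠ 0) (hc : c ≠ 0)
    (e : v = c • pv i j a) : S v = S (pv i j a) := by rw [e, hS.smul _ c hc (zp_pv (h4 := h4) hij ha)]

/-- The pair products are permuted by the members. -/
theorem pairs_conj {u : Fin 4 → F} (hu : Zp u) {c : G} (hc : c ∈ pairs S) : S u * c * S u ∈ pairs S := by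
  obtain ⟨k, l, b', c', hkl, hb', hc', rfl⟩ := eq_smul_pv h4 hu.1.1 hu.1.2 hu.2.choose_spec
  rw [S_pv hS hkl hb' hc' rfl]
  obtain ⟨i, j, a, b, hij, ha, hb, rfl⟩ := hc
  have hz := zp_pv (h4 := h4) hkl hb'
  obtain ⟨i', j', r, hij', hr, himg⟩ := T_pv_pv h4 hkl hb' hij
  have key : ∀ a : F, a ≠ 0 → S (pv k l b') * S (pv i j a) * S (pv k l b') = S (pv i' j' (r * a)) := fun a ha => by
    obtain ⟨c, hc, e⟩ := himg a
    rw [(hS.gen _ _ hz (zp_pv (h4 := h4) hij ha)).2]
    refine S_pv hS hij' (mul_ne_zero hr ha) hc ?_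
    rw [← e, T_apply h4]
  refine ⟨i', j', r * a, r * b, hij', mul_ne_zero hr ha, mul_ne_zero hr hb, ?_⟩
  rw [← key a ha, ← key b hb]
  simp only [mul_assoc, ← mul_assoc (S (pv k l b')) (S (pv k l b')), sq K hS hz, one_mul]

/-- Within a pair a product depends only on the quotient of the two factors. -/
theorem shift {i j : Fin 4} (hij : i ≠ j) {a b r : F} (ha : a ≠ 0) (hb : b ≠ 0) (hr : r ≠ 0) :
    S (pv i j (r * a)) * S (pv i j (r * b)) = S (pv i j a) * S (pv i j b) := by
  have z : ∀ {x : F}, x ≠ 0 → Zp (pv i j x) := fun hx => zp_pv (h4 := h4) hij hx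
  by_cases hab : a = b
  · subst hab
    rw [sq K hS (z ha), sq K hS (z (mul_ne_zero hr ha))]
  have line : ∀ {x y : F}, x ≠ 0 → y ≠ 0 → x ≠ y → x + y ≠ 0 ∧
      S (pv i j x) * S (pv i j y) * S (pv i j x) = S (pv i j (x + y)) := by
    intro x y hx hy hxy
    have h0 : x + y ≠ 0 := fun e => hxy (by linear_combination e - add_self h4 y)
    refine ⟨h0, ?_⟩
    rw [(hS.gen _ _ (z hx) (z hy)).2]
    refine S_pv hS hij h0 (mul_ne_zero (pow_ne_zero 2 hx) hy) ?_
    rw [← T_pv_same h4 hij hx hy hxy, T_apply h4]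
  obtain ⟨-, e1⟩ := line ha hb hab
  obtain ⟨-, e2⟩ := line hb ha (Ne.symm hab)
  rcases shift_cases h4 hr ha hb hab with rfl | ⟨p, q⟩ | ⟨p, q⟩
  · rw [one_mul, one_mul]
  · rw [p, q, add_comm, ← e2]
    simp only [← mul_assoc, sq K hS (z hb), one_mul]
  · rw [p, q, ← e1, mul_assoc, sq K hS (z ha), mul_one]

theorem pairs_comm {c c' : G} (hc : c ∈ pairs S) (hc' : c' ∈ pairs S) : Commute c c' := by
  obtain ⟨i, j, a, b, hij, ha, hb, rfl⟩ := hc'
  obtain ⟨d, hd⟩ := T1_diag hS (Subgroup.subset_closure hc)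
  have hmem := pairs_mem hS hc
  have move : ∀ {x : F}, x ≠ 0 → d j / d i * x ≠ 0 ∧ c * S (pv i j x) * c⁻¹ = S (pv i j (d j / d i * x)) := by
    intro x hx
    obtain ⟨hz, e⟩ := equiv K hS hmem (zp_pv (h4 := h4) hij hx)
    have ev : act ψ (π c) (pv i j x) = d i • pv i j (d j / d i * x) := funext fun k => by
      rw [hd, Pi.smul_apply, pv_apply, pv_apply, smul_eq_mul]
      have hdi : d i ≠ 0 := fun z => by
        have h0 := hd (act ψ (π c)⁻¹ (fun _ => 1)) i
        rw [← act_mul, mul_inv_cancel, act_one, z, zero_mul] at h0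
        exact one_ne_zero h0
      by_cases ki : k = i
      · subst ki; simp [hij]
      by_cases kj : k = j
      · subst kj; simp [ki]; rw [← mul_assoc, mul_div_cancel₀ _ hdi]
      simp [ki, kj]
    have hne : ∀ k, d k ≠ 0 := fun k z => by
      have h0 := hd (act ψ (π c)⁻¹ (fun _ => 1)) k
      rw [← act_mul, mul_inv_cancel, act_one, z, zero_mul] at h0
      exact one_ne_zero h0
    have h0 : d j / d i * x ≠ 0 := mul_ne_zero (div_ne_zero (hne j) (hne i)) hx
    exact ⟨h0, e.trans (S_pv hS hij h0 (hne i) ev)⟩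
  obtain ⟨h1, ea⟩ := move ha
  obtain ⟨-, eb⟩ := move hb
  have : c * (S (pv i j a) * S (pv i j b)) * c⁻¹ = S (pv i j a) * S (pv i j b) := by
    rw [show c * (S (pv i j a) * S (pv i j b)) * c⁻¹ = (c * S (pv i j a) * c⁻¹) * (c * S (pv i j b) * c⁻¹) by group,
      ea, eb]
    exact shift K hS hij ha hb (left_ne_zero_of_mul h1)
  exact mul_inv_eq_iff_eq_mul.1 this

theorem T1_comm {s t : G} (hs : s ∈ T1 S) (ht : t ∈ T1 S) : Commute s t := by
  have h1 : ∀ c ∈ pairs S, T1 S ≤ Subgroup.centralizer {c} := fun c hc => (Subgroup.closure_le _).2 fun c' hc' =>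
    Subgroup.mem_centralizer_singleton_iff.2 (pairs_comm K hS hc' hc).eq
  have h2 : T1 S ≤ Subgroup.centralizer {t} := (Subgroup.closure_le _).2 fun c hc =>
    Subgroup.mem_centralizer_singleton_iff.2 (Subgroup.mem_centralizer_singleton_iff.1 (h1 c hc ht)).symm
  exact Subgroup.mem_centralizer_singleton_iff.1 (h2 hs)

theorem T1_cube {t : G} (ht : t ∈ T1 S) : t ^ 3 = 1 := by
  induction ht using Subgroup.closure_induction with
  | mem c hc =>
    obtain ⟨i, j, a, b, hij, ha, hb, rfl⟩ := hc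
    have za := zp_pv (h4 := h4) hij ha
    have zb := zp_pv (h4 := h4) hij hb
    by_cases hab : a = b
    · subst hab; rw [sq K hS za, one_pow]
    refine (K.C.cls.1.2 _ (hS.mem _ za).1 _ (hS.mem _ zb).1).resolve_left fun k => hab ?_
    have hc : Commute (pt h4 ψ (pv i j a)) (pt h4 ψ (pv i j b)) := by
      rw [← (hS.mem _ za).2, ← (hS.mem _ zb).2]
      refine Commute.map ?_ π
      have e : S (pv i j a) * S (pv i j b) = (S (pv i j a) * S (pv i j b))⁻¹ :=
        eq_inv_of_mul_eq_one_left (by rwa [← pow_two])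
      rwa [_root_.mul_inv_rev, inv K hS za, inv K hS zb] at e
    have h0 := (pt_comm za.1 zb.1).1 hc
    rw [hh_pv hij, pv_apply, pv_apply] at h0
    simp [hij, hij.symm] at h0
    linear_combination b * h0 - a * cube h4 hb - add_self h4 b
  | one => exact one_pow 3
  | mul x y hx hy ihx ihy => rw [(T1_comm K hS hx hy).mul_pow, ihx, ihy, one_mul]
  | inv x _ ih => rw [inv_pow, ih, inv_one]

/-- An element of the group is a pair product times swaps. -/
theorem decomp {g : G} (hg : g ∈ MM S) : ∃ t ∈ T1 S, ∃ s ∈ S4 S, g = t * s := by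
  have hnorm : ∀ {u : Fin 4 → F}, Zp u → ∀ {t : G}, t ∈ T1 S → S u * t * S u ∈ T1 S := by
    intro u hu t ht
    have hle : (T1 S).map (MulAut.conj (S u)).toMonoidHom ≤ T1 S := by
      rw [T1, MonoidHom.map_closure, Subgroup.closure_le]
      rintro _ ⟨c, hc, rfl⟩
      refine Subgroup.subset_closure ?_
      simpa [inv K hS hu] using pairs_conj K hS hu hc
    simpa [inv K hS hu] using hle ⟨t, ht, rfl⟩
  have step : ∀ {u : Fin 4 → F}, Zp u → ∀ {x : G}, (∃ t ∈ T1 S, ∃ s ∈ S4 S, x = t * s) →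
      ∃ t ∈ T1 S, ∃ s ∈ S4 S, S u * x = t * s := by
    intro u hu x hx
    obtain ⟨t, ht, s, hs, rfl⟩ := hx
    obtain ⟨i, j, a, c, hij, ha, hc, eu⟩ := eq_smul_pv h4 hu.1.1 hu.1.2 hu.2.choose_spec
    have e := S_pv hS hij ha hc eu
    have z1 := zp_pv (h4 := h4) hij (one_ne_zero (α := F))
    refine ⟨S u * t * S u * (S (pv i j a) * S (pv i j 1)),
      mul_mem (hnorm hu ht) (Subgroup.subset_closure ⟨i, j, a, 1, hij, ha, one_ne_zero, rfl⟩),
      S (pv i j 1) * s, mul_mem (Subgroup.subset_closure ⟨i, j, hij, rfl⟩) hs, ?_⟩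
    calc S u * (t * s) = S u * t * (S u * S u) * (S (pv i j 1) * S (pv i j 1)) * s := by
          rw [sq K hS hu, sq K hS z1, mul_one, mul_one, mul_assoc]
      _ = _ := by rw [← e]; simp only [mul_assoc]
  induction hg using Subgroup.closure_induction_left with
  | one => exact ⟨1, one_mem _, 1, one_mem _, (mul_one 1).symm⟩
  | mul_left e he t _ ih => obtain ⟨u, hu, rfl⟩ := he; exact step hu ih
  | inv_mul_cancel e he t _ ih => obtain ⟨u, hu, rfl⟩ := he; rw [inv K hS hu]; exact step hu ih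

/-- Swaps fix the point of ones and its members. -/
theorem S4_fix {s : G} (hs : s ∈ S4 S) :
    act ψ (π s) (v0 F) = v0 F ∧ ∀ d ∈ D, π d = pt h4 ψ (v0 F) → Commute s d := by
  induction hs using Subgroup.closure_induction with
  | mem c hc =>
    obtain ⟨i, j, hij, rfl⟩ := hc
    have z1 := zp_pv (h4 := h4) hij (one_ne_zero (α := F))
    refine ⟨by rw [act_S hS z1, v0_pv h4 hij, zero_smul, add_zero], fun d hd ed => ?_⟩
    exact K.comm_of_orth (hS.mem _ z1).1 hd z1.1 ⟨v0_ne, v0_iso h4⟩ (hS.mem _ z1).2 ed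
      (h_comm_zero (card_sq h4) (v0_pv h4 hij))
  | one => exact ⟨by rw [map_one, act_one], fun d _ _ => Commute.one_left d⟩
  | mul x y _ _ ihx ihy =>
    exact ⟨by rw [map_mul, act_mul, ihy.1, ihx.1], fun d hd ed => (ihx.2 d hd ed).mul_left (ihy.2 d hd ed)⟩
  | inv x _ ih =>
    refine ⟨?_, fun d hd ed => (ih.2 d hd ed).inv_left⟩
    conv_lhs => rw [← ih.1]
    rw [← act_mul, map_inv, inv_mul_cancel, act_one]

/-- An element of the group fixing the point of ones fixes its members. -/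
theorem stab_ones {g : G} (hg : g ∈ MM S) (he : pt h4 ψ (act ψ (π g) (v0 F)) = pt h4 ψ (v0 F)) {d : G}
    (hd : d ∈ D) (ed : π d = pt h4 ψ (v0 F)) : Commute g d := by
  have hv : Sing (v0 F) := ⟨v0_ne, v0_iso h4⟩
  obtain ⟨t, ht, s, hs, rfl⟩ := decomp K hS hg
  obtain ⟨e0, hcomm⟩ := S4_fix K hS hs
  rw [map_mul, act_mul, e0] at he
  obtain ⟨a, ha, ea⟩ := pt_eq (sing_act _ hv) hv he
  obtain ⟨dd, hdd⟩ := T1_diag hS ht
  have hda : ∀ k, dd k = a := fun k => by
    have := hdd (v0 F) k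
    rw [ea] at this
    simpa [v0] using this.symm
  have hsv : suVal (ψ (π t)) = a • (1 : Matrix (Fin 4) (Fin 4) F) := Matrix.ext_iff_mulVec.2 fun x => funext fun k => by
    show act ψ (π t) x k = _
    rw [hdd, hda, Matrix.smul_mulVec, Matrix.one_mulVec]; rfl
  have hdet : (suVal (ψ (π t))).det = 1 := (ψ (π t)).1.2
  rw [hsv, Matrix.det_smul, Matrix.det_one, mul_one, Fintype.card_fin] at hdet
  have ha1 : a = 1 := by linear_combination hdet - a * cube h4 ha
  have hπ : π t = 1 := ψ.injective (by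
    rw [map_one]
    exact suVal_ext (hsv.trans (by rw [ha1, one_smul]; rfl)))
  have := eq_one_of_radical K.C hπ (k := 1) (by rw [pow_one]; exact T1_cube K hS ht)
  rw [this, one_mul]
  exact hcomm d hd ed

omit K in
/-- Every diagonal vector of product one is reached. -/
theorem realise {a : Fin 4 → F} (ha : ∀ k, a k ≠ 0) (hp : a 0 * a 1 * a 2 * a 3 = 1) :
    ∃ t ∈ T1 S, ∀ x k, act ψ (π t) x k = a k * x k := by
  have gen : ∀ (i j : Fin 4) {b : F}, i ≠ j → b ≠ 0 → S (pv i j 1) * S (pv i j b) ∈ T1 S :=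
    fun i j {b} hij hb => Subgroup.subset_closure ⟨i, j, 1, b, hij, one_ne_zero, hb, rfl⟩
  have h01 : a 0 * a 1 ≠ 0 := mul_ne_zero (ha 0) (ha 1)
  have h012 : a 0 * a 1 * a 2 ≠ 0 := mul_ne_zero h01 (ha 2)
  refine ⟨_, mul_mem (mul_mem (gen 0 1 (by decide) (ha 0)) (gen 1 2 (by decide) h01))
    (gen 2 3 (by decide) h012), fun x k => ?_⟩
  rw [map_mul, act_mul, map_mul, act_mul, pair_act hS (by decide) one_ne_zero (ha 0),
    pair_act hS (by decide) one_ne_zero h01, pair_act hS (by decide) one_ne_zero h012]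
  have c0 := cube h4 (ha 0)
  have c1 := cube h4 (ha 1)
  have c2 := cube h4 (ha 2)
  have c01 := cube h4 h01
  have c012 := cube h4 h012
  fin_cases k <;> simp
  · linear_combination x 1 * a 1 * c0
  · linear_combination x 2 * a 2 * c01
  · left; linear_combination a 3 * c012 - (a 0 * a 1 * a 2) ^ 2 * hp

end Cfsg.Agent.Fus.TwoRadical.Four
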