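import Cfsg.Agent.Lib.Block.FischerTypes.U6Count
import Cfsg.Agent.Lib.Spor.ThreeTransRank

/-!
In `SU_n(2)`, `n ≥ 6` or `n = 4`, an element fixing a singular vector is a product of transvections orthogonal to
it, and an element fixing the first coordinates one of transvections orthogonal to these.
-/

set_option autoImplicit false
set_option linter.style.haveILetI false
set_option linter.unusedSectionVars false

namespace Cfsg.Agent.Fus.TwoRadical.Unit

open Matrix Cfsg Cfsg.Agent.Classical Cfsg.Agent.Classical.PSUAut Cfsg.Agent.Spor.UnitTwo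
open Cfsg.Agent.Block.FischerTypes Cfsg.Agent.Spor

variable {F : Type} [Field F] [Fintype F] {m k n : ℕ} (h4 : Fintype.card F = 4)

local notation "hF" => card_sq h4

/-- The transvections orthogonal to a set of vectors. -/
def NN (n : ℕ) (P : Set (Fin n → F)) : Subgroup (SU n F 2) :=
  Subgroup.closure {g | ∃ v : Fin n → F, ∃ hv : hermForm n F 2 v v = 0,
    g = tv h4 hv ∧ ∀ p ∈ P, hermForm n F 2 p v = 0}

theorem NN_fix {P : Set (Fin n → F)} {g : SU n F 2} (hg : g ∈ NN h4 n P) :
    ∀ p ∈ P, suVal g *ᵥ p = p := by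
  induction hg using Subgroup.closure_induction with
  | mem g hg =>
    obtain ⟨v, hv, rfl, h0⟩ := hg
    intro p hp
    rw [suVal_tv h4, T_apply h4, h0 p hp, zero_smul, add_zero]
  | one => intro p _; exact Matrix.one_mulVec p
  | mul a b _ _ iha ihb => intro p hp; rw [suVal_mul, ← Matrix.mulVec_mulVec, ihb p hp, iha p hp]
  | inv a _ iha =>
    intro p hp
    have e := iha p hp
    conv_lhs => rw [← e]
    rw [Matrix.mulVec_mulVec, ← suVal_mul, inv_mul_cancel]
    exact Matrix.one_mulVec p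

omit [Fintype F] in
theorem h_append (a a' : Fin m → F) (b b' : Fin k → F) :
    hermForm (m + k) F 2 (Fin.append a b) (Fin.append a' b') = hermForm m F 2 a a' + hermForm k F 2 b b' := by
  simp [hermForm, Fin.sum_univ_add]

/-- A block matrix fixing the first coordinates. -/
def blockM (m : ℕ) (B : Matrix (Fin k) (Fin k) F) : Matrix (Fin (m + k)) (Fin (m + k)) F :=
  (Matrix.fromBlocks (1 : Matrix (Fin m) (Fin m) F) 0 0 B).submatrix finSumFinEquiv.symm finSumFinEquiv.symm

omit [Fintype F] in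
theorem blockM_mulVec (B : Matrix (Fin k) (Fin k) F) (a : Fin m → F) (b : Fin k → F) :
    blockM m B *ᵥ Fin.append a b = Fin.append a (B *ᵥ b) := by
  rw [blockM, Matrix.submatrix_mulVec_equiv, Equiv.symm_symm]
  have h1 : Fin.append a b ∘ finSumFinEquiv = Sum.elim a b := by funext i; rcases i with i | i <;> simp
  rw [h1, Matrix.fromBlocks_mulVec]
  funext i
  refine Fin.addCases (fun i => ?_) (fun i => ?_) i <;> simp

omit [Fintype F] in
theorem vec_split (x : Fin (m + k) → F) :
    x = Fin.append (fun i => x (Fin.castAdd k i)) (fun i => x (Fin.natAdd m i)) :=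
  Fin.append_castAdd_natAdd.symm

omit [Fintype F] in
theorem det_blockM (B : Matrix (Fin k) (Fin k) F) : (blockM m B).det = B.det := by
  rw [blockM, Matrix.det_submatrix_equiv_self, Matrix.det_fromBlocks_zero₂₁, Matrix.det_one, one_mul]

omit [Fintype F] in
theorem ext_append {s t : SU (m + k) F 2}
    (H : ∀ a b, suVal s *ᵥ Fin.append a b = suVal t *ᵥ Fin.append a b) : s = t :=
  suVal_ext (Matrix.ext_iff_mulVec.2 fun x => by rw [vec_split x]; exact H _ _)

/-- The embedding on the last coordinates. -/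
def embR (m : ℕ) : SU k F 2 →* SU (m + k) F 2 where
  toFun s := ⟨⟨blockM m (suVal s), (det_blockM _).trans s.1.2⟩, fun x y => by
    show hermForm (m + k) F 2 (blockM m (suVal s) *ᵥ x) (blockM m (suVal s) *ᵥ y) = _
    rw [vec_split x, vec_split y, blockM_mulVec, blockM_mulVec, h_append, h_append, su_form]⟩
  map_one' := ext_append fun a b => by
    show blockM m (suVal (1 : SU k F 2)) *ᵥ _ = (1 : Matrix _ _ F) *ᵥ _
    rw [blockM_mulVec, Matrix.one_mulVec, show suVal (1 : SU k F 2) = 1 from rfl, Matrix.one_mulVec]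
  map_mul' s t := ext_append fun a b => by
    show blockM m (suVal (s * t)) *ᵥ _ = (blockM m (suVal s) * blockM m (suVal t)) *ᵥ _
    rw [← Matrix.mulVec_mulVec, blockM_mulVec, blockM_mulVec, blockM_mulVec, suVal_mul, Matrix.mulVec_mulVec]

include h4 in
/-- The transvections generate in degree two and in degrees at least four. -/
theorem closure_rank_one (hk : 4 ≤ k ∨ k = 2) :
    Subgroup.closure {g : SU k F 2 | (suVal g - 1).rank = 1} = ⊤ := by
  rcases hk with hk | rfl
  · exact (UnitTwo.isThreeTranspositionClass (n := k) h4 hk).2.2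
  refine eq_top_iff.2 fun s _ => ?_
  have hF2 := hF
  obtain ⟨w, hw0, hw1, hww, hwc, hall⟩ := U6.exists_omega h4
  -- the transvection exchanging the coordinate lines
  have anti : ∀ l : F, l ≠ 0 → ∃ g : SU 2 F 2, g ∈ Subgroup.closure {g : SU 2 F 2 | (suVal g - 1).rank = 1} ∧
      suVal g 0 0 = 0 ∧ suVal g 1 0 = l ∧ suVal g 1 1 = 0 ∧ suVal g 0 1 = l ^ 2 := by
    intro l hl
    have hn : l ^ 3 = 1 := by
      have := FiniteField.pow_card_sub_one_eq_one l hl; rwa [h4] at this
    have hv : hermForm 2 F 2 ![1, l] ![1, l] = 0 := by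
      simp [hermForm, Fin.sum_univ_two]
      linear_combination hn + add_self h4 (1 : F)
    have hv0 : (![1, l] : Fin 2 → F) ≠ 0 := fun e => one_ne_zero (α := F) (congrFun e 0)
    have col : ∀ i j, suVal (tv h4 hv) i j = (suVal (tv h4 hv) *ᵥ Pi.single j 1) i := fun i j => by
      rw [Matrix.mulVec_single_one]; rfl
    refine ⟨tv h4 hv, Subgroup.subset_closure ((rank_one_iff h4 _).2 ⟨_, hv0, hv, rfl⟩), ?_, ?_, ?_, ?_⟩ <;>
      rw [col, suVal_tv h4, T_apply h4] <;> simp [hermForm, Fin.sum_univ_two, Pi.single_apply]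
    · linear_combination add_self h4 (1 : F)
    · linear_combination hn + add_self h4 (1 : F)
  have form := fun i j => su_form s (Pi.single i 1) (Pi.single j 1)
  have e00 := form 0 0
  have e11 := form 1 1
  have e01 := form 0 1
  simp [hermForm, Fin.sum_univ_two, Matrix.mulVec_single_one, Pi.single_apply] at e00 e11 e01
  have hdet : (suVal s).det = 1 := s.1.2
  rw [Matrix.det_fin_two] at hdet
  by_cases ha : suVal s 0 0 = 0
  · have hc : suVal s 1 0 ≠ 0 := fun e => by simp [ha, e] at e00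
    have hd : suVal s 1 1 = 0 := by simpa [ha, hc] using e01
    have hb : suVal s 0 1 * suVal s 1 0 = 1 := by
      rw [ha, zero_mul, zero_sub, UnitTwo.neg_eq h4] at hdet; exact hdet
    obtain ⟨g, hg, g00, g10, g11, g01⟩ := anti _ hc
    convert hg
    refine suVal_ext (Matrix.ext fun i j => ?_)
    have hn := FiniteField.pow_card_sub_one_eq_one _ hc
    rw [h4] at hn
    fin_cases i <;> fin_cases j <;> simp [g00, g10, g11, g01, ha, hd]
    exact mul_right_cancel₀ hc (hb.trans (by linear_combination -hn))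
  · have hc : suVal s 1 0 = 0 := by
      by_contra k
      have r := FiniteField.pow_card_sub_one_eq_one _ k
      have r' := FiniteField.pow_card_sub_one_eq_one _ ha
      rw [h4] at r r'
      exact one_ne_zero (α := F) (by linear_combination e00 - r - r')
    have hb : suVal s 0 1 = 0 := by simpa [ha, hc] using e01
    have hd : suVal s 0 0 * suVal s 1 1 = 1 := by simpa [hc, hb] using hdet
    obtain ⟨g, hg, g00, g10, g11, g01⟩ := anti 1 one_ne_zero
    obtain ⟨g', hg', g00', g10', g11', g01'⟩ := anti (suVal s 1 1) fun e => by simp [e] at hd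
    convert mul_mem hg' hg
    refine suVal_ext (Matrix.ext fun i j => ?_)
    have hn := FiniteField.pow_card_sub_one_eq_one _ (show suVal s 1 1 ≠ 0 from fun e => by simp [e] at hd)
    rw [h4] at hn
    fin_cases i <;> fin_cases j <;>
      simp [suVal_mul, Matrix.mul_apply, Fin.sum_univ_two, g00, g10, g11, g01, g00', g10', g11', g01', hb, hc]
    linear_combination (suVal s 1 1 ^ 2) * hd - (suVal s 0 0) * hn

/-- An element fixing the first coordinates is a product of transvections orthogonal to them. -/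
theorem mem_NN_of_fix (hk : 4 ≤ k ∨ k = 2) {t : SU (m + k) F 2}
    (ht : ∀ a : Fin m → F, suVal t *ᵥ Fin.append a 0 = Fin.append a 0) {P : Set (Fin (m + k) → F)}
    (hP : ∀ p ∈ P, ∃ a : Fin m → F, p = Fin.append a 0) : t ∈ NN h4 (m + k) P := by
  classical
  have happ : ∀ a b, Fin.append a b = Fin.append a (0 : Fin k → F) + Fin.append (0 : Fin m → F) b := fun a b => by
    funext i
    refine Fin.addCases (fun i => ?_) (fun i => ?_) i <;> simp
  let B : Matrix (Fin k) (Fin k) F := (suVal t).submatrix (Fin.natAdd m) (Fin.natAdd m)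
  have hB : ∀ b, suVal t *ᵥ Fin.append 0 b = Fin.append (0 : Fin m → F) (B *ᵥ b) := fun b => by
    funext i
    refine Fin.addCases (fun i => ?_) (fun i => ?_) i
    · rw [Fin.append_left, Pi.zero_apply]
      have h1 := su_form t (Fin.append 0 b) (Fin.append (Pi.single i (1 : F)) 0)
      rw [ht, vec_split (suVal t *ᵥ Fin.append 0 b), h_append, h_append] at h1
      simpa [hermForm, Pi.single_apply, ite_pow] using h1
    · rw [Fin.append_right]
      simp [Matrix.mulVec, dotProduct, Fin.sum_univ_add, B]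
  have hval : suVal t = blockM m B := Matrix.ext_iff_mulVec.2 fun x => by
    rw [vec_split x, blockM_mulVec, happ, Matrix.mulVec_add, ht, hB, ← happ]
  let s : SU k F 2 := ⟨⟨B, by rw [← det_blockM (m := m), ← hval]; exact t.1.2⟩, fun x y => by
    have h1 := su_form t (Fin.append 0 x) (Fin.append 0 y)
    rw [hB, hB, h_append, h_append] at h1
    exact add_left_cancel h1⟩
  have hts : t = embR m s := suVal_ext hval
  have hle : Subgroup.closure {g : SU k F 2 | (suVal g - 1).rank = 1} ≤ (NN h4 (m + k) P).comap (embR m) := by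
    refine (Subgroup.closure_le _).2 fun g hg => ?_
    obtain ⟨v, -, hv, rfl⟩ := (rank_one_iff h4 g).1 hg
    have hv' : hermForm (m + k) F 2 (Fin.append 0 v) (Fin.append 0 v) = 0 := by
      rw [h_append, hv, h_zero_left, add_zero]
    refine Subgroup.subset_closure ⟨_, hv', ext_append fun a b => ?_, fun p hp => ?_⟩
    · show blockM m (suVal (tv h4 hv)) *ᵥ _ = _
      rw [blockM_mulVec, suVal_tv h4, suVal_tv h4, T_apply h4, T_apply h4, h_append, h_zero_right hF, zero_add]
      funext i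
      refine Fin.addCases (fun i => ?_) (fun i => ?_) i <;> simp
    · obtain ⟨a, rfl⟩ := hP p hp
      rw [h_append, h_zero_right hF, h_zero_left, add_zero]
  rw [hts]
  exact hle (closure_rank_one h4 hk ▸ Subgroup.mem_top s)

/-- The group of the members commuting with a member. -/
def NR (p : PSU n F 2) : Subgroup (PSU n F 2) :=
  Subgroup.closure {z | z ∈ U6.roots h4 n ∧ Commute z p}

theorem map_NN_le (hn : 1 ≤ n) {x : Fin n → F} (hx0 : x ≠ 0) (hx : hermForm n F 2 x x = 0) :
    (NN h4 n {x}).map (suToPSU n F 2) ≤ NR h4 (U6.root h4 hx) := by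
  rw [NN, MonoidHom.map_closure, Subgroup.closure_le]
  rintro _ ⟨_, ⟨v, hv, rfl, h0⟩, rfl⟩
  by_cases hv0 : v = 0
  · subst hv0
    have : tv h4 hv = (1 : SU n F 2) := suVal_ext (Matrix.ext_iff_mulVec.2 fun y => by
      rw [suVal_tv h4, T_apply h4, smul_zero, add_zero]; exact (Matrix.one_mulVec y).symm)
    rw [this, map_one]; exact one_mem _
  exact Subgroup.subset_closure ⟨⟨v, hv0, hv, rfl⟩, ((U6.root_commute h4 hn hx hv hx0 hv0).2 (h0 x rfl)).symm⟩

theorem root_conj (s : SU n F 2) {v : Fin n → F} (hv : hermForm n F 2 v v = 0) :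
    suToPSU n F 2 s * U6.root h4 hv * (suToPSU n F 2 s)⁻¹ =
      U6.root h4 (v := suVal s *ᵥ v) (by rw [su_form]; exact hv) := by
  show suToPSU n F 2 s * suToPSU n F 2 (tv h4 hv) * _ = suToPSU n F 2 (tv h4 _)
  rw [← map_inv, ← map_mul, ← map_mul, suVal_conj h4]

omit [Fintype F] in
theorem mulVec_ne {s : SU n F 2} {v : Fin n → F} (hv : v ≠ 0) : suVal s *ᵥ v ≠ 0 := fun e => hv (by
  have := congrArg (suVal s⁻¹ *ᵥ ·) e
  simp only [Matrix.mulVec_mulVec, ← suVal_mul, inv_mul_cancel, Matrix.mulVec_zero] at this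
  rwa [show suVal (1 : SU n F 2) = 1 from rfl, Matrix.one_mulVec] at this)

/-- An element fixing the first singular vector is a product of orthogonal transvections. -/
theorem stab_first (hk : 4 ≤ k ∨ k = 2) (hR : ThreeTrans.Hyp (U6.roots h4 (2 + k))) {x0 : Fin (2 + k) → F}
    (e0 : x0 = Fin.append ![1, 1] 0) (hx : hermForm (2 + k) F 2 x0 x0 = 0) {s : SU (2 + k) F 2}
    (hs : suVal s *ᵥ x0 = x0) : suToPSU (2 + k) F 2 s ∈ NR h4 (U6.root h4 hx) := by
  obtain ⟨w, hw0, hw1, hww, hwc, -⟩ := U6.exists_omega h4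
  have hsq : ∀ a : F, qFrob hF a = a ^ 2 := fun a => qFrob_apply hF a
  set y0 : Fin (2 + k) → F := Fin.append ![w, w + 1] 0 with ey
  have hxy : hermForm (2 + k) F 2 x0 y0 = 1 := by
    rw [e0, ey, h_append, h_zero_left, add_zero]
    simp [hermForm, Fin.sum_univ_two]
    linear_combination 2 * hww + add_self h4 w + add_self h4 w + add_self h4 1
  have hyy : hermForm (2 + k) F 2 y0 y0 = 0 := by
    rw [ey, h_append, h_zero_left, add_zero]
    simp [hermForm, Fin.sum_univ_two]
    linear_combination (w + w + 3) * hww + (2 * w + 2) * add_self h4 (1 : F) + (w * w + w) * add_self h4 1 + add_self h4 w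
  have hn : 1 ≤ 2 + k := by omega
  have hx0 : x0 ≠ 0 := fun e => one_ne_zero (α := F) (by rw [← hxy, e, h_zero_left])
  have hy0 : y0 ≠ 0 := fun e => one_ne_zero (α := F) (by rw [← hxy, e, h_zero_right hF])
  have ap : ∀ {v : Fin (2 + k) → F} (hv : hermForm (2 + k) F 2 v v = 0), hermForm (2 + k) F 2 x0 v = 1 →
      U6.root h4 hv ∈ ThreeTrans.apart (U6.roots h4 (2 + k)) (U6.root h4 hx) := fun {v} hv hxv => by
    have hv0 : v ≠ 0 := fun e => one_ne_zero (α := F) (by rw [← hxv, e, h_zero_right hF])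
    exact ⟨⟨v, hv0, hv, rfl⟩, fun c => one_ne_zero (α := F) (by
      rw [← hxv, (U6.root_commute h4 hn hx hv hx0 hv0).1 c.symm])⟩
  have hsy : hermForm (2 + k) F 2 (suVal s *ᵥ y0) (suVal s *ᵥ y0) = 0 := by rw [su_form, hyy]
  have hxsy : hermForm (2 + k) F 2 x0 (suVal s *ᵥ y0) = 1 := by
    conv_lhs => rw [← hs]
    rw [su_form, hxy]
  obtain ⟨l, hl, el⟩ := ThreeTrans.transitive_apart hR ⟨x0, hx0, hx, rfl⟩ (ap hyy hxy) (ap hsy hxsy)
  have hloc : ThreeTrans.localGroup (U6.roots h4 (2 + k)) (U6.root h4 hx) ≤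
      (NN h4 (2 + k) {x0}).map (suToPSU (2 + k) F 2) := by
    rw [ThreeTrans.localGroup, Subgroup.closure_le]
    rintro z hz
    have hz' : z ∈ U6.roots h4 (2 + k) ∧ Commute z (U6.root h4 hx) := by
      rcases hz with rfl | hz
      · exact ⟨⟨x0, hx0, hx, rfl⟩, Commute.refl _⟩
      · exact ⟨hz.1, hz.2.2.symm⟩
    obtain ⟨⟨v, hv0, hv, rfl⟩, hc⟩ := hz'
    exact ⟨tv h4 hv, Subgroup.subset_closure ⟨v, hv, rfl, fun p hp => by
      obtain rfl : p = x0 := hp
      exact (U6.root_commute h4 hn hx hv hx0 hv0).1 hc.symm⟩, rfl⟩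
  obtain ⟨l', hl', rfl⟩ := hloc hl
  rw [root_conj h4 l' hyy] at el
  obtain ⟨a, -, ea⟩ := U6.root_eq h4 hn (by rw [su_form]; exact hyy) hsy (mulVec_ne hy0) el
  have hlx := NN_fix h4 hl' x0 rfl
  have ha : a = 1 := by
    have h1 : hermForm (2 + k) F 2 x0 (suVal l' *ᵥ y0) = 1 := by
      conv_lhs => rw [← hlx]
      rw [su_form, hxy]
    rw [ea, h_smul_right hF, hxsy, mul_one] at h1
    exact (qFrob hF).injective (by rw [h1, map_one])
  rw [ha, one_smul] at ea
  set t := l'⁻¹ * s with et
  have fix : ∀ {v : Fin (2 + k) → F}, suVal s *ᵥ v = suVal l' *ᵥ v → suVal t *ᵥ v = v := fun {v} e => by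
    rw [et, suVal_mul, ← Matrix.mulVec_mulVec, e, Matrix.mulVec_mulVec, ← suVal_mul, inv_mul_cancel]
    exact Matrix.one_mulVec v
  have tx : suVal t *ᵥ x0 = x0 := fix (hs.trans hlx.symm)
  have ty : suVal t *ᵥ y0 = y0 := fix ea.symm
  have hmem : t ∈ NN h4 (2 + k) {x0} := by
    refine mem_NN_of_fix h4 hk (fun a => ?_) fun p hp => ⟨![1, 1], hp.trans e0⟩
    have hspan : Fin.append a (0 : Fin k → F) = ((w + 1) * a 0 + w * a 1) • x0 + (a 0 + a 1) • y0 := by
      funext i
      rw [e0, ey]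
      refine Fin.addCases (fun i => ?_) (fun i => ?_) i
      · fin_cases i <;> simp
        · linear_combination (-(a 0)) * add_self h4 w - (a 1) * add_self h4 w
        · linear_combination (-(a 0)) * add_self h4 w - (a 1) * add_self h4 w - (a 0) * add_self h4 1
      · simp
    rw [hspan, Matrix.mulVec_add, Matrix.mulVec_smul, Matrix.mulVec_smul, tx, ty]
  refine map_NN_le h4 hn hx0 hx ⟨s, ?_, rfl⟩
  rw [show s = l' * t by rw [et, mul_inv_cancel_left]]
  exact mul_mem hl' hmem

/-- An element fixing a singular vector is a product of orthogonal transvections. -/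
theorem stab_mem (hk : 4 ≤ k ∨ k = 2) (hR : ThreeTrans.Hyp (U6.roots h4 (2 + k))) {x : Fin (2 + k) → F} (hx0 : x ≠ 0)
    (hx : hermForm (2 + k) F 2 x x = 0) {s : SU (2 + k) F 2} (hs : suVal s *ᵥ x = x) :
    suToPSU (2 + k) F 2 s ∈ NR h4 (U6.root h4 hx) := by
  have hn : 1 ≤ 2 + k := by omega
  obtain ⟨x0, e0⟩ : ∃ x0 : Fin (2 + k) → F, x0 = Fin.append ![1, 1] 0 := ⟨_, rfl⟩
  have hxx : hermForm (2 + k) F 2 x0 x0 = 0 := by
    rw [e0, h_append, h_zero_left, add_zero]
    simp [hermForm, Fin.sum_univ_two, add_self h4]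
  have hx00 : x0 ≠ 0 := fun e => one_ne_zero (α := F) (by
    have := congrFun e (Fin.castAdd k 0)
    simpa [e0] using this)
  obtain ⟨γ, hγ⟩ := ThreeTrans.transitive hR.cls ⟨x0, hx00, hxx, rfl⟩ ⟨x, hx0, hx, rfl⟩
  obtain ⟨g, rfl⟩ := pi_surjective (n := 2 + k) (F := F) (q := 2) γ
  rw [root_conj h4 g hxx] at hγ
  obtain ⟨a, ha, ea⟩ := U6.root_eq h4 hn (by rw [su_form]; exact hxx) hx (mulVec_ne hx00) hγ
  have hfix : suVal (g⁻¹ * s * g) *ᵥ x0 = x0 := by
    rw [suVal_mul, suVal_mul, ← Matrix.mulVec_mulVec, ← Matrix.mulVec_mulVec, ea, Matrix.mulVec_smul, hs, ← ea,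
      Matrix.mulVec_mulVec, ← suVal_mul, inv_mul_cancel]
    exact Matrix.one_mulVec x0
  have hle : NR h4 (U6.root h4 hxx) ≤
      (NR h4 (U6.root h4 hx)).comap (MulAut.conj (suToPSU (2 + k) F 2 g)).toMonoidHom := by
    refine (Subgroup.closure_le _).2 fun z hz => Subgroup.subset_closure
      ⟨ThreeTrans.conj_mem hR.cls _ hz.1, ?_⟩
    have := (ThreeTrans.commute_conj_iff (suToPSU (2 + k) F 2 g) z _).2 hz.2
    rwa [root_conj h4 g hxx, hγ] at this
  have := hle (stab_first h4 hk hR e0 hxx hfix)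
  simpa [MulAut.conj_apply, mul_assoc] using this

end Cfsg.Agent.Fus.TwoRadical.Unit
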